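import Cfsg.Agent.H361.SelfCent
import Cfsg.Agent.Lib.MinNormal
import Cfsg.Agent.Lib.SubnormalJoin
import Cfsg.Agent.H278.ElDefs
import Cfsg.Agent.H341.ThreeList_m3
import Cfsg.Agent.H396.Der
import Mathlib
import Cfsg.Agent.Lib.PGroupCoprimeAction
import Cfsg.Agent.PLocal.CoprimeLift
import Cfsg.Agent.H453.OddM.Real_m3
import Cfsg.Agent.H722.RealP
import Cfsg.Agent.H87.TitsAbs
import Cfsg.Agent.H278.Cov.Defs
import Cfsg.Agent.H439.Der.Tools
import Cfsg.Agent.FastGrp
import Cfsg.Agent.Prune
set_option linter.all false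

section
prune_inst 0x7ffcfefbaff8bddeffff7e7ffef5dfffb9fcffffffdffbfbffedfbffefdf6b677be5fbaf7fec58ff9ed6e0b630f87b53fbffceffef6bdd7ffffd5ff45ffbff9fffffbf8d11f6b83e0f766ffffbf17fbf7f3fffffffffffffffffffffffffffffffffffffffff

-- part: H257/El/Top
section
prune_inst 0x10000100002210000018001000000440000000000000000100000100080088000000000100200012002080c000000040010000000000000000000000000000000001060000500808800000000004000000000000000000000000000000000000000000000
set_option linter.all false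
open scoped Cfsg.Agent.FastGrp

/-!
# The top of a group with a Sylow subgroup of prime order (helper257)

`R` finite, `r` a prime, `r ∥ |R|`.  `Top R r O N` : `O` is normal of order prime to `r`, `R ⧸ O` has no nontrivial
normal subgroup of order prime to `r`, and `N` is a normal simple subgroup of `R ⧸ O` of order divisible by `r`.

* `exists_top`
* `Top.not_dvd_core` : if `R` has no element of order `r s` and no power `s ^ b ∣ |R|`, `b ≥ 1`, is `1` modulo `r` then
  `s ∤ |O|`
* `Top.dvd_simple` : then `s ∣ |N|` if `s ∣ |R|`, `s ∤ r - 1`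
* `Top.lift_cent` : if `N` is not commutative, `s ∥ |R|`, `s ∣ |O|` then some element of order `s` has a centralizer
  which covers `N`
-/

set_option autoImplicit false

namespace Cfsg.Agent.H257.El

open Subgroup
open Cfsg.Agent.H361.SelfCent (card_modEq_of_perm)

/-- The situation. -/
structure Top (R : Type*) [Group R] (r : ℕ) (O : Subgroup R) [O.Normal] (N : Subgroup (R ⧸ O)) : Prop where
  prime : r.Prime
  dvdR : r ∣ Nat.card R
  sq : ¬ r ^ 2 ∣ Nat.card R
  core : ¬ r ∣ Nat.card O
  bot : ∀ M : Subgroup (R ⧸ O), M.Normal → ¬ r ∣ Nat.card M → M = ⊥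
  normal : N.Normal
  simple : IsSimpleGroup N
  dvd : r ∣ Nat.card N

variable {R : Type*} [Group R] [Finite R] {r : ℕ}

/-- a minimal normal subgroup of order divisible by `r` but not by `r ^ 2` is simple -/
theorem isSimpleGroup_of_minimal {H : Type*} [Group H] [Finite H] {r : ℕ} (hr : r.Prime) (h2 : ¬ r ^ 2 ∣ Nat.card H)
    (N : Subgroup H) [hN : N.Normal] (hN1 : N ≠ ⊥)
    (hmin : ∀ M : Subgroup H, M.Normal → M ≤ N → M = ⊥ ∨ M = N) (hd : r ∣ Nat.card N) :
    IsSimpleGroup N := by
  obtain ⟨T, j, hTN, hT, hj, ⟨e⟩⟩ := Cfsg.Agent.Lib.MinNormal.exists_mulEquiv_pi N hN1 hmin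
  have hc : Nat.card N = Nat.card T ^ j := by
    rw [Nat.card_congr e.toEquiv, Nat.card_pi]
    simp
  have hrT : r ∣ Nat.card T := by
    rw [hc] at hd
    exact hr.dvd_of_dvd_pow hd
  have hj1 : j = 1 := by
    by_contra hj2
    apply h2
    have h3 : r ^ j ∣ Nat.card N := by
      rw [hc]
      exact pow_dvd_pow_of_dvd hrT j
    exact ((pow_dvd_pow r (by omega)).trans h3).trans (Subgroup.card_subgroup_dvd_card N)
  subst hj1
  have e2 : N ≃* T := e.trans
    { toFun := fun f => f 0
      invFun := fun t _ => t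
      left_inv := fun f => by funext i; rw [Subsingleton.elim i 0]
      right_inv := fun t => rfl
      map_mul' := fun f g => rfl }
  have hnt : Nontrivial N := (Subgroup.nontrivial_iff_ne_bot N).2 hN1
  exact IsSimpleGroup.isSimpleGroup_of_surjective e2.symm.toMonoidHom e2.symm.surjective

theorem card_quot_mul {R : Type*} [Group R] [Finite R] (O : Subgroup R) [O.Normal] :
    Nat.card (R ⧸ O) * Nat.card O = Nat.card R := (Subgroup.card_eq_card_quotient_mul_card_subgroup O).symm

theorem exists_top (hr : r.Prime) (hd : r ∣ Nat.card R) (h2 : ¬ r ^ 2 ∣ Nat.card R) :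
    ∃ (O : Subgroup R) (_ : O.Normal) (N : Subgroup (R ⧸ O)), Top R r O N := by
  classical
  have hfin : Set.Finite {O : Subgroup R | O.Normal ∧ ¬ r ∣ Nat.card O} := Set.toFinite _
  obtain ⟨O, hO⟩ := hfin.exists_maximal ⟨⊥, inferInstance, by
    rw [Subgroup.card_bot]; exact fun h => hr.one_lt.ne' (Nat.dvd_one.1 h)⟩
  have hOn : O.Normal := hO.prop.1
  have hOr : ¬ r ∣ Nat.card O := hO.prop.2
  have hbot : ∀ M : Subgroup (R ⧸ O), M.Normal → ¬ r ∣ Nat.card M → M = ⊥ := by
    intro M hM hMr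
    set M' := M.comap (QuotientGroup.mk' O) with hM'
    have hOM : O ≤ M' := by
      intro x hx
      rw [hM', mem_comap]
      have : QuotientGroup.mk' O x = 1 := (QuotientGroup.eq_one_iff x).2 hx
      rw [this]
      exact one_mem _
    have hc : Nat.card M' = Nat.card M * Nat.card O := by
      have h1 := Subgroup.card_mul_index M'
      have h3 : M'.index = M.index := Subgroup.index_comap_of_surjective M (QuotientGroup.mk'_surjective O)
      have h4 := Subgroup.card_mul_index M
      have h5 := card_quot_mul O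
      rw [h3] at h1
      have h6 : 0 < M.index := Nat.pos_of_ne_zero M.index_ne_zero_of_finite
      apply Nat.eq_of_mul_eq_mul_right h6
      rw [h1, ← h5, ← h4]
      ring
    have h6 : M' ∈ {O : Subgroup R | O.Normal ∧ ¬ r ∣ Nat.card O} := by
      refine ⟨inferInstance, fun h => ?_⟩
      rw [hc] at h
      rcases (hr.dvd_mul).1 h with h | h
      · exact hMr h
      · exact hOr h
    have h7 : M' ≤ O := hO.le_of_ge h6 hOM
    rw [eq_bot_iff]
    intro x hx
    obtain ⟨y, rfl⟩ := QuotientGroup.mk'_surjective O x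
    have h8 : y ∈ O := h7 hx
    rw [mem_bot]
    exact (QuotientGroup.eq_one_iff y).2 h8
  have hq : r ∣ Nat.card (R ⧸ O) := by
    rw [← card_quot_mul O] at hd
    exact ((hr.dvd_mul).1 hd).resolve_right hOr
  have hq2 : ¬ r ^ 2 ∣ Nat.card (R ⧸ O) := fun h => h2 (by
    rw [← card_quot_mul O]
    exact h.mul_right _)
  have hnt : Nontrivial (R ⧸ O) := by
    rw [← Finite.one_lt_card_iff_nontrivial]
    exact lt_of_lt_of_le hr.one_lt (Nat.le_of_dvd Nat.card_pos hq)
  obtain ⟨N, hN, hN1, hmin⟩ := Cfsg.Agent.Lib.SubnormalJoin.exists_minimal_normal (R ⧸ O)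
  have hrN : r ∣ Nat.card N := by
    by_contra h
    exact hN1 (hbot N hN h)
  exact ⟨O, hOn, N, ⟨hr, hd, h2, hOr, hbot, hN, isSimpleGroup_of_minimal hr hq2 N hN1 hmin hrN, hrN⟩⟩

/-- commuting elements of different prime orders -/
theorem orderOf_mul_of_comm {G : Type*} [Group G] {r s : ℕ} (hr : r.Prime) (hs : s.Prime) (hrs : r ≠ s) {x y : G}
    (hx : orderOf x = r) (hy : orderOf y = s) (h : x * y = y * x) : orderOf (x * y) = r * s := by
  have hc : Commute x y := h
  rw [hc.orderOf_mul_eq_mul_orderOf_of_coprime (by rw [hx, hy]; exact (Nat.coprime_primes hr hs).2 hrs), hx, hy]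

/-- an element of a quotient lifts to an element of the same order -/
theorem exists_lift {G Q : Type*} [Group G] [Finite G] [Group Q] (f : G →* Q) {z : G} {n : ℕ}
    (hz : orderOf (f z) = n) : ∃ k : ℕ, orderOf (z ^ k) = n := by
  have h1 : n ∣ orderOf z := by
    rw [← hz]
    exact orderOf_map_dvd f z
  obtain ⟨k, hk⟩ := h1
  have h2 : 0 < orderOf z := orderOf_pos z
  refine ⟨k, ?_⟩
  have hk0 : k ≠ 0 := by
    rintro rfl
    rw [mul_zero] at hk
    omega
  rw [orderOf_pow_of_dvd hk0 (by rw [hk]; exact dvd_mul_left _ _), hk]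
  exact Nat.mul_div_cancel _ (Nat.pos_of_ne_zero hk0)

/-- Frattini: a prime dividing the index of a normal subgroup -/
theorem exists_normalizer' {H : Type*} [Group H] [Finite H] {r s : ℕ} [hr : Fact r.Prime] [hs : Fact s.Prime]
    (N : Subgroup H) [hN : N.Normal] (hd : r ∣ N.index) (S : Sylow s N) :
    ∃ y : H, orderOf y = r ∧ y ∈ normalizer (((S : Subgroup N).map N.subtype : Subgroup H) : Set H) := by
  have hfr := Sylow.normalizer_sup_eq_top S
  set R' : Subgroup H := (S : Subgroup N).map N.subtype with hR'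
  have h1 : r ∣ Nat.card (normalizer (R' : Set H)) := by
    have h3 : N.relIndex (normalizer (R' : Set H) ⊔ N) = N.relIndex (normalizer (R' : Set H)) :=
      Subgroup.relIndex_sup_right _ _
    rw [hfr, Subgroup.relIndex_top_right] at h3
    rw [h3] at hd
    exact hd.trans (Subgroup.relIndex_dvd_card _ _)
  obtain ⟨⟨y, hyN⟩, hy⟩ := exists_prime_orderOf_dvd_card' r h1
  exact ⟨y, by rw [← hy]; exact (Subgroup.orderOf_mk y hyN).symm, hyN⟩

theorem dvd_index {H : Type*} [Group H] [Finite H] {r : ℕ} (hr : r.Prime) (hd : r ∣ Nat.card H) (N : Subgroup H)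
    (hrN : ¬ r ∣ Nat.card N) : r ∣ N.index := by
  rw [← Subgroup.card_mul_index N] at hd
  exact ((hr.dvd_mul).1 hd).resolve_left hrN

/-- Frattini: a prime dividing the order of the group but not of a normal subgroup -/
theorem exists_normalizer {H : Type*} [Group H] [Finite H] {r s : ℕ} [hr : Fact r.Prime] [hs : Fact s.Prime]
    (hd : r ∣ Nat.card H) (N : Subgroup H) [hN : N.Normal] (hrN : ¬ r ∣ Nat.card N) (S : Sylow s N) :
    ∃ y : H, orderOf y = r ∧ y ∈ normalizer (((S : Subgroup N).map N.subtype : Subgroup H) : Set H) :=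
  exists_normalizer' N (dvd_index hr.1 hd N hrN) S

/-- an element of order `r` normalising an `s`-subgroup of order not `1` modulo `r` -/
theorem exists_comm_of_normalizer {H : Type*} [Group H] [Finite H] {r s : ℕ} (hr : r.Prime) (hs : s.Prime)
    {y : H} (hy : orderOf y = r) {P : Subgroup H} (hP : IsPGroup s P) (hyP : y ∈ normalizer (P : Set H))
    (hm : Nat.card P % r ≠ 1) : ∃ w ∈ P, orderOf w = s ∧ y * w = w * y := by
  have hr' : Fact r.Prime := ⟨hr⟩
  have hs' : Fact s.Prime := ⟨hs⟩
  have hconj : ∀ w : H, w ∈ P ↔ y * w * y⁻¹ ∈ P := mem_normalizer_iff.1 hyP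
  let f : Equiv.Perm P :=
    { toFun := fun w => ⟨y * w * y⁻¹, (hconj w).1 w.2⟩
      invFun := fun w => ⟨y⁻¹ * w * y, (hconj _).2 (by simp [mul_assoc])⟩
      left_inv := fun w => Subtype.ext (by simp [mul_assoc])
      right_inv := fun w => Subtype.ext (by simp [mul_assoc]) }
  have hfk : ∀ k : ℕ, ∀ w : P, (((f ^ k) w : P) : H) = y ^ k * w * (y ^ k)⁻¹ := by
    intro k
    induction k with
    | zero => intro w; simp
    | succ k ih =>
      intro w
      rw [pow_succ', Equiv.Perm.mul_apply]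
      show y * ((f ^ k) w : P) * y⁻¹ = _
      rw [ih, pow_succ']
      group
  have hf : f ^ r = 1 := by
    ext w
    rw [hfk, ← hy, pow_orderOf_eq_one]
    simp
  have h6 := card_modEq_of_perm hr f hf
  by_contra hno
  push Not at hno
  apply hm
  have h7 : Nat.card {a : P // f a = a} = 1 := by
    have : ∀ a : P, f a = a → a = 1 := by
      intro a ha
      by_contra ha1
      have h9 : y * (a : H) * y⁻¹ = a := congrArg Subtype.val ha
      have h10 : Commute y (a : H) := by
        change y * (a : H) = a * y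
        calc y * (a : H) = (y * (a : H) * y⁻¹) * y := by group
          _ = a * y := by rw [h9]
      have h11 : orderOf (a : H) ≠ 1 := fun h => ha1 (Subtype.ext (orderOf_eq_one_iff.1 h))
      obtain ⟨k, hk⟩ := IsPGroup.iff_orderOf.1 hP a
      rw [← Subgroup.orderOf_coe] at hk
      have hk0 : k ≠ 0 := by
        rintro rfl
        exact h11 (by rw [hk, pow_zero])
      have h12 : orderOf ((a : H) ^ (s ^ (k - 1))) = s := by
        rw [orderOf_pow_of_dvd (pow_ne_zero _ hs.ne_zero) (by rw [hk]; exact pow_dvd_pow _ (by omega)), hk]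
        obtain ⟨j, rfl⟩ := Nat.exists_eq_succ_of_ne_zero hk0
        rw [Nat.succ_sub_one, pow_succ, Nat.mul_div_cancel_left _ (pow_pos hs.pos _)]
      exact hno _ (pow_mem a.2 _) h12 (h10.pow_right _)
    rw [Nat.card_eq_one_iff_unique]
    refine ⟨⟨fun a b => ?_⟩, ⟨⟨1, Subtype.ext (by show y * (1 : H) * y⁻¹ = 1; simp)⟩⟩⟩
    exact Subtype.ext ((this a.1 a.2).trans (this b.1 b.2).symm)
  rw [h7] at h6
  have h8 : Nat.card P % r = 1 % r := h6
  rw [h8, Nat.mod_eq_of_lt hr.one_lt]

namespace Top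

variable {O : Subgroup R} [O.Normal] {N : Subgroup (R ⧸ O)} {s : ℕ}

/-- `R` has no element of order `r s` -/
theorem not_dvd_core (h : Top R r O N) (hs : s.Prime) (hrs : r ≠ s) (hno : ∀ z : R, orderOf z ≠ r * s)
    (hord : ∀ b, 1 ≤ b → s ^ b ∣ Nat.card R → s ^ b % r ≠ 1) : ¬ s ∣ Nat.card O := by
  intro hsO
  have hr' : Fact r.Prime := ⟨h.prime⟩
  have hs' : Fact s.Prime := ⟨hs⟩
  obtain ⟨S⟩ : Nonempty (Sylow s O) := inferInstance
  obtain ⟨y, hy, hyS⟩ := exists_normalizer h.dvdR O h.core S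
  set P : Subgroup R := (S : Subgroup O).map O.subtype with hP
  have hPp : IsPGroup s P := S.isPGroup'.map _
  obtain ⟨b, hb⟩ := IsPGroup.iff_card.1 hPp
  have hPc : Nat.card P = Nat.card S := by
    rw [hP, Subgroup.card_map_of_injective O.subtype_injective]
  have hb1 : 1 ≤ b := by
    by_contra hb0
    have : b = 0 := by omega
    rw [this, pow_zero] at hb
    have h3 := S.card_eq_multiplicity
    rw [← hPc, hb] at h3
    have h4 : 1 ≤ (Nat.card O).factorization s := by
      have := (hs.pow_dvd_iff_le_factorization (k := 1) (n := Nat.card O) Nat.card_pos.ne').1 (by rwa [pow_one])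
      exact this
    have h5 := Nat.one_lt_pow (n := (Nat.card O).factorization s) (by omega) hs.one_lt
    omega
  have h1 := hord b hb1 (by rw [← hb]; exact Subgroup.card_subgroup_dvd_card P)
  obtain ⟨w, -, hw, hyw⟩ := exists_comm_of_normalizer h.prime hs hy hPp hyS (by rw [hb]; exact h1)
  exact hno _ (orderOf_mul_of_comm h.prime hs hrs hy hw hyw)

theorem sq' (h : Top R r O N) : ¬ r ^ 2 ∣ Nat.card (R ⧸ O) := fun h2 => h.sq (by
  rw [← card_quot_mul O]
  exact h2.mul_right _)

/-- an element of prime order `s` dividing the index of a normal subgroup of order divisible by `r` -/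
theorem exists_comm_quot {Q : Type*} [Group Q] [Finite Q] {r s : ℕ} (hr : r.Prime) (hs : s.Prime) (hrs : r ≠ s)
    (h2 : ¬ r ^ 2 ∣ Nat.card Q) (N : Subgroup Q) [hN : N.Normal] (hd : r ∣ Nat.card N) (hsQ : s ∣ N.index)
    (hs1 : ¬ s ∣ r - 1) : ∃ z : Q, orderOf z = r * s := by
  have hr' : Fact r.Prime := ⟨hr⟩
  have hs' : Fact s.Prime := ⟨hs⟩
  obtain ⟨P⟩ : Nonempty (Sylow r N) := inferInstance
  obtain ⟨y, hy, hyP⟩ := exists_normalizer' (r := s) (s := r) N hsQ P
  set P' : Subgroup Q := (P : Subgroup N).map N.subtype with hP'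
  have hPp : IsPGroup r P' := P.isPGroup'.map _
  obtain ⟨b, hb⟩ := IsPGroup.iff_card.1 hPp
  have hPc : Nat.card P' = Nat.card P := by
    rw [hP', Subgroup.card_map_of_injective N.subtype_injective]
  have hb1 : 1 ≤ b := by
    by_contra hb0
    have : b = 0 := by omega
    rw [this, pow_zero] at hb
    have h3 := P.card_eq_multiplicity
    rw [← hPc, hb] at h3
    have h4 : 1 ≤ (Nat.card N).factorization r := by
      have := (hr.pow_dvd_iff_le_factorization (k := 1) (n := Nat.card N) Nat.card_pos.ne').1 (by rwa [pow_one])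
      exact this
    have h5 := Nat.one_lt_pow (n := (Nat.card N).factorization r) (by omega) hr.one_lt
    omega
  have hb2 : b ≤ 1 := by
    by_contra hb3
    apply h2
    refine (pow_dvd_pow r (show 2 ≤ b by omega)).trans ?_
    rw [← hb]
    exact Subgroup.card_subgroup_dvd_card P'
  have hbe : b = 1 := by omega
  rw [hbe, pow_one] at hb
  obtain ⟨w, hwP, hw, hyw⟩ := exists_comm_of_normalizer hs hr hy hPp hyP (by
    intro h3
    rw [hb] at h3
    apply hs1
    have h4 : r ≡ 1 [MOD s] := by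
      unfold Nat.ModEq
      rw [h3, Nat.mod_eq_of_lt hs.one_lt]
    exact (Nat.modEq_iff_dvd' hr.one_lt.le).1 h4.symm)
  refine ⟨w * y, ?_⟩
  exact orderOf_mul_of_comm hr hs hrs hw hy hyw.symm

/-- elements of the quotient lift -/
theorem noQuot {R : Type*} [Group R] [Finite R] (O : Subgroup R) [O.Normal] {k : ℕ} (hno : ∀ z : R, orderOf z ≠ k)
    (z : R ⧸ O) : orderOf z ≠ k := by
  intro hz
  obtain ⟨y, rfl⟩ := QuotientGroup.mk'_surjective O z
  obtain ⟨k, hk⟩ := exists_lift (QuotientGroup.mk' O) hz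
  exact hno _ hk

/-- `s` does not divide the index of the simple group `N` -/
theorem not_dvd_index (h : Top R r O N) (hs : s.Prime) (hrs : r ≠ s) (hno : ∀ z : R, orderOf z ≠ r * s)
    (hs1 : ¬ s ∣ r - 1) : ¬ s ∣ N.index := by
  intro hd
  have := h.normal
  obtain ⟨z, hz⟩ := exists_comm_quot h.prime hs hrs h.sq' N h.dvd hd hs1
  exact noQuot O hno z hz

/-- `s` divides the order of the simple group `N` -/
theorem dvd_simple (h : Top R r O N) (hs : s.Prime) (hrs : r ≠ s) (hno : ∀ z : R, orderOf z ≠ r * s)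
    (hord : ∀ b, 1 ≤ b → s ^ b ∣ Nat.card R → s ^ b % r ≠ 1) (hs1 : ¬ s ∣ r - 1) (hsR : s ∣ Nat.card R) :
    s ∣ Nat.card N := by
  have h1 := h.not_dvd_core hs hrs hno hord
  have h2 : s ∣ Nat.card (R ⧸ O) := by
    rw [← card_quot_mul O] at hsR
    exact ((hs.dvd_mul).1 hsR).resolve_right h1
  by_contra hc
  exact h.not_dvd_index hs hrs hno hs1 (dvd_index hs h2 N hc)

/-- the power of `s` dividing the order of `R` is the one of `N` -/
theorem pow_dvd_iff (h : Top R r O N) (hs : s.Prime) (hrs : r ≠ s) (hno : ∀ z : R, orderOf z ≠ r * s)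
    (hord : ∀ b, 1 ≤ b → s ^ b ∣ Nat.card R → s ^ b % r ≠ 1) (hs1 : ¬ s ∣ r - 1) {k : ℕ}
    (hk : s ^ k ∣ Nat.card R) : s ^ k ∣ Nat.card N := by
  have h1 := h.not_dvd_core hs hrs hno hord
  have h2 := h.not_dvd_index hs hrs hno hs1
  rw [← card_quot_mul O] at hk
  have h3 : s ^ k ∣ Nat.card (R ⧸ O) :=
    Nat.Coprime.dvd_of_dvd_mul_right (Nat.Coprime.pow_left _ ((Nat.Prime.coprime_iff_not_dvd hs).2 h1)) hk
  rw [← Subgroup.card_mul_index N] at h3
  exact Nat.Coprime.dvd_of_dvd_mul_right (Nat.Coprime.pow_left _ ((Nat.Prime.coprime_iff_not_dvd hs).2 h2)) h3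

/-- the order of a Sylow subgroup -/
theorem card_sylow_of {G : Type*} [Group G] [Finite G] {p : ℕ} [hp : Fact p.Prime] (P : Sylow p G) {a : ℕ}
    (h1 : p ^ a ∣ Nat.card G) (h2 : ¬ p ^ (a + 1) ∣ Nat.card G) : Nat.card P = p ^ a := by
  rw [P.card_eq_multiplicity]
  congr 1
  apply le_antisymm
  · by_contra hc
    exact h2 ((hp.1.pow_dvd_iff_le_factorization Nat.card_pos.ne').2 (by omega))
  · exact (hp.1.pow_dvd_iff_le_factorization Nat.card_pos.ne').1 h1

/-- commutators of elements normalising a cyclic group centralise it -/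
theorem comm_of_zpowers {G : Type*} [Group G] {y g h : G} (hg : g * y * g⁻¹ ∈ zpowers y)
    (hh : h * y * h⁻¹ ∈ zpowers y) : ((h * g)⁻¹ * (g * h)) * y = y * ((h * g)⁻¹ * (g * h)) := by
  obtain ⟨a, ha⟩ := mem_zpowers_iff.1 hg
  obtain ⟨b, hb⟩ := mem_zpowers_iff.1 hh
  have h1 : (g * h) * y * (g * h)⁻¹ = y ^ (a * b) := by
    calc (g * h) * y * (g * h)⁻¹ = g * (h * y * h⁻¹) * g⁻¹ := by group
      _ = g * y ^ b * g⁻¹ := by rw [hb]
      _ = (g * y * g⁻¹) ^ b := by rw [conj_zpow]
      _ = y ^ (a * b) := by rw [← ha, ← zpow_mul]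
  have h2 : (h * g) * y * (h * g)⁻¹ = y ^ (a * b) := by
    calc (h * g) * y * (h * g)⁻¹ = h * (g * y * g⁻¹) * h⁻¹ := by group
      _ = h * y ^ a * h⁻¹ := by rw [ha]
      _ = (h * y * h⁻¹) ^ a := by rw [conj_zpow]
      _ = y ^ (a * b) := by rw [← hb, ← zpow_mul, mul_comm]
  calc ((h * g)⁻¹ * (g * h)) * y = (h * g)⁻¹ * ((g * h) * y * (g * h)⁻¹) * (g * h) := by group
    _ = (h * g)⁻¹ * ((h * g) * y * (h * g)⁻¹) * (g * h) := by rw [h1, h2]
    _ = _ := by group

/-- some element of order `s` has a centralizer which covers `N` -/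
theorem lift_cent (h : Top R r O N) (hs : s.Prime) (hsO : s ∣ Nat.card O) (hs2 : ¬ s ^ 2 ∣ Nat.card R)
    (hna : ¬ ∀ a b : N, a * b = b * a) :
    ∃ y : R, orderOf y = s ∧ ∀ n ∈ N, ∃ g : R, g * y = y * g ∧ QuotientGroup.mk' O g = n := by
  have hs' : Fact s.Prime := ⟨hs⟩
  have hN := h.normal
  have hsim := h.simple
  obtain ⟨S⟩ : Nonempty (Sylow s O) := inferInstance
  have hfr := Sylow.normalizer_sup_eq_top S
  set P : Subgroup R := (S : Subgroup O).map O.subtype with hP
  have hPp : IsPGroup s P := S.isPGroup'.map _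
  obtain ⟨b, hb⟩ := IsPGroup.iff_card.1 hPp
  have hPc : Nat.card P = Nat.card S := by
    rw [hP, Subgroup.card_map_of_injective O.subtype_injective]
  have hb1 : 1 ≤ b := by
    by_contra hb0
    have : b = 0 := by omega
    rw [this, pow_zero] at hb
    have h3 := S.card_eq_multiplicity
    rw [← hPc, hb] at h3
    have h4 : 1 ≤ (Nat.card O).factorization s := by
      have := (hs.pow_dvd_iff_le_factorization (k := 1) (n := Nat.card O) Nat.card_pos.ne').1 (by rwa [pow_one])
      exact this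
    have h5 := Nat.one_lt_pow (n := (Nat.card O).factorization s) (by omega) hs.one_lt
    omega
  have hb2 : b ≤ 1 := by
    by_contra hb3
    apply hs2
    refine (pow_dvd_pow s (show 2 ≤ b by omega)).trans ?_
    rw [← hb]
    exact Subgroup.card_subgroup_dvd_card P
  have hbe : b = 1 := by omega
  rw [hbe, pow_one] at hb
  obtain ⟨⟨y, hyP⟩, hy⟩ := exists_prime_orderOf_dvd_card' (G := P) s (by rw [hb])
  rw [Subgroup.orderOf_mk] at hy
  have hPy : P = zpowers y := by
    symm
    apply Subgroup.eq_of_le_of_card_ge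
    · rw [zpowers_le]; exact hyP
    · rw [hb, Nat.card_zpowers, hy]
  set M := normalizer (P : Set R) with hM
  let f : M →* (R ⧸ O) := (QuotientGroup.mk' O).comp M.subtype
  have hf : Function.Surjective f := by
    intro q
    obtain ⟨x, rfl⟩ := QuotientGroup.mk'_surjective O q
    have hx : x ∈ M ⊔ O := by rw [hfr]; trivial
    obtain ⟨m, hm, o, ho, rfl⟩ := Subgroup.mem_sup_of_normal_right.1 hx
    refine ⟨⟨m, hm⟩, ?_⟩
    change QuotientGroup.mk' O m = QuotientGroup.mk' O (m * o)
    rw [map_mul, show QuotientGroup.mk' O o = 1 from (QuotientGroup.eq_one_iff o).2 ho, mul_one]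
  have hMy : ∀ m : M, (m : R) * y * (m : R)⁻¹ ∈ zpowers y := by
    intro m
    rw [← hPy]
    exact (mem_normalizer_iff.1 m.2 y).1 hyP
  let K : Subgroup M := (centralizer ({y} : Set R)).subgroupOf M
  have hKn : K.Normal := by
    refine ⟨fun k hk m => ?_⟩
    rw [mem_subgroupOf, mem_centralizer_singleton_iff] at hk ⊢
    have h1 : ∀ w ∈ zpowers y, (k : R) * w = w * k := by
      intro w hw
      obtain ⟨j, rfl⟩ := mem_zpowers_iff.1 hw
      have h2 : Commute (k : R) y := hk
      exact (h2.zpow_right j).eq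
    have h3 := hMy m⁻¹
    have h4 := h1 _ h3
    change (m : R) * k * (m : R)⁻¹ * y = y * ((m : R) * k * (m : R)⁻¹)
    have h5 : (k : R) * ((m : R)⁻¹ * y * m) = ((m : R)⁻¹ * y * m) * k := by
      have h6 : ((m⁻¹ : M) : R) = (m : R)⁻¹ := rfl
      rw [h6, inv_inv] at h4
      exact h4
    calc (m : R) * k * (m : R)⁻¹ * y = m * (k * ((m : R)⁻¹ * y * m)) * (m : R)⁻¹ := by group
      _ = m * (((m : R)⁻¹ * y * m) * k) * (m : R)⁻¹ := by rw [h5]
      _ = _ := by group
  have hKmn : (K.map f).Normal := hKn.map f hf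
  have hle : N ≤ K.map f := by
    have h1 : ((K.map f).subgroupOf N).Normal := inferInstance
    rcases hsim.eq_bot_or_eq_top_of_normal _ h1 with h2 | h2
    · exfalso
      apply hna
      intro a b
      obtain ⟨g, hg⟩ := hf a
      obtain ⟨k, hk⟩ := hf b
      have h3 : (k * g)⁻¹ * (g * k) ∈ K := by
        rw [mem_subgroupOf, mem_centralizer_singleton_iff]
        exact comm_of_zpowers (hMy g) (hMy k)
      have h4 : (b * a)⁻¹ * (a * b) ∈ (K.map f).subgroupOf N := by
        rw [mem_subgroupOf]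
        refine ⟨_, h3, ?_⟩
        rw [map_mul, map_inv, map_mul, map_mul, hg, hk]
        rfl
      rw [h2, mem_bot] at h4
      exact (inv_mul_eq_one.1 h4).symm
    · rw [← subgroupOf_eq_top]
      exact h2
  refine ⟨y, hy, fun n hn => ?_⟩
  obtain ⟨k, hk, rfl⟩ := hle hn
  rw [SetLike.mem_coe, mem_subgroupOf, mem_centralizer_singleton_iff] at hk
  exact ⟨k, hk, rfl⟩

/-- element orders of `N` are orders of elements of the centralizer of an element of order `s` -/
theorem exists_comm (h : Top R r O N) (hs : s.Prime) (hsO : s ∣ Nat.card O) (hs2 : ¬ s ^ 2 ∣ Nat.card R)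
    (hna : ¬ ∀ a b : N, a * b = b * a) {k : ℕ} (hk : ∃ n : N, orderOf n = k) :
    ∃ y g : R, orderOf y = s ∧ orderOf g = k ∧ g * y = y * g := by
  obtain ⟨y, hy, hc⟩ := h.lift_cent hs hsO hs2 hna
  obtain ⟨n, hn⟩ := hk
  obtain ⟨g, hg, hgn⟩ := hc n n.2
  obtain ⟨j, hj⟩ := exists_lift (QuotientGroup.mk' O) (z := g) (n := k) (by rw [hgn, Subgroup.orderOf_coe, hn])
  refine ⟨y, g ^ j, hy, hj, ?_⟩
  have h1 : Commute g y := hg
  exact (h1.pow_left j).eq

end Top

/-- in a group with cyclic Sylow `s`-subgroups the subgroups of order `s` are conjugate -/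
theorem conj_of_cyclic {G : Type*} [Group G] [Finite G] {s : ℕ} [hs : Fact s.Prime]
    (hcyc : ∀ S : Sylow s G, IsCyclic S) {x y : G} (hx : orderOf x = s) (hy : orderOf y = s) :
    ∃ g : G, g * y * g⁻¹ ∈ zpowers x := by
  classical
  have hpx : IsPGroup s (zpowers x) := IsPGroup.of_card (n := 1) (by rw [Nat.card_zpowers, hx, pow_one])
  have hpy : IsPGroup s (zpowers y) := IsPGroup.of_card (n := 1) (by rw [Nat.card_zpowers, hy, pow_one])
  obtain ⟨S, hS⟩ := hpx.exists_le_sylow
  obtain ⟨S', hS'⟩ := hpy.exists_le_sylow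
  obtain ⟨g, hg⟩ := MulAction.exists_smul_eq G S' S
  have hyS : g * y * g⁻¹ ∈ (S : Subgroup G) := by
    rw [← hg, Sylow.coe_subgroup_smul]
    exact ⟨y, hS' (mem_zpowers y), rfl⟩
  have hxS : x ∈ (S : Subgroup G) := hS (mem_zpowers x)
  refine ⟨g, ?_⟩
  have hc := hcyc S
  have := Fintype.ofFinite ↥(S : Subgroup G)
  set x' : ↥(S : Subgroup G) := ⟨x, hxS⟩ with hx'
  have hx'o : orderOf x' = s := by rw [hx', Subgroup.orderOf_mk, hx]
  set y' : ↥(S : Subgroup G) := ⟨g * y * g⁻¹, hyS⟩ with hy'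
  have hy'o : orderOf y' = s := by
    rw [hy', Subgroup.orderOf_mk, ← hy]
    exact (orderOf_injective (MulAut.conj g).toMonoidHom (MulAut.conj g).injective y)
  have hx'p : x' ^ s = 1 := by
    have h0 := pow_orderOf_eq_one x'
    rwa [hx'o] at h0
  have hy'p : y' ^ s = 1 := by
    have h0 := pow_orderOf_eq_one y'
    rwa [hy'o] at h0
  have h1 := IsCyclic.card_pow_eq_one_le (α := ↥(S : Subgroup G)) (n := s) hs.1.pos
  set A : Finset ↥(S : Subgroup G) := Finset.univ.filter (fun a => a ^ s = 1) with hA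
  set B : Finset ↥(S : Subgroup G) := Finset.univ.filter (fun a => a ∈ zpowers x') with hB
  have hBA : B ⊆ A := by
    intro a ha
    rw [hB, Finset.mem_filter] at ha
    rw [hA, Finset.mem_filter]
    refine ⟨Finset.mem_univ _, ?_⟩
    obtain ⟨j, rfl⟩ := mem_zpowers_iff.1 ha.2
    rw [← zpow_natCast, ← zpow_mul, mul_comm, zpow_mul, zpow_natCast, hx'p, one_zpow]
  have hBc : B.card = s := by
    rw [hB, ← Fintype.card_subtype, ← Nat.card_eq_fintype_card]
    exact (Nat.card_zpowers x').trans hx'o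
  have hAB : B = A := Finset.eq_of_subset_of_card_le hBA (by rw [hBc]; exact h1)
  have h2 : y' ∈ A := by
    rw [hA, Finset.mem_filter]
    exact ⟨Finset.mem_univ _, hy'p⟩
  rw [← hAB, hB, Finset.mem_filter] at h2
  obtain ⟨j, hj⟩ := mem_zpowers_iff.1 h2.2
  exact mem_zpowers_iff.2 ⟨j, congrArg Subtype.val hj⟩

/-- if `s ^ 2` does not divide the order, the Sylow `s`-subgroups are cyclic -/
theorem cyclic_of_sq {G : Type*} [Group G] [Finite G] {s : ℕ} [hs : Fact s.Prime] (h : ¬ s ^ 2 ∣ Nat.card G)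
    (S : Sylow s G) : IsCyclic S := by
  have h1 : (Nat.card G).factorization s ≤ 1 := by
    by_contra hc
    exact h ((hs.1.pow_dvd_iff_le_factorization Nat.card_pos.ne').2 (by omega))
  have h2 := S.card_eq_multiplicity
  rcases Nat.le_one_iff_eq_zero_or_eq_one.1 h1 with h3 | h3
  · rw [h3, pow_zero] at h2
    have : Subsingleton ↥(S : Subgroup G) := (Nat.card_eq_one_iff_unique.1 h2).1
    exact isCyclic_of_subsingleton
  · rw [h3, pow_one] at h2
    exact isCyclic_of_prime_card h2

namespace Top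

variable {O : Subgroup R} [O.Normal] {N : Subgroup (R ⧸ O)} {s : ℕ}

omit [Finite R] in
theorem card_of_comm (h : Top R r O N) (hc : ∀ a b : N, a * b = b * a) : Nat.card N = r := by
  have hsim := h.simple
  have hcp : (Nat.card N).Prime := by
    let _ : CommGroup N := { (inferInstance : Group N) with mul_comm := hc }
    exact IsSimpleGroup.prime_card
  exact ((Nat.prime_dvd_prime_iff_eq h.prime hcp).1 h.dvd).symm

theorem centralizer_eq (h : Top R r O N) (hc : ∀ a b : N, a * b = b * a) :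
    centralizer (N : Set (R ⧸ O)) = N := by
  have hN := h.normal
  have hNr := h.card_of_comm hc
  set C := centralizer (N : Set (R ⧸ O)) with hC
  have hNC : N ≤ C := by
    intro n hn
    rw [hC, mem_centralizer_iff]
    intro m hm
    exact congrArg Subtype.val (hc ⟨m, hm⟩ ⟨n, hn⟩)
  have hN'c : Nat.card (N.subgroupOf C) = r := by
    rw [Nat.card_congr (Subgroup.subgroupOfEquivOfLe hNC).toEquiv, hNr]
  have hidx : ¬ r ∣ (N.subgroupOf C).index := by
    intro hd
    apply h.sq'
    have h1 := Subgroup.card_mul_index (N.subgroupOf C)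
    rw [hN'c] at h1
    have h2 : r ^ 2 ∣ Nat.card C := by
      rw [← h1, pow_two]
      exact Nat.mul_dvd_mul_left _ hd
    exact h2.trans (Subgroup.card_subgroup_dvd_card C)
  have hcop : Nat.Coprime (Nat.card (N.subgroupOf C)) (N.subgroupOf C).index := by
    rw [hN'c]
    exact (Nat.Prime.coprime_iff_not_dvd h.prime).2 hidx
  obtain ⟨K, hK⟩ := Subgroup.exists_right_complement'_of_coprime hcop
  have hKc : Nat.card K = (N.subgroupOf C).index := hK.symm.index_eq_card.symm ▸ rfl
  have hcen : ∀ n ∈ N.subgroupOf C, ∀ c : C, n * c = c * n := by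
    intro n hn c
    have h1 : (c : R ⧸ O) ∈ centralizer (N : Set (R ⧸ O)) := c.2
    rw [mem_centralizer_iff] at h1
    exact Subtype.ext (h1 n (mem_subgroupOf.1 hn))
  have hKn : (K.map C.subtype).Normal := by
    refine ⟨?_⟩
    rintro _ ⟨k, hk, rfl⟩ q
    have hCn : C.Normal := by rw [hC]; infer_instance
    have hw : q * (k : R ⧸ O) * q⁻¹ ∈ C := hCn.conj_mem _ k.2 q
    obtain ⟨⟨n, k1⟩, hnk⟩ := hK.2 (⟨_, hw⟩ : C)
    have hnk' : (n : C) * (k1 : C) = ⟨_, hw⟩ := hnk
    have h1 : (n : C) ^ Nat.card K = 1 := by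
      have h2 : ((n : C) * (k1 : C)) ^ Nat.card K = 1 := by
        rw [hnk']
        apply Subtype.ext
        change (q * (k : R ⧸ O) * q⁻¹) ^ Nat.card K = 1
        rw [conj_pow]
        have h3 : (⟨k, hk⟩ : K) ^ Nat.card K = 1 := pow_card_eq_one'
        have h4 : (k : C) ^ Nat.card K = 1 := congrArg Subtype.val h3
        have h5 : (k : R ⧸ O) ^ Nat.card K = 1 := congrArg Subtype.val h4
        rw [h5]; group
      have h3 : Commute (n : C) (k1 : C) := hcen n n.2 k1
      rw [h3.mul_pow] at h2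
      have h4 : (k1 : C) ^ Nat.card K = 1 := by
        have h5 : (k1 : K) ^ Nat.card K = 1 := pow_card_eq_one'
        exact congrArg Subtype.val h5
      rw [h4, mul_one] at h2
      exact h2
    have h2 : (n : C) ^ r = 1 := by
      have h5 : n ^ Nat.card (N.subgroupOf C) = 1 := pow_card_eq_one'
      rw [hN'c] at h5
      exact congrArg Subtype.val h5
    have h3 : (n : C) = 1 := by
      have h4 : orderOf (n : C) ∣ Nat.gcd r (Nat.card K) :=
        Nat.dvd_gcd (orderOf_dvd_of_pow_eq_one h2) (orderOf_dvd_of_pow_eq_one h1)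
      rw [hKc] at h4
      rw [hN'c] at hcop
      rw [hcop] at h4
      exact orderOf_eq_one_iff.1 (Nat.dvd_one.1 h4)
    rw [h3, one_mul] at hnk'
    refine ⟨k1, k1.2, ?_⟩
    exact congrArg Subtype.val hnk'
  have hKb := h.bot _ hKn (by
    rw [Subgroup.card_map_of_injective C.subtype_injective, hKc]
    exact hidx)
  have hK1 : Nat.card K = 1 := by
    have h1 := Subgroup.card_map_of_injective (K := K) C.subtype_injective
    rw [hKb, Subgroup.card_bot] at h1
    exact h1.symm
  have hCc : Nat.card C = r := by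
    rw [← Subgroup.card_mul_index (N.subgroupOf C), hN'c, ← hKc, hK1, mul_one]
  symm
  apply Subgroup.eq_of_le_of_card_ge hNC
  rw [hCc, hNr]

/-- if `N` is commutative then the `s`-subgroups, `s ≠ r` not dividing `|O|`, are cyclic -/
theorem isCyclic (h : Top R r O N) (hc : ∀ a b : N, a * b = b * a) (hs : s.Prime) (hrs : r ≠ s)
    (hsO : ¬ s ∣ Nat.card O) {T : Subgroup R} (hT : IsPGroup s T) : IsCyclic T := by
  have hN := h.normal
  have hs' : Fact s.Prime := ⟨hs⟩
  have hr' : Fact r.Prime := ⟨h.prime⟩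
  have hNr := h.card_of_comm hc
  have hNc : IsCyclic N := isCyclic_of_prime_card hNr
  have hcy : IsCyclic (MulAut N) := by
    have e := IsCyclic.mulAutMulEquiv N
    rw [hNr] at e
    exact isCyclic_of_injective (e : MulAut N →* (ZMod r)ˣ) e.injective
  let φ : T →* MulAut N := (MulAut.conjNormal (H := N)).comp ((QuotientGroup.mk' O).comp T.subtype)
  refine isCyclic_of_injective φ ?_
  rw [injective_iff_map_eq_one]
  intro t ht
  have h1 : QuotientGroup.mk' O (t : R) ∈ centralizer (N : Set (R ⧸ O)) := by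
    rw [mem_centralizer_iff]
    intro n hn
    have h2 : (φ t) ⟨n, hn⟩ = ⟨n, hn⟩ := by rw [ht]; rfl
    have h3 : QuotientGroup.mk' O (t : R) * n * (QuotientGroup.mk' O (t : R))⁻¹ = n := congrArg Subtype.val h2
    calc n * QuotientGroup.mk' O (t : R) =
        (QuotientGroup.mk' O (t : R) * n * (QuotientGroup.mk' O (t : R))⁻¹) * QuotientGroup.mk' O (t : R) := by rw [h3]
      _ = _ := by group
  rw [h.centralizer_eq hc] at h1
  obtain ⟨k, hk⟩ := IsPGroup.iff_orderOf.1 hT t
  have h2 : orderOf (QuotientGroup.mk' O (t : R)) ∣ r := by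
    rw [← hNr]
    exact Subgroup.orderOf_dvd_natCard _ h1
  have h3 : orderOf (QuotientGroup.mk' O (t : R)) ∣ s ^ k := by
    rw [← hk, ← Subgroup.orderOf_coe]
    exact orderOf_map_dvd _ _
  have h4 : orderOf (QuotientGroup.mk' O (t : R)) = 1 := by
    apply Nat.eq_one_of_dvd_coprimes _ h2 h3
    exact Nat.Coprime.pow_right _ ((Nat.coprime_primes h.prime hs).2 hrs)
  have h5 : (t : R) ∈ O := (QuotientGroup.eq_one_iff _).1 (orderOf_eq_one_iff.1 h4)
  have h6 : orderOf (t : R) ∣ Nat.card O := Subgroup.orderOf_dvd_natCard _ h5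
  rw [Subgroup.orderOf_coe, hk] at h6
  have hk0 : k = 0 := by
    by_contra hk1
    exact hsO ((dvd_pow_self s hk1).trans h6)
  rw [hk0, pow_zero] at hk
  exact orderOf_eq_one_iff.1 hk

/-- **primes not adjacent to 2**: if `R` has no element of order `2 s`, `s ∥ |R|`, and `N` is not commutative then
`s ∣ |N|` -/
theorem dvd_of_na (h : Top R r O N) (hna : ¬ ∀ a b : N, a * b = b * a) (hs : s.Prime) (hs2 : s ≠ 2)
    (hno : ∀ z : R, orderOf z ≠ s * 2) (hsR : s ∣ Nat.card R) (hsq : ¬ s ^ 2 ∣ Nat.card R) {a : ℕ} (ha1 : 1 ≤ a)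
    (ha : 2 ^ a ∣ Nat.card N) (ha' : ¬ 2 ^ (a + 1) ∣ Nat.card N) (hm : 2 ^ a % s ≠ 1) : s ∣ Nat.card N := by
  have hN := h.normal
  have hs' : Fact s.Prime := ⟨hs⟩
  have h2' : Fact (Nat.Prime 2) := ⟨Nat.prime_two⟩
  by_contra hsN
  by_cases hsO : s ∣ Nat.card O
  · -- an involution of `N` lifts to the centralizer of an element of order `s`
    have h2N : 2 ∣ Nat.card N := (dvd_pow_self 2 (by omega)).trans ha
    obtain ⟨t, ht⟩ := exists_prime_orderOf_dvd_card' (G := N) 2 h2N
    obtain ⟨y, g, hy, hg, hc⟩ := h.exists_comm hs hsO hsq hna ⟨t, ht⟩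
    exact hno _ (orderOf_mul_of_comm hs Nat.prime_two hs2 hy hg hc.symm)
  · have h2 : s ∣ Nat.card (R ⧸ O) := by
      rw [← card_quot_mul O] at hsR
      exact ((hs.dvd_mul).1 hsR).resolve_right hsO
    obtain ⟨P⟩ : Nonempty (Sylow 2 N) := inferInstance
    obtain ⟨y, hy, hyP⟩ := exists_normalizer (r := s) (s := 2) h2 N hsN P
    have hPc : Nat.card ((P : Subgroup N).map N.subtype) = 2 ^ a := by
      rw [Subgroup.card_map_of_injective N.subtype_injective]
      exact card_sylow_of P ha ha'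
    obtain ⟨w, -, hw, hyw⟩ := exists_comm_of_normalizer hs Nat.prime_two hy (P.isPGroup'.map _) hyP
      (by rw [hPc]; exact hm)
    exact noQuot O hno _ (orderOf_mul_of_comm hs Nat.prime_two hs2 hy hw hyw)

end Top

/-! ### self-centralising elements -/

/-- the centralizer of an element of order `r` if `r` is adjacent to no prime -/
theorem card_cent_of_noOrd {Q : Type*} [Group Q] [Finite Q] {r : ℕ} (hr : r.Prime) (h2 : ¬ r ^ 2 ∣ Nat.card Q)
    (hno : ∀ p : ℕ, p.Prime → r ≠ p → ∀ z : Q, orderOf z ≠ r * p) {x : Q} (hx : orderOf x = r) :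
    Nat.card (centralizer ({x} : Set Q)) = r := by
  have hrC : r ∣ Nat.card (centralizer ({x} : Set Q)) := by
    have h1 : x ∈ centralizer ({x} : Set Q) := mem_centralizer_singleton_iff.2 rfl
    have h3 := Subgroup.orderOf_dvd_natCard _ h1
    rwa [hx] at h3
  obtain ⟨m, hm⟩ := hrC
  have hm1 : m = 1 := by
    by_contra hm1
    obtain ⟨p, hp, hpm⟩ := Nat.exists_prime_and_dvd hm1
    by_cases hpr : r = p
    · apply h2
      subst hpr
      refine dvd_trans ?_ (Subgroup.card_subgroup_dvd_card (centralizer ({x} : Set Q)))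
      rw [hm, pow_two]
      exact Nat.mul_dvd_mul_left _ hpm
    · have : Fact p.Prime := ⟨hp⟩
      obtain ⟨⟨y, hyC⟩, hy⟩ := exists_prime_orderOf_dvd_card' (G := centralizer ({x} : Set Q)) p
        (by rw [hm]; exact hpm.mul_left _)
      rw [Subgroup.orderOf_mk] at hy
      exact hno p hp hpr _ (orderOf_mul_of_comm hr hp hpr hx hy (mem_centralizer_singleton_iff.1 hyC).symm)
  rw [hm, hm1, mul_one]

open Cfsg.Agent.H361.SelfCent in
/-- `|N_Q(⟨y⟩)| = r e` with `e` the residue of `|Q| / r` -/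
theorem card_norm_mod {Q : Type*} [Group Q] [Finite Q] {r : ℕ} (hr : r.Prime) (h2 : ¬ r ^ 2 ∣ Nat.card Q)
    (hne : Nat.card Q ≠ r) {x : Q} (hc : Nat.card (centralizer ({x} : Set Q)) = r) :
    Nat.card (normalizer ((zpowers x : Subgroup Q) : Set Q)) = r * ((Nat.card Q / r) % r) ∧
      (Nat.card Q / r) % r ∣ r - 1 := by
  have hrQ : r ∣ Nat.card Q := by
    rw [← hc]
    exact Subgroup.card_subgroup_dvd_card _
  obtain ⟨m, hm⟩ := hrQ
  have hmr : ¬ r ∣ m := by
    rintro ⟨c, rfl⟩
    apply h2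
    exact ⟨c, by rw [hm]; ring⟩
  have S : Sit Q r m x := ⟨hr, hm, hmr, hc⟩
  have hm1 : m ≠ 1 := by
    rintro rfl
    rw [mul_one] at hm
    exact hne hm
  have hr' : Fact r.Prime := ⟨hr⟩
  obtain ⟨e, he1, he2⟩ := S.card_norm hm1
  have hsyl := S.card_sylow_mul hm1 he2
  have h1 : Nat.card (Sylow r Q) ≡ 1 [MOD r] := card_sylow_modEq_one r Q
  have h3 : m ≡ e [MOD r] := by
    rw [← hsyl]
    simpa using h1.mul_right e
  have h4 : e < r := by
    have := Nat.le_of_dvd (Nat.sub_pos_of_lt hr.one_lt) he1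
    have := hr.one_lt
    omega
  have h5 : (Nat.card Q / r) % r = e := by
    rw [hm, Nat.mul_div_cancel_left _ hr.pos, ← Nat.mod_eq_of_lt h4]
    exact h3
  rw [h5]
  exact ⟨he2, he1⟩

namespace Top

variable {O : Subgroup R} [O.Normal] {N : Subgroup (R ⧸ O)} {s : ℕ}

/-- the index of `N` if `r` is adjacent to no prime -/
theorem index_mul_dvd (h : Top R r O N) (hno : ∀ p : ℕ, p.Prime → r ≠ p → ∀ z : R, orderOf z ≠ r * p)
    (hne : Nat.card N ≠ r) : N.index * ((Nat.card N / r) % r) ∣ r - 1 := by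
  have hN := h.normal
  have hr' : Fact r.Prime := ⟨h.prime⟩
  have hnoQ : ∀ p : ℕ, p.Prime → r ≠ p → ∀ z : R ⧸ O, orderOf z ≠ r * p :=
    fun p hp hrp => noQuot O (hno p hp hrp)
  have hnoN : ∀ p : ℕ, p.Prime → r ≠ p → ∀ z : N, orderOf z ≠ r * p := fun p hp hrp z => by
    rw [← Subgroup.orderOf_coe]
    exact hnoQ p hp hrp z
  have hN2 : ¬ r ^ 2 ∣ Nat.card N := fun h2 => h.sq' (h2.trans (Subgroup.card_subgroup_dvd_card N))
  obtain ⟨y, hy⟩ := exists_prime_orderOf_dvd_card' (G := N) r h.dvd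
  have hy' : orderOf (y : R ⧸ O) = r := by rw [Subgroup.orderOf_coe, hy]
  obtain ⟨h1, -⟩ := card_norm_mod h.prime hN2 hne (card_cent_of_noOrd h.prime hN2 hnoN hy)
  have hneQ : Nat.card (R ⧸ O) ≠ r := by
    intro h3
    have h4 := Subgroup.card_subgroup_dvd_card N
    rw [h3] at h4
    rcases (Nat.dvd_prime h.prime).1 h4 with h5 | h5
    · have h6 := h.dvd
      rw [h5] at h6
      exact h.prime.one_lt.ne' (Nat.dvd_one.1 h6)
    · exact hne h5
  obtain ⟨h3, h4⟩ := card_norm_mod h.prime h.sq' hneQ (card_cent_of_noOrd h.prime h.sq' hnoQ hy')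
  -- the Frattini argument
  have hPy : IsPGroup r (zpowers y) :=
    IsPGroup.of_card (n := 1) (by rw [Nat.card_zpowers, hy, pow_one])
  obtain ⟨P, hP⟩ := hPy.exists_le_sylow
  have hPc : Nat.card P = r := by
    have h5 := card_sylow_of P (a := 1) (by rw [pow_one]; exact h.dvd) hN2
    rwa [pow_one] at h5
  have hPe : zpowers y = P := by
    apply Subgroup.eq_of_le_of_card_ge hP
    rw [hPc, Nat.card_zpowers, hy]
  have hmap : (P : Subgroup N).map N.subtype = zpowers (y : R ⧸ O) := by
    rw [← hPe, MonoidHom.map_zpowers]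
    rfl
  have hfr := Sylow.normalizer_sup_eq_top P
  rw [hmap] at hfr
  set M := normalizer ((zpowers (y : R ⧸ O) : Subgroup (R ⧸ O)) : Set (R ⧸ O)) with hM
  have h5 : N.relIndex (M ⊔ N) = N.relIndex M := Subgroup.relIndex_sup_right _ _
  rw [hfr, Subgroup.relIndex_top_right] at h5
  have h6 := Subgroup.card_mul_index (N.subgroupOf M)
  have h7 : (N.subgroupOf M).index = N.index := h5.symm
  -- `N ∩ M` is the normaliser in `N`
  have hmem : ∀ w : N, w ∈ zpowers y ↔ (w : R ⧸ O) ∈ zpowers (y : R ⧸ O) := by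
    intro w
    rw [mem_zpowers_iff, mem_zpowers_iff]
    constructor
    · rintro ⟨j, hj⟩
      exact ⟨j, congrArg Subtype.val hj⟩
    · rintro ⟨j, hj⟩
      exact ⟨j, Subtype.ext hj⟩
  have hyN : ∀ w ∈ zpowers (y : R ⧸ O), w ∈ N := by
    intro w hw
    obtain ⟨j, rfl⟩ := mem_zpowers_iff.1 hw
    exact zpow_mem y.2 j
  have h8 : normalizer ((zpowers y : Subgroup N) : Set N) = M.subgroupOf N := by
    ext w
    rw [mem_subgroupOf, mem_normalizer_iff, hM, mem_normalizer_iff]
    constructor
    · intro hh v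
      constructor
      · intro hv
        exact (hmem _).1 ((hh ⟨v, hyN v hv⟩).1 ((hmem _).2 hv))
      · intro hv
        have hvN : v ∈ N := by
          have h9 := mul_mem (mul_mem (inv_mem w.2) (hyN _ hv)) w.2
          rwa [show (w : R ⧸ O)⁻¹ * ((w : R ⧸ O) * v * (w : R ⧸ O)⁻¹) * w = v by group] at h9
        exact (hmem _).1 ((hh ⟨v, hvN⟩).2 ((hmem _).2 hv))
    · intro hh v
      rw [hmem, hmem]
      exact hh v
  have h9 : Nat.card (M.subgroupOf N) = Nat.card (N.subgroupOf M) := by
    have e1 : Nat.card (M.subgroupOf N) = Nat.card (N ⊓ M : Subgroup (R ⧸ O)) := by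
      rw [← Subgroup.inf_subgroupOf_left]
      exact Nat.card_congr (Subgroup.subgroupOfEquivOfLe inf_le_left).toEquiv
    have e2 : Nat.card (N.subgroupOf M) = Nat.card (N ⊓ M : Subgroup (R ⧸ O)) := by
      rw [← Subgroup.inf_subgroupOf_right]
      exact Nat.card_congr (Subgroup.subgroupOfEquivOfLe inf_le_right).toEquiv
    rw [e1, e2]
  rw [h7, ← h9, ← h8, h1, h3] at h6
  have h10 : (Nat.card N / r) % r * N.index = (Nat.card (R ⧸ O) / r) % r := by
    apply Nat.eq_of_mul_eq_mul_left h.prime.pos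
    rw [← h6]; ring
  rw [mul_comm, h10]
  exact h4

end Top

end Cfsg.Agent.H257.El
end

-- part: H257/El/Eng
section
prune_inst 0x3010450034221000001800108000046020000000000000012040010200018801000108013a60061211309060000a804003000009420000002a00820040040000040226c09048110881000040e804080c00000000000000000000000000000000000000000
set_option linter.all false
open scoped Cfsg.Agent.FastGrp

/-!
# TEAM ELUSIVE, sporadic groups: the engine (helper257)

`T` a group of order `n`, `l` the factorisation of `n`, `r` a prime with `r ∥ n`.  For a proper subgroup `R` meeting all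
the classes of elements of prime order of `T`:

* `exists_surv` : if `T` has no elements of order `r s`, `s ∈ ss`, then the simple group `N` at the top of `R` is in a
  list which is computed from `n`, and its order is divisible by all the `s ∈ ss`;
* `derT_of_pair` : if this list is empty for one such `s`, there is no such `R`;
* `conj_of_comm`, `not_comm` : two classes of involutions exclude a commutative `N`.
-/

set_option autoImplicit false

namespace Cfsg.Agent.H257.El

open Subgroup
open Cfsg.Agent.OrdDiv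
open Cfsg.Agent.H278.El

universe u

/-- the classification of the finite simple groups -/
def Known : Prop := ∀ (X : Type u) [Group X] [Finite X] [IsSimpleGroup X], Cfsg.IsKnownSimple' X

/-- the powers of `s` dividing the order are not `1` modulo `r` -/
def okPow (l : List (ℕ × ℕ)) (r s : ℕ) : Bool :=
  l.all fun x => (x.1 != s) || (List.range (x.2 + 1)).all fun i => (i == 0) || (s ^ i % r != 1)

theorem okPow_spec {l : List (ℕ × ℕ)} {n r s : ℕ} (hv : valid l n = true) (h : okPow l r s = true) (hs : s.Prime)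
    {b : ℕ} (hb : 1 ≤ b) (hd : s ^ b ∣ n) : s ^ b % r ≠ 1 := by
  obtain ⟨k, hk, hbk⟩ := exists_pair hv hs hb hd
  unfold okPow at h
  rw [List.all_eq_true] at h
  have h1 := h (s, k) hk
  rw [Bool.or_eq_true, List.all_eq_true] at h1
  rcases h1 with h1 | h1
  · simp at h1
  · have h2 := h1 b (List.mem_range.2 (by omega))
    rw [Bool.or_eq_true] at h2
    rcases h2 with h2 | h2
    · have : b = 0 := by simpa using h2
      omega
    · simpa using h2

/-- the numeric conditions for the pair `r, s` -/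
def okPair (n : ℕ) (l : List (ℕ × ℕ)) (r s : ℕ) : Bool :=
  (r != s) && ((r - 1) % s != 0) && (n % s == 0) && okPow l r s

/-- the group with a given name is possible at the top -/
def okG (n r : ℕ) (ss : List ℕ) (g : Grp) : Bool :=
  (ordN g % r == 0) && (ordN g != n) && ss.all fun s => ordN g % s == 0

/-- the possible names -/
def surv (n : ℕ) (l : List (ℕ × ℕ)) (r : ℕ) (ss : List ℕ) : List Grp := (cands l n).filter (okG n r ss)

variable {T : Type u} [Group T] [Finite T]

/-- The situation. -/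
structure Sit (T : Type u) [Group T] (n : ℕ) (l : List (ℕ × ℕ)) (r : ℕ) (R : Subgroup T) : Prop where
  tab : OrderTable.{u}
  known : Known.{u}
  card : Nat.card T = n
  valid : valid l n = true
  prime : r.Prime
  dvd : r ∣ n
  sq : ¬ r ^ 2 ∣ n
  ne : R ≠ ⊤
  nder : ¬ DerT T R

namespace Sit

variable {n : ℕ} {l : List (ℕ × ℕ)} {r : ℕ} {R : Subgroup T}

omit [Finite T] in
theorem dvd_n (S : Sit T n l r R) : Nat.card R ∣ n := by
  rw [← S.card]
  exact Subgroup.card_subgroup_dvd_card R

theorem dvd_card (S : Sit T n l r R) {p : ℕ} (hp : p.Prime) (hd : p ∣ n) : p ∣ Nat.card R :=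
  dvd_of_not_derT S.nder hp (by rw [S.card]; exact hd)

omit [Finite T] in
theorem sqR (S : Sit T n l r R) : ¬ r ^ 2 ∣ Nat.card R := fun h => S.sq (h.trans S.dvd_n)

theorem card_lt (S : Sit T n l r R) : Nat.card R < n := by
  rw [← S.card]
  refine lt_of_le_of_ne (Nat.le_of_dvd Nat.card_pos (Subgroup.card_subgroup_dvd_card R)) fun h => S.ne ?_
  exact Subgroup.eq_top_of_card_eq R h

theorem exists_top (S : Sit T n l r R) :
    ∃ (O : Subgroup R) (_ : O.Normal) (N : Subgroup (R ⧸ O)), Top R r O N :=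
  El.exists_top S.prime (S.dvd_card S.prime S.dvd) S.sqR

omit [Finite T] in
theorem noR {k : ℕ} (hno : ∀ z : T, orderOf z ≠ k) (z : R) : orderOf z ≠ k := by
  rw [← Subgroup.orderOf_coe]
  exact hno z

variable {O : Subgroup R} [O.Normal] {N : Subgroup (R ⧸ O)}

/-- the primes not adjacent to `r` do not divide the order of the core -/
theorem not_dvd_core (S : Sit T n l r R) (h : Top R r O N) {s : ℕ} (hs : s.Prime) (hrs : r ≠ s)
    (hno : ∀ z : T, orderOf z ≠ r * s) (hok : okPow l r s = true) : ¬ s ∣ Nat.card O :=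
  h.not_dvd_core hs hrs (noR hno) fun _ hb hd => okPow_spec S.valid hok hs hb (hd.trans S.dvd_n)

/-- the primes not adjacent to `r` divide the order of the simple group at the top -/
theorem dvd_simple (S : Sit T n l r R) (h : Top R r O N) {s : ℕ} (hs : s.Prime)
    (hno : ∀ z : T, orderOf z ≠ r * s) (hok : okPair n l r s = true) : s ∣ Nat.card N := by
  unfold okPair at hok
  rw [Bool.and_eq_true, Bool.and_eq_true, Bool.and_eq_true] at hok
  obtain ⟨⟨⟨h1, h2⟩, h3⟩, h4⟩ := hok
  have h1' : r ≠ s := by simpa using h1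
  have h2' : ¬ s ∣ r - 1 := by
    intro hd
    rw [Nat.mod_eq_zero_of_dvd hd] at h2
    exact absurd h2 (by decide)
  have h3' : s ∣ n := Nat.dvd_of_mod_eq_zero (by simpa using h3)
  exact h.dvd_simple hs h1' (noR hno) (fun _ hb hd => okPow_spec S.valid h4 hs hb (hd.trans S.dvd_n)) h2'
    (S.dvd_card hs h3')

/-- a non-commutative `N` is in the list -/
theorem exists_surv (S : Sit T n l r R) (h : Top R r O N) (hna : ¬ ∀ a b : N, a * b = b * a) (ss : List ℕ)
    (hss : ∀ s ∈ ss, s ∣ Nat.card N) : ∃ g ∈ surv n l r ss, Real g N ∧ Nat.card N = ordN g := by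
  have hsim := h.simple
  have hNR : Nat.card N ∣ Nat.card R := by
    refine (Subgroup.card_subgroup_dvd_card N).trans ?_
    rw [← card_quot_mul O]
    exact dvd_mul_right _ _
  have hNn : Nat.card N ∣ n := hNR.trans S.dvd_n
  obtain ⟨g, hg, hr, hc⟩ := exists_good S.tab (S.known N) hna S.valid hNn
  refine ⟨g, List.mem_filter.2 ⟨hg, ?_⟩, hr, hc⟩
  unfold okG
  rw [Bool.and_eq_true, Bool.and_eq_true, List.all_eq_true]
  refine ⟨⟨?_, ?_⟩, fun s hs => ?_⟩
  · rw [← hc, Nat.mod_eq_zero_of_dvd h.dvd]; rfl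
  · rw [← hc]
    have h1 : Nat.card N ≤ Nat.card R := Nat.le_of_dvd Nat.card_pos hNR
    have h2 := S.card_lt
    have h3 : Nat.card N ≠ n := by omega
    simpa using h3
  · rw [← hc, Nat.mod_eq_zero_of_dvd (hss s hs)]; rfl

omit [Finite T] in
/-- if another prime divides the order of `N` it is not commutative -/
theorem not_comm_of_dvd (h : Top R r O N) {s : ℕ} (hs : s.Prime) (hrs : r ≠ s) (hd : s ∣ Nat.card N) :
    ¬ ∀ a b : N, a * b = b * a := by
  intro hc
  rw [h.card_of_comm hc] at hd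
  exact hrs ((Nat.prime_dvd_prime_iff_eq hs h.prime).1 hd).symm

/-- elements of order `s` not conjugate, up to powers, exclude a commutative `N` if `s` does not divide `|O|` -/
theorem not_comm_of_two (S : Sit T n l r R) (h : Top R r O N) {s : ℕ} (hs : s.Prime) (hrs : r ≠ s)
    (hsO : ¬ s ∣ Nat.card O)
    {x y : T} (hx : orderOf x = s) (hy : orderOf y = s) (hxy : ∀ g : T, g * y * g⁻¹ ∉ zpowers x) :
    ¬ ∀ a b : N, a * b = b * a := by
  intro hc
  have hs' : Fact s.Prime := ⟨hs⟩
  obtain ⟨a, ha⟩ := exists_conj_of_not_derT S.nder x (by rw [hx]; exact hs)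
  obtain ⟨b, hb⟩ := exists_conj_of_not_derT S.nder y (by rw [hy]; exact hs)
  have hx' : orderOf (⟨a * x * a⁻¹, ha⟩ : R) = s := by
    rw [Subgroup.orderOf_mk, ← hx]
    exact (orderOf_injective (MulAut.conj a).toMonoidHom (MulAut.conj a).injective x)
  have hy' : orderOf (⟨b * y * b⁻¹, hb⟩ : R) = s := by
    rw [Subgroup.orderOf_mk, ← hy]
    exact (orderOf_injective (MulAut.conj b).toMonoidHom (MulAut.conj b).injective y)
  obtain ⟨g, hg⟩ := conj_of_cyclic (fun P => h.isCyclic hc hs hrs hsO P.isPGroup') hx' hy'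
  obtain ⟨j, hj⟩ := mem_zpowers_iff.1 hg
  have h1 : (a * x * a⁻¹) ^ j = (g : T) * (b * y * b⁻¹) * (g : T)⁻¹ := congrArg Subtype.val hj
  rw [conj_zpow] at h1
  apply hxy (a⁻¹ * g * b)
  refine mem_zpowers_iff.2 ⟨j, ?_⟩
  calc x ^ j = a⁻¹ * (a * x ^ j * a⁻¹) * a := by group
    _ = a⁻¹ * ((g : T) * (b * y * b⁻¹) * (g : T)⁻¹) * a := by rw [h1]
    _ = _ := by group

omit [Finite T] in
/-- element orders of `N` are element orders of `T` -/
theorem exists_orderOf [Finite R] {k : ℕ} (h : ∃ z : N, orderOf z = k) : ∃ z : T, orderOf z = k := by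
  obtain ⟨z, hz⟩ := h
  obtain ⟨y, hy⟩ := QuotientGroup.mk'_surjective O (z : R ⧸ O)
  obtain ⟨j, hj⟩ := exists_lift (QuotientGroup.mk' O) (z := y) (n := k) (by rw [hy, Subgroup.orderOf_coe, hz])
  exact ⟨((y ^ j : R) : T), by rw [Subgroup.orderOf_coe, hj]⟩

/-- the powers of `s`, not adjacent to `r`, dividing `|R|` divide `|N|` -/
theorem pow_dvd (S : Sit T n l r R) (h : Top R r O N) {s k : ℕ} (hs : s.Prime)
    (hno : ∀ z : T, orderOf z ≠ r * s) (hok : okPair n l r s = true) (hk : s ^ k ∣ Nat.card R) :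
    s ^ k ∣ Nat.card N := by
  unfold okPair at hok
  rw [Bool.and_eq_true, Bool.and_eq_true, Bool.and_eq_true] at hok
  obtain ⟨⟨⟨h1, h2⟩, h3⟩, h4⟩ := hok
  have h1' : r ≠ s := by simpa using h1
  have h2' : ¬ s ∣ r - 1 := by
    intro hd
    rw [Nat.mod_eq_zero_of_dvd hd] at h2
    exact absurd h2 (by decide)
  exact h.pow_dvd_iff hs h1' (noR hno) (fun _ hb hd => okPow_spec S.valid h4 hs hb (hd.trans S.dvd_n)) h2' hk

/-- a prime `s` not adjacent to `2` divides `|N|` -/
theorem dvd_of_na (S : Sit T n l r R) (h : Top R r O N) (hna : ¬ ∀ a b : N, a * b = b * a) {s : ℕ} (hs : s.Prime)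
    (hs2 : s ≠ 2) (hno : ∀ z : T, orderOf z ≠ s * 2) (hsn : s ∣ n) (hsq : ¬ s ^ 2 ∣ n) {a : ℕ} (ha1 : 1 ≤ a)
    (ha : 2 ^ a ∣ Nat.card N) (ha' : ¬ 2 ^ (a + 1) ∣ Nat.card N) (hm : 2 ^ a % s ≠ 1) : s ∣ Nat.card N :=
  h.dvd_of_na hna hs hs2 (noR hno) (S.dvd_card hs hsn) (fun h2 => hsq (h2.trans S.dvd_n)) ha1 ha ha' hm

/-- the index of `N` if `r` is adjacent to no prime -/
theorem index_mul_dvd (h : Top R r O N) (hno : ∀ p : ℕ, p.Prime → r ≠ p → ∀ z : T, orderOf z ≠ r * p)
    (hne : Nat.card N ≠ r) : N.index * ((Nat.card N / r) % r) ∣ r - 1 :=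
  h.index_mul_dvd (fun p hp hrp => noR (hno p hp hrp)) hne

end Sit

/-- the check for a pair of primes -/
def chkPair (n : ℕ) (l : List (ℕ × ℕ)) (r s : ℕ) : Bool :=
  OrdDiv.valid l n && (n % r == 0) && (n % r ^ 2 != 0) && okPair n l r s && (surv n l r [s]).isEmpty

/-- the check for a pair of primes and two classes of subgroups of order `s` -/
def chkTwo (n : ℕ) (l : List (ℕ × ℕ)) (r s : ℕ) : Bool :=
  OrdDiv.valid l n && (n % r == 0) && (n % r ^ 2 != 0) && okPair n l r s &&
    (surv n l r [s]).all fun g => ordN g % s ^ 2 != 0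

/-- elements of prime order with centralizers of different orders generate non-conjugate subgroups -/
theorem two_of_cent {G : Type*} [Group G] [Finite G] {s : ℕ} {x y : G} (hx : orderOf x = s)
    (hy : orderOf y = s)
    (hne : Nat.card (centralizer ({x} : Set G)) ≠ Nat.card (centralizer ({y} : Set G))) (g : G) :
    g * y * g⁻¹ ∉ zpowers x := by
  intro hg
  apply hne
  have hc : ∀ w : G, Nat.card (centralizer ({g * w * g⁻¹} : Set G)) = Nat.card (centralizer ({w} : Set G)) := by
    intro w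
    have h1 : centralizer ({g * w * g⁻¹} : Set G) = (centralizer ({w} : Set G)).map (MulAut.conj g).toMonoidHom := by
      ext v
      rw [mem_centralizer_singleton_iff]
      constructor
      · intro hv
        refine ⟨g⁻¹ * v * g, ?_, by simp [mul_assoc]⟩
        rw [SetLike.mem_coe, mem_centralizer_singleton_iff]
        calc g⁻¹ * v * g * w = g⁻¹ * (v * (g * w * g⁻¹)) * g := by group
          _ = g⁻¹ * ((g * w * g⁻¹) * v) * g := by rw [hv]
          _ = _ := by group
      · rintro ⟨u, hu, rfl⟩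
        rw [SetLike.mem_coe, mem_centralizer_singleton_iff] at hu
        change g * u * g⁻¹ * (g * w * g⁻¹) = (g * w * g⁻¹) * (g * u * g⁻¹)
        calc g * u * g⁻¹ * (g * w * g⁻¹) = g * (u * w) * g⁻¹ := by group
          _ = g * (w * u) * g⁻¹ := by rw [hu]
          _ = _ := by group
    rw [h1, Subgroup.card_map_of_injective (MulAut.conj g).injective]
  have hz : zpowers (g * y * g⁻¹) = zpowers x := by
    apply Subgroup.eq_of_le_of_card_ge
    · rw [zpowers_le]; exact hg
    · rw [Nat.card_zpowers, Nat.card_zpowers, hx, ← hy]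
      exact (orderOf_injective (MulAut.conj g).toMonoidHom (MulAut.conj g).injective y).ge
  have hzc : ∀ a : G, centralizer ((zpowers a : Subgroup G) : Set G) = centralizer ({a} : Set G) := by
    intro a
    rw [zpowers_eq_closure, centralizer_closure]
  rw [← hc y, ← hzc, ← hzc, hz]

/-- the check for two primes not adjacent to 2 -/
def chkNA (n : ℕ) (l : List (ℕ × ℕ)) (r s : ℕ) : Bool :=
  OrdDiv.valid l n && (n % r == 0) && (n % r ^ 2 != 0) && (n % s == 0) && (n % s ^ 2 != 0) && (r != 2) && (s != 2) &&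
    okPow l r 2 && (surv n l r []).all fun g => (ordN g % s != 0) && (List.range 60).any fun a =>
      Nat.ble 1 a && (ordN g % 2 ^ a == 0) && (ordN g % 2 ^ (a + 1) != 0) && (2 ^ a % s != 1)

/-- elements of prime order which do not commute -/
theorem noOrd_of_noComm {G : Type*} [Group G] {r s : ℕ} (hr : r.Prime) (hs : s.Prime)
    (h : ∀ x y : G, orderOf x = r → orderOf y = s → x * y ≠ y * x) (z : G) : orderOf z ≠ r * s := by
  intro hz
  have h1 : orderOf (z ^ s) = r := by
    rw [orderOf_pow_of_dvd hs.ne_zero (by rw [hz]; exact dvd_mul_left _ _), hz, Nat.mul_div_cancel _ hs.pos]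
  have h2 : orderOf (z ^ r) = s := by
    rw [orderOf_pow_of_dvd hr.ne_zero (by rw [hz]; exact dvd_mul_right _ _), hz, Nat.mul_div_cancel_left _ hr.pos]
  exact h _ _ h1 h2 ((Commute.refl z).pow_pow s r).eq

/-- an element of order `r` whose centralizer has order `r` for all of them -/
theorem noOrd_of_cent {G : Type*} [Group G] [Finite G] {r : ℕ} (hr : r.Prime)
    (h : ∀ x : G, orderOf x = r → Nat.card (centralizer ({x} : Set G)) = r) {s : ℕ} (hs : s.Prime) (hrs : r ≠ s)
    (z : G) : orderOf z ≠ r * s := by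
  refine noOrd_of_noComm hr hs (fun x y hx hy hxy => ?_) z
  have h1 : y ∈ centralizer ({x} : Set G) := mem_centralizer_singleton_iff.2 hxy.symm
  have h2 := Subgroup.orderOf_dvd_natCard _ h1
  rw [hy, h x hx] at h2
  exact hrs ((Nat.prime_dvd_prime_iff_eq hs hr).1 h2).symm

/-- transport -/
theorem noOrd_congr {G H : Type*} [Group G] [Group H] (e : G ≃* H) {k : ℕ} (h : ∀ z : H, orderOf z ≠ k) (z : G) :
    orderOf z ≠ k := by
  rw [← MulEquiv.orderOf_eq e z]
  exact h (e z)

end Cfsg.Agent.H257.El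
end

-- part: H257/El/EngA
section
set_option linter.all false
open scoped Cfsg.Agent.FastGrp

/-!
# TEAM ELUSIVE, sporadic groups: the engine, automorphism form (helper257)

* `ClM T` : every proper subgroup of `T` misses a prime divisor of `|T|`;
* `ClA T` : every proper subgroup of `T` misses an `Aut T`-class of elements of prime order.
-/

set_option autoImplicit false

namespace Cfsg.Agent.H257.El

open Subgroup
open Cfsg.Agent.OrdDiv
open Cfsg.Agent.H278.El
open Cfsg.Agent.H396

universe u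

/-- every proper subgroup misses a prime -/
def ClM (T : Type*) [Group T] : Prop :=
  ∀ R : Subgroup T, R ≠ ⊤ → ∃ p : ℕ, p.Prime ∧ p ∣ Nat.card T ∧ ¬ p ∣ Nat.card R

/-- every proper subgroup misses an `Aut T`-class of elements of prime order -/
def ClA (T : Type*) [Group T] : Prop := ∀ R : Subgroup T, R ≠ ⊤ → Der T R

theorem ClM.clA {T : Type*} [Group T] [Finite T] (h : ClM T) : ClA T := by
  intro R hR
  obtain ⟨p, h1, h2, h3⟩ := h R hR
  exact der_of_prime h1 h2 h3

theorem ClA.clT {T : Type*} [Group T] (h : ClA T) : ClT T := fun R hR => Or.inl (Der.derT (h R hR))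

theorem ClA.clMaxA {T : Type*} [Group T] (h : ClA T) : ClMaxA T := fun M hM => h M hM.1

theorem exists_aut_of_not_der {T : Type*} [Group T] {R : Subgroup T} (h : ¬ Der T R)
    (x : T) (hx : (orderOf x).Prime) : ∃ φ : T ≃* T, φ x ∈ R := by
  by_contra hn
  push Not at hn
  exact h ⟨x, hx, hn⟩

theorem dvd_of_not_der {T : Type*} [Group T] [Finite T] {R : Subgroup T} (h : ¬ Der T R)
    {p : ℕ} (hp : p.Prime) (hd : p ∣ Nat.card T) : p ∣ Nat.card R := by
  by_contra hn
  exact h (der_of_prime hp hd hn)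

/-- the Sylow `s`-subgroups of `R` are cyclic, but `T` has two `Aut T`-classes of subgroups of order `s` -/
theorem false_of_cyclic {T : Type*} [Group T] {R : Subgroup T} [Finite R] (hnd : ¬ Der T R) {s : ℕ} (hs : s.Prime)
    [Fact s.Prime] (hcyc : ∀ P : Sylow s R, IsCyclic P) {x y : T} (hx : orderOf x = s) (hy : orderOf y = s)
    (hxy : ∀ φ : T ≃* T, φ y ∉ zpowers x) : False := by
  obtain ⟨a, ha⟩ := exists_aut_of_not_der hnd x (by rw [hx]; exact hs)
  obtain ⟨b, hb⟩ := exists_aut_of_not_der hnd y (by rw [hy]; exact hs)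
  have hx' : orderOf (⟨a x, ha⟩ : R) = s := by
    rw [Subgroup.orderOf_mk, ← hx]
    exact (orderOf_injective a.toMonoidHom a.injective x)
  have hy' : orderOf (⟨b y, hb⟩ : R) = s := by
    rw [Subgroup.orderOf_mk, ← hy]
    exact (orderOf_injective b.toMonoidHom b.injective y)
  obtain ⟨g, hg⟩ := conj_of_cyclic hcyc hx' hy'
  obtain ⟨j, hj⟩ := mem_zpowers_iff.1 hg
  have h1 : (a x) ^ j = (g : T) * (b y) * (g : T)⁻¹ := congrArg Subtype.val hj
  apply hxy ((b.trans (MulAut.conj (g : T))).trans a.symm)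
  refine mem_zpowers_iff.2 ⟨j, ?_⟩
  apply a.injective
  rw [map_zpow, h1]
  simp

/-- elements with centralizers of different orders -/
theorem two_of_centA {G : Type*} [Group G] [Finite G] {s : ℕ} {x y : G} (hx : orderOf x = s)
    (hy : orderOf y = s)
    (hne : Nat.card (centralizer ({x} : Set G)) ≠ Nat.card (centralizer ({y} : Set G))) (φ : G ≃* G) :
    φ y ∉ zpowers x := by
  intro hg
  apply hne
  have hc : Nat.card (centralizer ({φ y} : Set G)) = Nat.card (centralizer ({y} : Set G)) := by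
    have h1 : centralizer ({φ y} : Set G) = (centralizer ({y} : Set G)).map φ.toMonoidHom := by
      ext v
      rw [mem_centralizer_singleton_iff]
      constructor
      · intro hv
        refine ⟨φ.symm v, ?_, by simp⟩
        rw [SetLike.mem_coe, mem_centralizer_singleton_iff]
        apply φ.injective
        rw [map_mul, map_mul, φ.apply_symm_apply]
        exact hv
      · rintro ⟨u, hu, rfl⟩
        rw [SetLike.mem_coe, mem_centralizer_singleton_iff] at hu
        change φ u * φ y = φ y * φ u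
        rw [← map_mul, hu, map_mul]
    rw [h1, Subgroup.card_map_of_injective φ.injective]
  have hz : zpowers (φ y) = zpowers x := by
    apply Subgroup.eq_of_le_of_card_ge
    · rw [zpowers_le]; exact hg
    · rw [Nat.card_zpowers, Nat.card_zpowers, hx, ← hy]
      exact (orderOf_injective φ.toMonoidHom φ.injective y).ge
  have hzc : ∀ a : G, centralizer ((zpowers a : Subgroup G) : Set G) = centralizer ({a} : Set G) := by
    intro a
    rw [zpowers_eq_closure, centralizer_closure]
  rw [← hc, ← hzc, ← hzc, hz]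

/-- transport -/
theorem exists_twoA_congr {G H : Type*} [Group G] [Group H] (e : G ≃* H) {s : ℕ}
    (h : ∃ x y : H, orderOf x = s ∧ orderOf y = s ∧ ∀ φ : H ≃* H, φ y ∉ zpowers x) :
    ∃ x y : G, orderOf x = s ∧ orderOf y = s ∧ ∀ φ : G ≃* G, φ y ∉ zpowers x := by
  obtain ⟨x, y, hx, hy, hxy⟩ := h
  refine ⟨e.symm x, e.symm y, by rw [MulEquiv.orderOf_eq, hx], by rw [MulEquiv.orderOf_eq, hy], fun φ hg => ?_⟩
  apply hxy ((e.symm.trans φ).trans e)
  obtain ⟨j, hj⟩ := mem_zpowers_iff.1 hg
  refine mem_zpowers_iff.2 ⟨j, ?_⟩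
  have h1 := congrArg e hj
  rw [map_zpow, e.apply_symm_apply] at h1
  rw [h1]
  rfl

variable {T : Type u} [Group T] [Finite T]

/-- The situation. -/
structure SitA (T : Type u) [Group T] (n : ℕ) (l : List (ℕ × ℕ)) (r : ℕ) (R : Subgroup T) : Prop where
  tab : OrderTable.{u}
  known : Known.{u}
  card : Nat.card T = n
  valid : valid l n = true
  prime : r.Prime
  dvd : r ∣ n
  sq : ¬ r ^ 2 ∣ n
  ne : R ≠ ⊤
  all : ∀ p : ℕ, p.Prime → p ∣ n → p ∣ Nat.card R

namespace SitA

variable {n : ℕ} {l : List (ℕ × ℕ)} {r : ℕ} {R : Subgroup T}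

omit [Finite T] in
theorem dvd_n (S : SitA T n l r R) : Nat.card R ∣ n := by
  rw [← S.card]
  exact Subgroup.card_subgroup_dvd_card R

omit [Finite T] in
theorem dvd_card (S : SitA T n l r R) {p : ℕ} (hp : p.Prime) (hd : p ∣ n) : p ∣ Nat.card R :=
  S.all p hp hd

omit [Finite T] in
theorem sqR (S : SitA T n l r R) : ¬ r ^ 2 ∣ Nat.card R := fun h => S.sq (h.trans S.dvd_n)

theorem card_lt (S : SitA T n l r R) : Nat.card R < n := by
  rw [← S.card]
  refine lt_of_le_of_ne (Nat.le_of_dvd Nat.card_pos (Subgroup.card_subgroup_dvd_card R)) fun h => S.ne ?_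
  exact Subgroup.eq_top_of_card_eq R h

theorem exists_top (S : SitA T n l r R) :
    ∃ (O : Subgroup R) (_ : O.Normal) (N : Subgroup (R ⧸ O)), Top R r O N :=
  El.exists_top S.prime (S.dvd_card S.prime S.dvd) S.sqR

omit [Finite T] in
theorem noR {k : ℕ} (hno : ∀ z : T, orderOf z ≠ k) (z : R) : orderOf z ≠ k := by
  rw [← Subgroup.orderOf_coe]
  exact hno z

variable {O : Subgroup R} [O.Normal] {N : Subgroup (R ⧸ O)}

/-- the primes not adjacent to `r` do not divide the order of the core -/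
theorem not_dvd_core (S : SitA T n l r R) (h : Top R r O N) {s : ℕ} (hs : s.Prime) (hrs : r ≠ s)
    (hno : ∀ z : T, orderOf z ≠ r * s) (hok : okPow l r s = true) : ¬ s ∣ Nat.card O :=
  h.not_dvd_core hs hrs (noR hno) fun _ hb hd => okPow_spec S.valid hok hs hb (hd.trans S.dvd_n)

/-- the primes not adjacent to `r` divide the order of the simple group at the top -/
theorem dvd_simple (S : SitA T n l r R) (h : Top R r O N) {s : ℕ} (hs : s.Prime)
    (hno : ∀ z : T, orderOf z ≠ r * s) (hok : okPair n l r s = true) : s ∣ Nat.card N := by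
  unfold okPair at hok
  rw [Bool.and_eq_true, Bool.and_eq_true, Bool.and_eq_true] at hok
  obtain ⟨⟨⟨h1, h2⟩, h3⟩, h4⟩ := hok
  have h1' : r ≠ s := by simpa using h1
  have h2' : ¬ s ∣ r - 1 := by
    intro hd
    rw [Nat.mod_eq_zero_of_dvd hd] at h2
    exact absurd h2 (by decide)
  have h3' : s ∣ n := Nat.dvd_of_mod_eq_zero (by simpa using h3)
  exact h.dvd_simple hs h1' (noR hno) (fun _ hb hd => okPow_spec S.valid h4 hs hb (hd.trans S.dvd_n)) h2'
    (S.dvd_card hs h3')

/-- a non-commutative `N` is in the list -/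
theorem exists_surv (S : SitA T n l r R) (h : Top R r O N) (hna : ¬ ∀ a b : N, a * b = b * a) (ss : List ℕ)
    (hss : ∀ s ∈ ss, s ∣ Nat.card N) : ∃ g ∈ surv n l r ss, Real g N ∧ Nat.card N = ordN g := by
  have hsim := h.simple
  have hNR : Nat.card N ∣ Nat.card R := by
    refine (Subgroup.card_subgroup_dvd_card N).trans ?_
    rw [← card_quot_mul O]
    exact dvd_mul_right _ _
  have hNn : Nat.card N ∣ n := hNR.trans S.dvd_n
  obtain ⟨g, hg, hr, hc⟩ := exists_good S.tab (S.known N) hna S.valid hNn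
  refine ⟨g, List.mem_filter.2 ⟨hg, ?_⟩, hr, hc⟩
  unfold okG
  rw [Bool.and_eq_true, Bool.and_eq_true, List.all_eq_true]
  refine ⟨⟨?_, ?_⟩, fun s hs => ?_⟩
  · rw [← hc, Nat.mod_eq_zero_of_dvd h.dvd]; rfl
  · rw [← hc]
    have h1 : Nat.card N ≤ Nat.card R := Nat.le_of_dvd Nat.card_pos hNR
    have h2 := S.card_lt
    have h3 : Nat.card N ≠ n := by omega
    simpa using h3
  · rw [← hc, Nat.mod_eq_zero_of_dvd (hss s hs)]; rfl

omit [Finite T] in
/-- if another prime divides the order of `N` it is not commutative -/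
theorem not_comm_of_dvd (h : Top R r O N) {s : ℕ} (hs : s.Prime) (hrs : r ≠ s) (hd : s ∣ Nat.card N) :
    ¬ ∀ a b : N, a * b = b * a := by
  intro hc
  rw [h.card_of_comm hc] at hd
  exact hrs ((Nat.prime_dvd_prime_iff_eq hs h.prime).1 hd).symm

/-- non-commutative `N` -/
theorem not_comm_of_two (_S : SitA T n l r R) (hnd : ¬ Der T R) (h : Top R r O N) {s : ℕ} (hs : s.Prime) (hrs : r ≠ s)
    (hsO : ¬ s ∣ Nat.card O) {x y : T} (hx : orderOf x = s) (hy : orderOf y = s)
    (hxy : ∀ φ : T ≃* T, φ y ∉ zpowers x) : ¬ ∀ a b : N, a * b = b * a := by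
  intro hc
  have hs' : Fact s.Prime := ⟨hs⟩
  exact false_of_cyclic hnd hs (fun P => h.isCyclic hc hs hrs hsO P.isPGroup') hx hy hxy

omit [Finite T] in
/-- element orders of `N` are element orders of `T` -/
theorem exists_orderOf [Finite R] {k : ℕ} (h : ∃ z : N, orderOf z = k) : ∃ z : T, orderOf z = k := by
  obtain ⟨z, hz⟩ := h
  obtain ⟨y, hy⟩ := QuotientGroup.mk'_surjective O (z : R ⧸ O)
  obtain ⟨j, hj⟩ := exists_lift (QuotientGroup.mk' O) (z := y) (n := k) (by rw [hy, Subgroup.orderOf_coe, hz])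
  exact ⟨((y ^ j : R) : T), by rw [Subgroup.orderOf_coe, hj]⟩

/-- the powers of `s`, not adjacent to `r`, dividing `|R|` divide `|N|` -/
theorem pow_dvd (S : SitA T n l r R) (h : Top R r O N) {s k : ℕ} (hs : s.Prime)
    (hno : ∀ z : T, orderOf z ≠ r * s) (hok : okPair n l r s = true) (hk : s ^ k ∣ Nat.card R) :
    s ^ k ∣ Nat.card N := by
  unfold okPair at hok
  rw [Bool.and_eq_true, Bool.and_eq_true, Bool.and_eq_true] at hok
  obtain ⟨⟨⟨h1, h2⟩, h3⟩, h4⟩ := hok
  have h1' : r ≠ s := by simpa using h1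
  have h2' : ¬ s ∣ r - 1 := by
    intro hd
    rw [Nat.mod_eq_zero_of_dvd hd] at h2
    exact absurd h2 (by decide)
  exact h.pow_dvd_iff hs h1' (noR hno) (fun _ hb hd => okPow_spec S.valid h4 hs hb (hd.trans S.dvd_n)) h2' hk

/-- a prime `s` not adjacent to `2` divides `|N|` -/
theorem dvd_of_na (S : SitA T n l r R) (h : Top R r O N) (hna : ¬ ∀ a b : N, a * b = b * a) {s : ℕ} (hs : s.Prime)
    (hs2 : s ≠ 2) (hno : ∀ z : T, orderOf z ≠ s * 2) (hsn : s ∣ n) (hsq : ¬ s ^ 2 ∣ n) {a : ℕ} (ha1 : 1 ≤ a)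
    (ha : 2 ^ a ∣ Nat.card N) (ha' : ¬ 2 ^ (a + 1) ∣ Nat.card N) (hm : 2 ^ a % s ≠ 1) : s ∣ Nat.card N :=
  h.dvd_of_na hna hs hs2 (noR hno) (S.dvd_card hs hsn) (fun h2 => hsq (h2.trans S.dvd_n)) ha1 ha ha' hm

/-- the index of `N` if `r` is adjacent to no prime -/
theorem index_mul_dvd (h : Top R r O N) (hno : ∀ p : ℕ, p.Prime → r ≠ p → ∀ z : T, orderOf z ≠ r * p)
    (hne : Nat.card N ≠ r) : N.index * ((Nat.card N / r) % r) ∣ r - 1 :=
  h.index_mul_dvd (fun p hp hrp => noR (hno p hp hrp)) hne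

end SitA


theorem sitA_of_not {T : Type u} [Group T] {n : ℕ} {l : List (ℕ × ℕ)} {r : ℕ} {R : Subgroup T} (tab : OrderTable.{u})
    (known : Known.{u}) (hn : Nat.card T = n) (hv : OrdDiv.valid l n = true) (hr : r.Prime) (h2 : (n % r == 0) = true)
    (h3 : (n % r ^ 2 != 0) = true) (hR : R ≠ ⊤) (hall : ∀ p : ℕ, p.Prime → p ∣ n → p ∣ Nat.card R) :
    SitA T n l r R :=
  ⟨tab, known, hn, hv, hr, Nat.dvd_of_mod_eq_zero (by simpa using h2), by
    intro h
    rw [Nat.mod_eq_zero_of_dvd h] at h3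
    exact absurd h3 (by decide), hR, hall⟩

/-- **one pair of non-adjacent primes** -/
theorem clM_of_pair (tab : OrderTable.{u}) (known : Known.{u}) {n : ℕ} {l : List (ℕ × ℕ)} {r s : ℕ}
    (hn : Nat.card T = n) (hr : r.Prime) (hs : s.Prime) (hno : ∀ z : T, orderOf z ≠ r * s)
    (hchk : chkPair n l r s = true) : ClM T := by
  intro R hR
  by_contra hall
  push Not at hall
  rw [hn] at hall
  unfold chkPair at hchk
  rw [Bool.and_eq_true, Bool.and_eq_true, Bool.and_eq_true, Bool.and_eq_true] at hchk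
  obtain ⟨⟨⟨⟨h1, h2⟩, h3⟩, h4⟩, h5⟩ := hchk
  have S : SitA T n l r R := sitA_of_not tab known hn h1 hr h2 h3 hR hall
  obtain ⟨O, hO, N, h⟩ := S.exists_top
  have h6 := S.dvd_simple h hs hno h4
  have hrs : r ≠ s := by
    unfold okPair at h4
    rw [Bool.and_eq_true, Bool.and_eq_true, Bool.and_eq_true] at h4
    simpa using h4.1.1.1
  obtain ⟨g, hg, -, -⟩ := S.exists_surv h (SitA.not_comm_of_dvd h hs hrs h6) [s] (by
    intro t ht
    rw [List.mem_singleton] at ht
    rw [ht]
    exact h6)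
  rw [List.isEmpty_iff] at h5
  rw [h5] at hg
  simp at hg

/-- **two primes not adjacent to 2, and two classes of involutions** -/
theorem clA_of_na (tab : OrderTable.{u}) (known : Known.{u}) {n : ℕ} {l : List (ℕ × ℕ)} {r s : ℕ}
    (hn : Nat.card T = n) (hr : r.Prime) (hs : s.Prime) (hnor : ∀ z : T, orderOf z ≠ r * 2)
    (hnos : ∀ z : T, orderOf z ≠ s * 2) (hchk : chkNA n l r s = true) {x y : T} (hx : orderOf x = 2)
    (hy : orderOf y = 2) (hxy : ∀ φ : T ≃* T, φ y ∉ zpowers x) : ClA T := by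
  intro R hR
  by_contra hnd
  have hall : ∀ p : ℕ, p.Prime → p ∣ n → p ∣ Nat.card R := fun p hp hd =>
    dvd_of_not_der hnd hp (by rw [hn]; exact hd)
  unfold chkNA at hchk
  simp only [Bool.and_eq_true, List.all_eq_true] at hchk
  obtain ⟨⟨⟨⟨⟨⟨⟨⟨h1, h2⟩, h3⟩, h4⟩, h5⟩, h6⟩, h7⟩, h8⟩, h9⟩ := hchk
  have S : SitA T n l r R := sitA_of_not tab known hn h1 hr h2 h3 hR hall
  obtain ⟨O, hO, N, h⟩ := S.exists_top
  have hr2 : r ≠ 2 := by simpa using h6
  have hs2 : s ≠ 2 := by simpa using h7
  have h2O := S.not_dvd_core h Nat.prime_two hr2 hnor h8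
  have hna := S.not_comm_of_two hnd h Nat.prime_two hr2 h2O hx hy hxy
  obtain ⟨g, hg, -, hgc⟩ := S.exists_surv h hna [] (by simp)
  obtain ⟨h10, h11⟩ := h9 g hg
  rw [List.any_eq_true] at h11
  obtain ⟨a, -, h12⟩ := h11
  simp only [Bool.and_eq_true] at h12
  obtain ⟨⟨⟨h13, h14⟩, h15⟩, h16⟩ := h12
  have h17 : s ∣ Nat.card N := by
    refine S.dvd_of_na h hna hs hs2 hnos (Nat.dvd_of_mod_eq_zero (by simpa using h4)) ?_ (a := a)
      (Nat.le_of_ble_eq_true h13) ?_ ?_ (by simpa using h16)
    · intro h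
      rw [Nat.mod_eq_zero_of_dvd h] at h5
      exact absurd h5 (by decide)
    · rw [hgc]
      exact Nat.dvd_of_mod_eq_zero (by simpa using h14)
    · rw [hgc]
      intro h
      rw [Nat.mod_eq_zero_of_dvd h] at h15
      exact absurd h15 (by decide)
  rw [hgc] at h17
  rw [Nat.mod_eq_zero_of_dvd h17] at h10
  exact absurd h10 (by decide)

end Cfsg.Agent.H257.El
end

-- part: H217/Odm/Eng
section
prune_inst 0x100041005400100000000000800004402000000000000000200000000008000080000800280006021020000000000040020000000000000020000000400000000000000010000000000000002000080c00000000000000000000000000000000000000000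
set_option linter.all false
open scoped Cfsg.Agent.FastGrp

-- part: H416/SylCount
section
/-!
# Counting Sylow subgroups of prime order (helper416)

* `card_sylow_mul` : `n_q(G) (q - 1)` is the number of elements of order `q`, if `q` divides `|G|` exactly once;
* `card_sylow_alt` : `n_q(A_n) q (q - 1) (n - q)! = n!` for primes `n / 2 < q ≤ n`;
* `card_normalizer_quot` : `|N_G(Q)| = |C_N(Q)| |N_{G/N}(QN/N)|` for a normal `q'`-subgroup `N`;
* `dvd_pow_diff` : `q ∣ t ^ (v_t |N| - v_t |C_N(Q)|) - 1`.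
-/

set_option autoImplicit false

namespace Cfsg.Agent.H416.SylCount

open Subgroup

section sylow

variable {G : Type*} [Group G] [Finite G] {q : ℕ} [Fact q.Prime]

theorem card_sylow_eq (h : (Nat.card G).factorization q = 1) (P : Sylow q G) : Nat.card P = q := by
  rw [P.card_eq_multiplicity, h, pow_one]

theorem exists_sylow_zpowers (h : (Nat.card G).factorization q = 1) {x : G} (hx : orderOf x = q) :
    ∃ P : Sylow q G, (P : Subgroup G) = zpowers x := by
  have hp : IsPGroup q (zpowers x) := by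
    apply IsPGroup.of_card (n := 1)
    rw [Nat.card_zpowers, hx, pow_one]
  obtain ⟨P, hP⟩ := hp.exists_le_sylow
  refine ⟨P, ?_⟩
  symm
  apply Subgroup.eq_of_le_of_card_ge hP
  rw [Nat.card_zpowers, hx]
  exact (card_sylow_eq h P).le

theorem orderOf_of_mem (h : (Nat.card G).factorization q = 1) {P : Sylow q G} {x : G} (hx : x ∈ P) (hx1 : x ≠ 1) :
    orderOf x = q := by
  have h1 : orderOf (⟨x, hx⟩ : P) ∣ Nat.card P := _root_.orderOf_dvd_natCard _
  rw [← Subgroup.orderOf_coe, card_sylow_eq h P] at h1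
  rcases (Nat.dvd_prime (Fact.out : q.Prime)).1 h1 with h2 | h2
  · exact absurd (orderOf_eq_one_iff.1 h2) hx1
  · exact h2

theorem eq_zpowers (h : (Nat.card G).factorization q = 1) {P : Sylow q G} {x : G} (hx : x ∈ P) (hx1 : x ≠ 1) :
    (P : Subgroup G) = zpowers x := by
  symm
  apply Subgroup.eq_of_le_of_card_ge
  · rw [zpowers_le]; exact hx
  · rw [Nat.card_zpowers, orderOf_of_mem h hx hx1]
    exact (card_sylow_eq h P).le

/-- the number of Sylow `q`-subgroups of order `q` -/
theorem card_sylow_mul (h : (Nat.card G).factorization q = 1) :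
    Nat.card (Sylow q G) * (q - 1) = Nat.card {x : G // orderOf x = q} := by
  classical
  have hq : q.Prime := Fact.out
  have := Fintype.ofFinite (Sylow q G)
  let f : (Σ P : Sylow q G, {x : P // x ≠ 1}) → {x : G // orderOf x = q} := fun z =>
    ⟨z.2.1, orderOf_of_mem h z.2.1.2 fun h1 => z.2.2 (Subtype.ext h1)⟩
  have hf : Function.Bijective f := by
    constructor
    · rintro ⟨P, x, hx⟩ ⟨Q, y, hy⟩ hxy
      have hxy' : (x : G) = y := congrArg Subtype.val hxy
      have hx1 : (x : G) ≠ 1 := fun h1 => hx (Subtype.ext h1)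
      have hPQ : P = Q := by
        apply Sylow.ext
        rw [eq_zpowers h x.2 hx1, eq_zpowers h (P := Q) (x := (x : G)) (hxy' ▸ y.2) hx1]
      subst hPQ
      have : x = y := Subtype.ext hxy'
      subst this
      rfl
    · rintro ⟨x, hx⟩
      obtain ⟨P, hP⟩ := exists_sylow_zpowers h hx
      have hxP : x ∈ P := by
        change x ∈ (P : Subgroup G)
        rw [hP]; exact mem_zpowers x
      have hx1 : x ≠ 1 := by
        rintro rfl
        rw [orderOf_one] at hx
        exact hq.one_lt.ne hx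
      exact ⟨⟨P, ⟨x, hxP⟩, fun h1 => hx1 (congrArg Subtype.val h1)⟩, rfl⟩
  rw [← Nat.card_congr (Equiv.ofBijective f hf), Nat.card_sigma]
  have h1 : ∀ P : Sylow q G, Nat.card {x : P // x ≠ 1} = q - 1 := by
    intro P
    have h2 : Nat.card {x : P // x ≠ 1} + 1 = Nat.card P := by
      have := Fintype.ofFinite P
      rw [Nat.card_eq_fintype_card, Nat.card_eq_fintype_card, Fintype.card_subtype_compl, Fintype.card_subtype_eq]
      exact Nat.sub_add_cancel Fintype.card_pos
    rw [card_sylow_eq h P] at h2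
    omega
  simp only [h1, Finset.sum_const, Finset.card_univ, smul_eq_mul]
  rw [Nat.card_eq_fintype_card]

end sylow

section alt

theorem card_order_alt {n q : ℕ} (hq : q.Prime) (h1 : n < 2 * q) (h2 : q ≤ n) (hq2 : q ≠ 2) :
    Nat.card {x : alternatingGroup (Fin n) // orderOf x = q} = (q - 1).factorial * n.choose q := by
  classical
  have hcard := Equiv.Perm.card_of_cycleType_singleton (α := Fin n) hq.two_le (by rw [Fintype.card_fin]; exact h2)
  rw [Fintype.card_fin] at hcard
  rw [← hcard, ← Fintype.card_subtype, ← Nat.card_eq_fintype_card]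
  let f : {x : alternatingGroup (Fin n) // orderOf x = q} → {g : Equiv.Perm (Fin n) // g.cycleType = {q}} := fun x =>
    ⟨x.1, by
      have hx : orderOf ((x.1 : alternatingGroup (Fin n)) : Equiv.Perm (Fin n)) = q := by
        rw [Subgroup.orderOf_coe]; exact x.2
      obtain ⟨k, hk⟩ := Equiv.Perm.cycleType_prime_order (σ := ((x.1 : alternatingGroup (Fin n)) : Equiv.Perm (Fin n)))
        (by rw [hx]; exact hq)
      rw [hx] at hk
      have hsum : (((x.1 : alternatingGroup (Fin n)) : Equiv.Perm (Fin n))).cycleType.sum ≤ n := by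
        rw [Equiv.Perm.sum_cycleType]
        simpa only [_root_.Fintype.card_fin] using (((x.1 : alternatingGroup (Fin n)) : Equiv.Perm (Fin n))).support.card_le_univ
      rw [hk, Multiset.sum_replicate, smul_eq_mul] at hsum
      have hk0 : k = 0 := by
        by_contra hk0
        have : 2 * q ≤ (k + 1) * q := Nat.mul_le_mul_right q (by omega)
        omega
      rw [hk, hk0]
      rfl⟩
  refine Nat.card_congr (Equiv.ofBijective f ⟨?_, ?_⟩)
  · intro x y hxy
    have h4 := congrArg (fun z : {g : Equiv.Perm (Fin n) // g.cycleType = {q}} => (z : Equiv.Perm (Fin n))) hxy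
    exact Subtype.ext (Subtype.ext h4)
  · rintro ⟨g, hg⟩
    have hs : g ∈ alternatingGroup (Fin n) := by
      rw [Equiv.Perm.mem_alternatingGroup, Equiv.Perm.sign_of_cycleType, hg]
      have : Even (Multiset.sum {q} + Multiset.card ({q} : Multiset ℕ)) := by
        rw [Multiset.sum_singleton, Multiset.card_singleton]
        exact (hq.odd_of_ne_two hq2).add_one
      exact this.neg_one_pow
    refine ⟨⟨⟨g, hs⟩, ?_⟩, rfl⟩
    rw [Subgroup.orderOf_mk, ← Equiv.Perm.lcm_cycleType, hg, Multiset.lcm_singleton]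
    simp

theorem card_sylow_alt {n q : ℕ} [Fact q.Prime] (h1 : n < 2 * q) (h2 : q ≤ n) (hq2 : q ≠ 2)
    (h : (Nat.card (alternatingGroup (Fin n))).factorization q = 1) :
    Nat.card (Sylow q (alternatingGroup (Fin n))) * (q * (q - 1) * (n - q).factorial) = n.factorial := by
  have hq : q.Prime := Fact.out
  have h3 := card_sylow_mul h
  rw [card_order_alt hq h1 h2 hq2] at h3
  calc Nat.card (Sylow q (alternatingGroup (Fin n))) * (q * (q - 1) * (n - q).factorial) =
      (Nat.card (Sylow q (alternatingGroup (Fin n))) * (q - 1)) * (q * (n - q).factorial) := by ring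
    _ = ((q - 1).factorial * n.choose q) * (q * (n - q).factorial) := by rw [h3]
    _ = n.choose q * (q * (q - 1).factorial) * (n - q).factorial := by ring
    _ = n.choose q * q.factorial * (n - q).factorial := by rw [Nat.mul_factorial_pred hq.ne_zero]
    _ = n.factorial := Nat.choose_mul_factorial_mul_factorial h2

end alt

section quot

variable {G : Type*} [Group G] [Finite G] {q : ℕ} [Fact q.Prime]

theorem card_normalizer_quot (Q N : Subgroup G) [N.Normal] (hN : (Nat.card N).Coprime q) (hQ : IsPGroup q Q) :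
    Nat.card (normalizer (Q : Set G)) =
      Nat.card ↥(N ⊓ centralizer (Q : Set G)) * Nat.card (normalizer ((Q.map (QuotientGroup.mk' N) : Subgroup (G ⧸ N)) : Set (G ⧸ N))) := by
  rw [← Cfsg.Agent.PLocal.CoprimeLift.map_normalizer_mk N Q hN hQ]
  have h1 : N ⊓ normalizer (Q : Set G) = N ⊓ centralizer (Q : Set G) := by
    apply le_antisymm
    · intro x hx
      rw [mem_inf] at hx ⊢
      refine ⟨hx.1, ?_⟩
      rw [mem_centralizer_iff]
      intro y hy
      have h2 : x * y * x⁻¹ * y⁻¹ ∈ N ⊓ Q := by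
        rw [mem_inf]
        constructor
        · have : x * y * x⁻¹ * y⁻¹ = x * (y * x⁻¹ * y⁻¹) := by group
          rw [this]
          exact N.mul_mem hx.1 (‹N.Normal›.conj_mem _ (N.inv_mem hx.1) y)
        · exact Q.mul_mem ((mem_normalizer_iff.1 hx.2 y).1 hy) (Q.inv_mem hy)
      have h3 : N ⊓ Q = ⊥ := by
        apply Disjoint.eq_bot
        apply Subgroup.disjoint_of_coprime_natCard
        obtain ⟨k, hk⟩ := IsPGroup.iff_card.1 hQ
        rw [hk]
        exact Nat.Coprime.pow_right k hN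
      rw [h3, mem_bot] at h2
      calc y * x = (x * y * x⁻¹ * y⁻¹)⁻¹ * (x * y) := by group
        _ = x * y := by rw [h2, inv_one, one_mul]
    · exact inf_le_inf_left _ (centralizer_le_normalizer _)
  rw [← h1]
  have h2 : Nat.card ((normalizer (Q : Set G)).map (QuotientGroup.mk' N)) = N.relIndex (normalizer (Q : Set G)) := by
    rw [← Subgroup.relIndex_ker, QuotientGroup.ker_mk']
  have h3 : Nat.card ↥(N ⊓ normalizer (Q : Set G)) = Nat.card (N.subgroupOf (normalizer (Q : Set G))) := by
    rw [← Subgroup.inf_subgroupOf_right]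
    exact (Nat.card_congr (subgroupOfEquivOfLe inf_le_right).toEquiv).symm
  rw [h2, h3]
  exact (Subgroup.card_mul_index _).symm

omit [Fact q.Prime] in
theorem dvd_pow_diff (hq : q.Prime) {t : ℕ} (ht : t.Prime) (htq : t ≠ q) (Q N : Subgroup G) [N.Normal]
    (hQ : Nat.card Q = q) (hqN : ¬ q ∣ Nat.card N) :
    q ∣ t ^ ((Nat.card N).factorization t - (Nat.card ↥(N ⊓ centralizer (Q : Set G))).factorization t) - 1 := by
  classical
  have : Fact q.Prime := ⟨hq⟩
  have : Fact t.Prime := ⟨ht⟩
  set C := N ⊓ centralizer (Q : Set G) with hC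
  have hQp : IsPGroup q Q := IsPGroup.of_card (n := 1) (by rw [hQ, pow_one])
  have hQN : ∀ b ∈ Q, ∀ u ∈ N, b * u * b⁻¹ ∈ N := fun b _ u hu => ‹N.Normal›.conj_mem u hu b
  -- a Sylow subgroup of `C`
  let R₀ : Sylow t C := default
  set R : Subgroup G := (R₀ : Subgroup C).map C.subtype with hR
  have hRcard : Nat.card R = t ^ (Nat.card C).factorization t := by
    rw [hR, Nat.card_congr ((R₀ : Subgroup C).equivMapOfInjective C.subtype C.subtype_injective).symm.toEquiv]
    exact R₀.card_eq_multiplicity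
  have hRC : R ≤ C := by
    rintro _ ⟨x, _, rfl⟩
    exact x.2
  have hRp : IsPGroup t R := R₀.2.map _
  obtain ⟨S, ⟨S₀, hS₀⟩, hQS, hRS⟩ := Cfsg.Agent.Lib.PGroupCoprimeAction.exists_invariant_sylow_ge hQp hqN hQN
    (hRC.trans inf_le_left) hRp (by
      intro b hb u hu
      have h1 := (mem_inf.1 (hRC hu)).2
      rw [mem_centralizer_iff] at h1
      have h2 : b * u * b⁻¹ = u := by rw [h1 b hb]; group
      rw [h2]; exact hu)
  have hScard : Nat.card S = t ^ (Nat.card N).factorization t := by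
    rw [← hS₀, Nat.card_congr ((S₀ : Subgroup N).equivMapOfInjective N.subtype N.subtype_injective).symm.toEquiv]
    exact S₀.card_eq_multiplicity
  have hSp : IsPGroup t S := by rw [← hS₀]; exact S₀.2.map _
  have hSN : S ≤ N := by
    rw [← hS₀]
    rintro _ ⟨x, _, rfl⟩
    exact x.2
  -- the fixed points of `Q` on `S`
  have hfix : S ⊓ centralizer (Q : Set G) = R := by
    symm
    apply Subgroup.eq_of_le_of_card_ge
    · exact le_inf hRS (hRC.trans inf_le_right)
    · have h1 : IsPGroup t ↥(S ⊓ centralizer (Q : Set G)) := hSp.to_le inf_le_left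
      obtain ⟨k, hk⟩ := IsPGroup.iff_card.1 h1
      have h2 : S ⊓ centralizer (Q : Set G) ≤ C := inf_le_inf_right _ hSN
      have h3 : t ^ k ∣ Nat.card C := by rw [← hk]; exact Subgroup.card_dvd_of_le h2
      rw [hk, hRcard]
      exact Nat.pow_le_pow_right ht.pos ((ht.pow_dvd_iff_le_factorization Nat.card_pos.ne').1 h3)
  let _act : MulAction Q S :=
    { smul := fun a y => ⟨(a : G) * y.1 * (a : G)⁻¹, hQS a a.2 _ y.2⟩
      one_smul := fun y => by
        apply Subtype.ext
        change ((1 : Q) : G) * y.1 * ((1 : Q) : G)⁻¹ = y.1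
        simp
      mul_smul := fun a b y => by
        apply Subtype.ext
        change ((a * b : Q) : G) * y.1 * ((a * b : Q) : G)⁻¹
          = (a : G) * ((b : G) * y.1 * (b : G)⁻¹) * (a : G)⁻¹
        rw [Subgroup.coe_mul]; group }
  have h1 := hQp.card_modEq_card_fixedPoints S
  have h2 : Nat.card (MulAction.fixedPoints Q S) = Nat.card ↥(S ⊓ centralizer (Q : Set G)) := by
    apply Nat.card_congr
    refine ⟨fun y => ⟨y.1.1, mem_inf.mpr ⟨y.1.2, ?_⟩⟩, fun y => ⟨⟨y.1, (mem_inf.mp y.2).1⟩, ?_⟩, fun _ => rfl, fun _ => rfl⟩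
    · rw [mem_centralizer_iff]
      intro a ha
      have h3 := congrArg Subtype.val (y.2 ⟨a, ha⟩)
      change a * y.1.1 * a⁻¹ = y.1.1 at h3
      calc a * y.1.1 = (a * y.1.1 * a⁻¹) * a := by group
        _ = y.1.1 * a := by rw [h3]
    · rintro ⟨a, ha⟩
      apply Subtype.ext
      change a * y.1 * a⁻¹ = y.1
      have h3 := mem_centralizer_iff.mp (mem_inf.mp y.2).2 a ha
      rw [h3]; group
  rw [h2, hfix, hRcard, hScard] at h1
  have hle : (Nat.card C).factorization t ≤ (Nat.card N).factorization t :=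
    (Nat.factorization_le_iff_dvd Nat.card_pos.ne' Nat.card_pos.ne').2 (Subgroup.card_dvd_of_le inf_le_left) t
  have h3 : q ∣ t ^ (Nat.card N).factorization t - t ^ (Nat.card C).factorization t :=
    (Nat.modEq_iff_dvd' (Nat.pow_le_pow_right ht.pos hle)).mp h1.symm
  have h4 : t ^ (Nat.card N).factorization t - t ^ (Nat.card C).factorization t =
      t ^ (Nat.card C).factorization t *
        (t ^ ((Nat.card N).factorization t - (Nat.card C).factorization t) - 1) := by
    rw [Nat.mul_sub, mul_one, ← pow_add, Nat.add_sub_cancel' hle]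
  rw [h4] at h3
  rcases hq.dvd_mul.mp h3 with h5 | h5
  · exact absurd ((Nat.prime_dvd_prime_iff_eq hq ht).mp (hq.dvd_of_dvd_pow h5)).symm htq
  · exact h5

end quot

end Cfsg.Agent.H416.SylCount
end

-- part: H217/Odm/Eng
section
/-!
# TEAM ODDM (S4785), sporadic groups: the engine (helper217)

`T` a group of order `n`, `l` the factorisation of `n`, `r` a prime with `r ∥ n` which is the order of a real element,
`ss` a nonempty list of primes `s`, orders of real elements of `T`, such that `T` has no element of order `r s`.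

* `row_of_empty` : if no simple group of order dividing `n`, `≠ n`, is divisible by `r` and by the `s ∈ ss`, then `Row T`;
* `row_of_two`   : the same with the comparison of the `2`-parts; here `|N_T(⟨x⟩)| = r * nu` for the elements `x` of
  order `r`.
* `isReal_of_cent` : reality of elements of order `r`, `r ∥ n`, from the order of the centralizer.
-/

set_option autoImplicit false

namespace Cfsg.Agent.H217.Odm

open Subgroup
open Cfsg.Agent.OrdDiv
open Cfsg.Agent.H453.OddM
open Cfsg.Agent.H257.El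

universe u

/-! ### the exponent of two, computable -/

/-- the exponent of `2` in `n`, with fuel -/
def tz : ℕ → ℕ → ℕ
  | 0, _ => 0
  | k + 1, n => if n % 2 = 0 then tz k (n / 2) + 1 else 0

theorem tz_eq : ∀ (k n : ℕ), n ≠ 0 → n < 2 ^ k → tz k n = n.factorization 2
  | 0, n, h0, h1 => by
    rw [pow_zero] at h1
    omega
  | k + 1, n, h0, h1 => by
    unfold tz
    split_ifs with h2
    · obtain ⟨m, rfl⟩ := Nat.dvd_of_mod_eq_zero h2
      have hm : m ≠ 0 := by rintro rfl; exact h0 rfl
      rw [Nat.mul_div_cancel_left _ (by norm_num : 0 < 2), tz_eq k m hm (by rw [pow_succ] at h1; omega),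
        Nat.factorization_mul (by norm_num) hm, Finsupp.add_apply, Nat.prime_two.factorization_self]
      ring
    · symm
      apply Nat.factorization_eq_zero_of_not_dvd
      intro hd
      exact h2 (Nat.mod_eq_zero_of_dvd hd)

/-- the exponent of `2`, for numbers less than `2 ^ 300` -/
def vv (n : ℕ) : ℕ := tz 300 n

theorem vv_eq {n : ℕ} (h0 : n ≠ 0) (h1 : n < 2 ^ 300) : vv n = n.factorization 2 := tz_eq 300 n h0 h1

/-! ### the checks -/

/-- all the conditions which do not involve the `2`-parts -/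
def chkBase (n : ℕ) (l : List (ℕ × ℕ)) (r : ℕ) (ss : List ℕ) : Bool :=
  OrdDiv.valid l n && (n % r == 0) && (n % r ^ 2 != 0) && !ss.isEmpty && ss.all (okPair n l r)

/-- no survivors -/
def chkEmpty (n : ℕ) (l : List (ℕ × ℕ)) (r : ℕ) (ss : List ℕ) : Bool :=
  chkBase n l r ss && (surv n l r ss).isEmpty

/-- one survivor `g` is killed by the `2`-parts -/
def chkG (n r nu : ℕ) (g : Grp) : Bool :=
  Nat.blt (ordN g) (2 ^ 300) && (List.range (nu + 1)).all fun m =>
    (m == 0) || (nu % m != 0) || ((ordN g / r) % r != m % r) ||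
      Nat.blt (vv n + vv m) (vv nu + vv (ordN g)) || (2 ^ (vv n + vv m - (vv nu + vv (ordN g))) % r != 1)

/-- the survivors are killed by the `2`-parts -/
def chkTwoPart (n : ℕ) (l : List (ℕ × ℕ)) (r nu : ℕ) (ss : List ℕ) : Bool :=
  chkBase n l r ss && (r != 2) && Nat.blt n (2 ^ 300) && (nu != 0) && Nat.blt nu (2 ^ 300) &&
    (surv n l r ss).all (chkG n r nu)

/-! ### the situation -/

variable {T : Type u} [Group T] [Finite T]

structure SitO (T : Type u) [Group T] (n : ℕ) (l : List (ℕ × ℕ)) (r : ℕ) (R : Subgroup T) : Prop where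
  tab : OrderTable.{u}
  known : Known.{u}
  card : Nat.card T = n
  valid : valid l n = true
  prime : r.Prime
  dvd : r ∣ n
  sq : ¬ r ^ 2 ∣ n
  ne : R ≠ ⊤
  ro : RO T R
  real : RealP T r

namespace SitO

variable {n : ℕ} {l : List (ℕ × ℕ)} {r : ℕ} {R : Subgroup T}

omit [Finite T] in
theorem dvd_n (S : SitO T n l r R) : Nat.card R ∣ n := by
  rw [← S.card]
  exact Subgroup.card_subgroup_dvd_card R

omit [Finite T] in
theorem sqR (S : SitO T n l r R) : ¬ r ^ 2 ∣ Nat.card R := fun h => S.sq (h.trans S.dvd_n)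

theorem card_lt (S : SitO T n l r R) : Nat.card R < n := by
  rw [← S.card]
  refine lt_of_le_of_ne (Nat.le_of_dvd Nat.card_pos (Subgroup.card_subgroup_dvd_card R)) fun h => S.ne ?_
  exact Subgroup.eq_top_of_card_eq R h

theorem exists_top (S : SitO T n l r R) :
    ∃ (O : Subgroup R) (_ : O.Normal) (N : Subgroup (R ⧸ O)), _root_.Cfsg.Agent.H257.El.Top R r O N :=
  H257.El.exists_top S.prime (S.ro.cov.dvd S.real) S.sqR

omit [Finite T] in
theorem noR {k : ℕ} (hno : ∀ z : T, orderOf z ≠ k) (z : R) : orderOf z ≠ k := by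
  rw [← Subgroup.orderOf_coe]
  exact hno z

variable {O : Subgroup R} [O.Normal] {N : Subgroup (R ⧸ O)}

/-- the primes not adjacent to `r` divide the order of the simple group at the top -/
theorem dvd_simple (S : SitO T n l r R) (h : _root_.Cfsg.Agent.H257.El.Top R r O N) {s : ℕ} (hs : s.Prime) (hrs : RealP T s)
    (hno : ∀ z : T, orderOf z ≠ r * s) (hok : okPair n l r s = true) : s ∣ Nat.card N := by
  unfold okPair at hok
  rw [Bool.and_eq_true, Bool.and_eq_true, Bool.and_eq_true] at hok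
  obtain ⟨⟨⟨h1, h2⟩, h3⟩, h4⟩ := hok
  have h1' : r ≠ s := by simpa using h1
  have h2' : ¬ s ∣ r - 1 := by
    intro hd
    rw [Nat.mod_eq_zero_of_dvd hd] at h2
    exact absurd h2 (by decide)
  exact h.dvd_simple hs h1' (noR hno) (fun _ hb hd => okPow_spec S.valid h4 hs hb (hd.trans S.dvd_n)) h2'
    (S.ro.cov.dvd hrs)

/-- a non-commutative `N` is in the list -/
theorem exists_surv (S : SitO T n l r R) (h : _root_.Cfsg.Agent.H257.El.Top R r O N) (hna : ¬ ∀ a b : N, a * b = b * a) (ss : List ℕ)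
    (hss : ∀ s ∈ ss, s ∣ Nat.card N) : ∃ g ∈ surv n l r ss, Real g N ∧ Nat.card N = ordN g := by
  have hsim := h.simple
  have hNR : Nat.card N ∣ Nat.card R := by
    refine (Subgroup.card_subgroup_dvd_card N).trans ?_
    rw [← card_quot_mul O]
    exact dvd_mul_right _ _
  have hNn : Nat.card N ∣ n := hNR.trans S.dvd_n
  obtain ⟨g, hg, hr, hc⟩ := exists_good S.tab (S.known N) hna S.valid hNn
  refine ⟨g, List.mem_filter.2 ⟨hg, ?_⟩, hr, hc⟩
  unfold okG
  rw [Bool.and_eq_true, Bool.and_eq_true, List.all_eq_true]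
  refine ⟨⟨?_, ?_⟩, fun s hs => ?_⟩
  · rw [← hc, Nat.mod_eq_zero_of_dvd h.dvd]; rfl
  · rw [← hc]
    have h1 : Nat.card N ≤ Nat.card R := Nat.le_of_dvd Nat.card_pos hNR
    have h2 := S.card_lt
    have h3 : Nat.card N ≠ n := by omega
    simpa only [_root_.bne_iff_ne, _root_.ne_eq] using h3
  · rw [← hc, Nat.mod_eq_zero_of_dvd (hss s hs)]; rfl

omit [Finite T] in
/-- if another prime divides the order of `N` it is not commutative -/
theorem not_comm_of_dvd (h : _root_.Cfsg.Agent.H257.El.Top R r O N) {s : ℕ} (hs : s.Prime) (hrs : r ≠ s) (hd : s ∣ Nat.card N) :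
    ¬ ∀ a b : N, a * b = b * a := by
  intro hc
  rw [h.card_of_comm hc] at hd
  exact hrs ((Nat.prime_dvd_prime_iff_eq hs h.prime).1 hd).symm

end SitO

/-! ### subgroups of prime order and their normalizers -/

section lem

variable {G : Type*} [Group G] [Finite G]

/-- `N` normal, `P ≤ N` of order `r`, `r ^ 2 ∤ |G|`: the Frattini argument, and the congruence for `|N_N(P)|` -/
theorem frattini_card {r : ℕ} (hr : r.Prime) (h2 : ¬ r ^ 2 ∣ Nat.card G) (N P : Subgroup G) [hN : N.Normal]
    (hP : Nat.card P = r) (hPN : P ≤ N) :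
    ∃ m : ℕ, r * m ∣ Nat.card (normalizer (P : Set G)) ∧ (Nat.card N / r) % r = m % r ∧
      Nat.card G * (r * m) = Nat.card N * Nat.card (normalizer (P : Set G)) := by
  classical
  have hr' : Fact r.Prime := ⟨hr⟩
  set M := normalizer (P : Set G) with hM
  have hN2 : ¬ r ^ 2 ∣ Nat.card N := fun h => h2 (h.trans (Subgroup.card_subgroup_dvd_card N))
  have hrN : r ∣ Nat.card N := by rw [← hP]; exact Subgroup.card_dvd_of_le hPN
  -- the Sylow subgroup
  have hP'c : Nat.card (P.subgroupOf N) = r := by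
    rw [Nat.card_congr (Subgroup.subgroupOfEquivOfLe hPN).toEquiv, hP]
  have hfac : (Nat.card N).factorization r = 1 := by
    apply le_antisymm
    · by_contra hc
      exact hN2 ((hr.pow_dvd_iff_le_factorization Nat.card_pos.ne').2 (by omega))
    · exact (hr.dvd_iff_one_le_factorization Nat.card_pos.ne').1 hrN
  let U : Sylow r N := Sylow.ofCard (P.subgroupOf N) (by rw [hP'c, hfac, pow_one])
  have hU : (U : Subgroup N) = P.subgroupOf N := rfl
  have hmap : (U : Subgroup N).map N.subtype = P := by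
    rw [hU, Subgroup.subgroupOf_map_subtype]
    exact inf_eq_left.2 hPN
  have hfr := Sylow.normalizer_sup_eq_top U
  rw [hmap, ← hM] at hfr
  have h5 : N.relIndex (M ⊔ N) = N.relIndex M := Subgroup.relIndex_sup_right _ _
  rw [hfr, Subgroup.relIndex_top_right] at h5
  have h6 := Subgroup.card_mul_index (N.subgroupOf M)
  have h7 : (N.subgroupOf M).index = N.index := h5.symm
  -- the normalizer in `N`
  have h8 : normalizer (((U : Subgroup N) : Subgroup N) : Set N) = M.subgroupOf N := by
    ext w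
    rw [mem_subgroupOf, mem_normalizer_iff, hM, mem_normalizer_iff]
    constructor
    · intro hh v
      constructor
      · intro hv
        exact (hh ⟨v, hPN hv⟩).1 hv
      · intro hv
        have hvN : v ∈ N := by
          have h9 := mul_mem (mul_mem (inv_mem w.2) (hPN hv)) w.2
          rwa [show (w : G)⁻¹ * ((w : G) * v * (w : G)⁻¹) * w = v by group] at h9
        exact (hh ⟨v, hvN⟩).2 hv
    · intro hh v
      exact hh v
  have h9 : Nat.card (M.subgroupOf N) = Nat.card (N.subgroupOf M) := by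
    have e1 : Nat.card (M.subgroupOf N) = Nat.card (N ⊓ M : Subgroup G) := by
      rw [← Subgroup.inf_subgroupOf_left]
      exact Nat.card_congr (Subgroup.subgroupOfEquivOfLe inf_le_left).toEquiv
    have e2 : Nat.card (N.subgroupOf M) = Nat.card (N ⊓ M : Subgroup G) := by
      rw [← Subgroup.inf_subgroupOf_right]
      exact Nat.card_congr (Subgroup.subgroupOfEquivOfLe inf_le_right).toEquiv
    rw [e1, e2]
  have hPM : P ≤ M := by rw [hM]; exact le_normalizer
  have hrM : r ∣ Nat.card (N.subgroupOf M) := by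
    rw [← h9, ← h8]
    have h10 : (U : Subgroup N) ≤ normalizer (((U : Subgroup N) : Subgroup N) : Set N) := le_normalizer
    have h11 := Subgroup.card_dvd_of_le h10
    rwa [hU, hP'c] at h11
  obtain ⟨m, hm⟩ := hrM
  refine ⟨m, ?_, ?_, ?_⟩
  · rw [← hm]
    exact Subgroup.card_subgroup_dvd_card _
  · -- Sylow
    have h12 : Nat.card (Sylow r N) ≡ 1 [MOD r] := card_sylow_modEq_one r N
    have h13 : Nat.card (Sylow r N) * (r * m) = Nat.card N := by
      rw [← hm, ← h9, ← h8, Sylow.card_eq_index_normalizer U, mul_comm]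
      exact Subgroup.card_mul_index _
    have h14 : Nat.card N / r = Nat.card (Sylow r N) * m := by
      rw [← h13, show Nat.card (Sylow r N) * (r * m) = r * (Nat.card (Sylow r N) * m) by ring,
        Nat.mul_div_cancel_left _ hr.pos]
    rw [h14]
    have h15 := h12.mul_right m
    rw [one_mul] at h15
    exact h15
  · rw [← hm, ← Subgroup.card_mul_index N, ← h7]
    have h16 : Nat.card (N.subgroupOf M) * (N.subgroupOf M).index = Nat.card M := h6
    rw [← h16]
    ring

/-- `|N_R(⟨x⟩)|` divides `|N_T(⟨x⟩)|` -/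
theorem card_norm_dvd {T : Type*} [Group T] [Finite T] {R : Subgroup T} (x : R) :
    Nat.card (normalizer ((zpowers x : Subgroup R) : Set R)) ∣
      Nat.card (normalizer ((zpowers (x : T) : Subgroup T) : Set T)) := by
  have hcm : Nat.card ((normalizer ((zpowers x : Subgroup R) : Set R)).map R.subtype) =
      Nat.card (normalizer ((zpowers x : Subgroup R) : Set R)) :=
    Subgroup.card_map_of_injective R.subtype_injective
  rw [← hcm]
  apply Subgroup.card_dvd_of_le
  rintro _ ⟨w, hw, rfl⟩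
  rw [SetLike.mem_coe, mem_normalizer_iff] at hw
  rw [mem_normalizer_iff]
  have hmem : ∀ v : R, v ∈ zpowers x ↔ (v : T) ∈ zpowers (x : T) := by
    intro v
    rw [mem_zpowers_iff, mem_zpowers_iff]
    constructor
    · rintro ⟨j, hj⟩
      exact ⟨j, congrArg Subtype.val hj⟩
    · rintro ⟨j, hj⟩
      exact ⟨j, Subtype.ext hj⟩
  have hin : ∀ v ∈ zpowers (x : T), v ∈ R := by
    intro v hv
    obtain ⟨j, rfl⟩ := mem_zpowers_iff.1 hv
    exact zpow_mem x.2 j
  intro v
  constructor
  · intro hv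
    exact (hmem _).1 ((hw ⟨v, hin v hv⟩).1 ((hmem _).2 hv))
  · intro hv
    have hvR : v ∈ R := by
      have h9 := mul_mem (mul_mem (inv_mem w.2) (hin _ hv)) w.2
      change (w : T)⁻¹ * ((w : T) * v * (w : T)⁻¹) * w ∈ R at h9
      rwa [show (w : T)⁻¹ * ((w : T) * v * (w : T)⁻¹) * w = v by group] at h9
    exact (hmem _).1 ((hw ⟨v, hvR⟩).2 ((hmem _).2 hv))

end lem

namespace SitO

variable {n : ℕ} {l : List (ℕ × ℕ)} {r : ℕ} {R : Subgroup T}

/-- an element of order `r` of `R` whose normalizer contains a Sylow `2`-subgroup of its normalizer in `T` -/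
theorem exists_elt (S : SitO T n l r R) {nu : ℕ}
    (hnu : ∀ x : T, orderOf x = r → Nat.card (normalizer ((zpowers x : Subgroup T) : Set T)) = r * nu) :
    ∃ x : R, orderOf x = r ∧ Nat.card (normalizer ((zpowers x : Subgroup R) : Set R)) ∣ r * nu ∧
      2 ^ ((r * nu).factorization 2) ∣ Nat.card (normalizer ((zpowers x : Subgroup R) : Set R)) := by
  classical
  obtain ⟨x₀, hx₀, hreal⟩ := S.real
  set M := normalizer ((zpowers x₀ : Subgroup T) : Set T) with hM
  have h2 : Fact (Nat.Prime 2) := ⟨Nat.prime_two⟩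
  obtain ⟨Q⟩ : Nonempty (Sylow 2 M) := inferInstance
  have hQp : IsPGroup 2 ((Q : Subgroup M).map M.subtype) := Q.isPGroup'.map _
  obtain ⟨g, hg, hgQ⟩ := S.ro.exists_conj_two hreal hQp (by
    rintro _ ⟨q, -, rfl⟩
    exact (mem_normalizer_iff.1 q.2 x₀).1 (mem_zpowers x₀))
  refine ⟨⟨g * x₀ * g⁻¹, hg⟩, ?_, ?_, ?_⟩
  · rw [Subgroup.orderOf_mk, ← hx₀]
    exact orderOf_injective (MulAut.conj g).toMonoidHom (MulAut.conj g).injective x₀
  · have h3 := card_norm_dvd (⟨g * x₀ * g⁻¹, hg⟩ : R)
    rwa [hnu (g * x₀ * g⁻¹) (by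
      rw [← hx₀]
      exact orderOf_injective (MulAut.conj g).toMonoidHom (MulAut.conj g).injective x₀)] at h3
  · -- the conjugate of `Q`
    have hQc : Nat.card Q = 2 ^ ((r * nu).factorization 2) := by
      rw [Q.card_eq_multiplicity, hM, hnu x₀ hx₀]
    have hQc' : Nat.card (((Q : Subgroup M).map M.subtype).map (MulAut.conj g).toMonoidHom) = Nat.card Q := by
      rw [Subgroup.card_map_of_injective (MulAut.conj g).injective,
        Subgroup.card_map_of_injective M.subtype_injective]
    set Q' := ((Q : Subgroup M).map M.subtype).map (MulAut.conj g).toMonoidHom with hQ'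
    have hQR : Q' ≤ R := by
      rintro _ ⟨q, hq, rfl⟩
      exact hgQ q hq
    have hQs : Nat.card (Q'.subgroupOf R) = Nat.card Q := by
      rw [Nat.card_congr (Subgroup.subgroupOfEquivOfLe hQR).toEquiv, hQc']
    rw [← hQc, ← hQs]
    apply Subgroup.card_dvd_of_le
    intro w hw
    rw [mem_subgroupOf] at hw
    obtain ⟨_, ⟨q, hq, rfl⟩, hqw⟩ := hw
    have hqw' : g * (q : T) * g⁻¹ = (w : T) := hqw
    rw [mem_normalizer_iff]
    have hnorm : ∀ v : T, v ∈ zpowers (g * x₀ * g⁻¹) ↔ (w : T) * v * (w : T)⁻¹ ∈ zpowers (g * x₀ * g⁻¹) := by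
      have hz : ∀ v : T, v ∈ zpowers (g * x₀ * g⁻¹) ↔ g⁻¹ * v * g ∈ zpowers x₀ := by
        intro v
        rw [mem_zpowers_iff, mem_zpowers_iff]
        constructor
        · rintro ⟨j, rfl⟩
          refine ⟨j, ?_⟩
          rw [conj_zpow]; group
        · rintro ⟨j, hj⟩
          refine ⟨j, ?_⟩
          rw [conj_zpow, hj]; group
      intro v
      rw [hz, hz, ← hqw']
      have h5 := mem_normalizer_iff.1 q.2 (g⁻¹ * v * g)
      rw [show g⁻¹ * (g * (q : T) * g⁻¹ * v * (g * (q : T) * g⁻¹)⁻¹) * g = (q : T) * (g⁻¹ * v * g) * (q : T)⁻¹ by group]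
      exact h5
    have hmem : ∀ v : R, v ∈ zpowers (⟨g * x₀ * g⁻¹, hg⟩ : R) ↔ (v : T) ∈ zpowers (g * x₀ * g⁻¹) := by
      intro v
      rw [mem_zpowers_iff, mem_zpowers_iff]
      constructor
      · rintro ⟨j, hj⟩
        exact ⟨j, congrArg Subtype.val hj⟩
      · rintro ⟨j, hj⟩
        exact ⟨j, Subtype.ext hj⟩
    intro v
    rw [hmem, hmem]
    exact hnorm v

variable {O : Subgroup R} [O.Normal] {N : Subgroup (R ⧸ O)}

/-- **the equation of the `2`-parts** -/
theorem two_part (S : SitO T n l r R) (h : _root_.Cfsg.Agent.H257.El.Top R r O N) (hr2 : r ≠ 2) {nu : ℕ} (hnu0 : nu ≠ 0)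
    (hnu : ∀ x : T, orderOf x = r → Nat.card (normalizer ((zpowers x : Subgroup T) : Set T)) = r * nu) :
    ∃ m : ℕ, m ∣ nu ∧ (Nat.card N / r) % r = m % r ∧ nu.factorization 2 + (Nat.card N).factorization 2 ≤
      n.factorization 2 + m.factorization 2 ∧
      2 ^ (n.factorization 2 + m.factorization 2 - (nu.factorization 2 + (Nat.card N).factorization 2)) % r = 1 := by
  classical
  have hr := S.prime
  have hr' : Fact r.Prime := ⟨hr⟩
  have hNn := h.normal
  obtain ⟨x, hx, hx1, hx2⟩ := S.exists_elt hnu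
  set P : Subgroup R := zpowers x with hP
  have hPc : Nat.card P = r := by rw [hP, Nat.card_zpowers, hx]
  have hPp : IsPGroup r P := IsPGroup.of_card (n := 1) (by rw [hPc, pow_one])
  have hcop : (Nat.card O).Coprime r := ((Nat.Prime.coprime_iff_not_dvd hr).2 h.core).symm
  have h1 := H416.SylCount.card_normalizer_quot P O hcop hPp
  have h2 := H416.SylCount.dvd_pow_diff hr Nat.prime_two (Ne.symm hr2) P O hPc h.core
  set a := Nat.card (normalizer (P : Set R)) with ha
  set c := Nat.card ↥(O ⊓ centralizer (P : Set R)) with hc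
  -- the image
  set P' : Subgroup (R ⧸ O) := P.map (QuotientGroup.mk' O) with hP'
  have hP'c : Nat.card P' = r := by
    have h3 : Nat.card P' ∣ r := by
      rw [← hPc]
      exact Subgroup.card_map_dvd _ _
    rcases (Nat.dvd_prime hr).1 h3 with h4 | h4
    · exfalso
      have h5 : P' = ⊥ := Subgroup.card_eq_one.1 h4
      have h6 : x ∈ O := by
        have h7 : QuotientGroup.mk' O x ∈ P' := ⟨x, mem_zpowers x, rfl⟩
        rw [h5, mem_bot] at h7
        exact (QuotientGroup.eq_one_iff _).1 h7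
      apply h.core
      have h7 := Subgroup.orderOf_dvd_natCard O h6
      rwa [hx] at h7
    · exact h4
  -- `P'` is contained in `N`
  have hP'N : P' ≤ N := by
    -- `N` contains a Sylow subgroup and is normal
    have h3 : ¬ r ∣ N.index := by
      intro hd
      apply h.sq'
      rw [← Subgroup.card_mul_index N, pow_two]
      exact Nat.mul_dvd_mul h.dvd hd
    intro y hy
    have h4 : orderOf (QuotientGroup.mk' N y) ∣ r := by
      refine (orderOf_map_dvd _ _).trans ?_
      rw [← hP'c]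
      exact Subgroup.orderOf_dvd_natCard _ hy
    have h5 : orderOf (QuotientGroup.mk' N y) ∣ N.index := by
      rw [Subgroup.index_eq_card]
      exact _root_.orderOf_dvd_natCard _
    have h6 : orderOf (QuotientGroup.mk' N y) = 1 := by
      rcases (Nat.dvd_prime hr).1 h4 with h7 | h7
      · exact h7
      · rw [h7] at h5
        exact absurd h5 h3
    exact (QuotientGroup.eq_one_iff _).1 (orderOf_eq_one_iff.1 h6)
  obtain ⟨m, hm1, hm2, hm3⟩ := frattini_card hr h.sq' N P' hP'c hP'N
  set b := Nat.card (normalizer (P' : Set (R ⧸ O))) with hb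
  have hb0 : b ≠ 0 := Nat.card_pos.ne'
  have hc0 : c ≠ 0 := Nat.card_pos.ne'
  have ha0 : a ≠ 0 := Nat.card_pos.ne'
  have hN0 : Nat.card N ≠ 0 := Nat.card_pos.ne'
  have hO0 : Nat.card O ≠ 0 := Nat.card_pos.ne'
  have hRO0 : Nat.card (R ⧸ O) ≠ 0 := Nat.card_pos.ne'
  have hR0 : Nat.card R ≠ 0 := Nat.card_pos.ne'
  have hn0 : n ≠ 0 := by rw [← S.card]; exact Nat.card_pos.ne'
  have hm0 : m ≠ 0 := by
    rintro rfl
    rw [mul_zero, mul_zero] at hm3
    exact (mul_ne_zero hN0 hb0) hm3.symm
  have hrm0 : r * m ≠ 0 := mul_ne_zero hr.ne_zero hm0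
  have hfr : r.factorization 2 = 0 := by
    rw [hr.factorization, Finsupp.single_apply, if_neg hr2]
  have hmnu : m ∣ nu := by
    have h3 : r * m ∣ r * nu := by
      refine (hm1.trans ?_).trans hx1
      rw [h1]
      exact dvd_mul_left _ _
    exact Nat.dvd_of_mul_dvd_mul_left hr.pos h3
  -- exponents
  have e1 : a.factorization 2 = nu.factorization 2 := by
    have h3 : (r * nu).factorization 2 = nu.factorization 2 := by
      rw [Nat.factorization_mul hr.ne_zero hnu0, Finsupp.add_apply, hfr, zero_add]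
    apply le_antisymm
    · rw [← h3]
      exact (Nat.factorization_le_iff_dvd ha0 (mul_ne_zero hr.ne_zero hnu0)).2 hx1 2
    · rw [← h3]
      exact (Nat.prime_two.pow_dvd_iff_le_factorization ha0).1 hx2
  have e2 : a.factorization 2 = c.factorization 2 + b.factorization 2 := by
    rw [h1, Nat.factorization_mul hc0 hb0, Finsupp.add_apply]
  have e3 : (Nat.card R).factorization 2 = (Nat.card (R ⧸ O)).factorization 2 + (Nat.card O).factorization 2 := by
    rw [← card_quot_mul O, Nat.factorization_mul hRO0 hO0, Finsupp.add_apply]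
  have e4 : (Nat.card (R ⧸ O)).factorization 2 + m.factorization 2 =
      (Nat.card N).factorization 2 + b.factorization 2 := by
    have h3 : (Nat.card (R ⧸ O) * (r * m)).factorization 2 = (Nat.card N * b).factorization 2 := by rw [hm3]
    rw [Nat.factorization_mul hRO0 hrm0, Nat.factorization_mul hN0 hb0, Finsupp.add_apply, Finsupp.add_apply,
      Nat.factorization_mul hr.ne_zero hm0, Finsupp.add_apply, hfr, zero_add] at h3
    exact h3
  have e5 : (Nat.card R).factorization 2 = n.factorization 2 := by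
    have h3 := R.card_mul_index
    rw [S.card] at h3
    rw [← h3, Nat.factorization_mul hR0 (by rintro h0; rw [h0, mul_zero] at h3; exact hn0 h3.symm), Finsupp.add_apply,
      Nat.factorization_eq_zero_of_not_dvd (n := R.index) (p := 2) (fun hd => by
        exact (Nat.not_even_iff_odd.2 S.ro.odd_index) (even_iff_two_dvd.2 hd)), add_zero]
  have e6 : c.factorization 2 ≤ (Nat.card O).factorization 2 := by
    apply (Nat.factorization_le_iff_dvd hc0 hO0).2
    exact Subgroup.card_dvd_of_le inf_le_left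
  refine ⟨m, hmnu, hm2, by omega, ?_⟩
  have e7 : n.factorization 2 + m.factorization 2 - (nu.factorization 2 + (Nat.card N).factorization 2) =
      (Nat.card O).factorization 2 - c.factorization 2 := by (clear * - e1 e2 e3 e4 e5; omega)
  rw [e7]
  have h3 : 1 ≤ 2 ^ ((Nat.card O).factorization 2 - c.factorization 2) := Nat.one_le_two_pow
  obtain ⟨k, hk⟩ := h2
  have h4 : 2 ^ ((Nat.card O).factorization 2 - c.factorization 2) = r * k + 1 := by omega
  rw [h4, Nat.mul_add_mod, Nat.mod_eq_of_lt hr.one_lt]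

end SitO

/-! ### the rows -/

theorem sitO_of {n : ℕ} {l : List (ℕ × ℕ)} {r : ℕ} {ss : List ℕ} {R : Subgroup T} (tab : OrderTable.{u})
    (known : Known.{u}) (hn : Nat.card T = n) (hr : r.Prime) (hreal : RealP T r)
    (hchk : chkBase n l r ss = true) (hR : RO T R) (hne : R ≠ ⊤) :
    SitO T n l r R ∧ ss ≠ [] ∧ ∀ s ∈ ss, okPair n l r s = true := by
  unfold chkBase at hchk
  simp only [Bool.and_eq_true, List.all_eq_true] at hchk
  obtain ⟨⟨⟨⟨h1, h2⟩, h3⟩, h4⟩, h5⟩ := hchk
  refine ⟨⟨tab, known, hn, h1, hr, Nat.dvd_of_mod_eq_zero (by simpa using h2), ?_, hne, hR, hreal⟩, ?_, h5⟩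
  · intro h
    rw [Nat.mod_eq_zero_of_dvd h] at h3
    exact absurd h3 (by decide)
  · rintro rfl
    simp at h4

theorem exists_surv_of {n : ℕ} {l : List (ℕ × ℕ)} {r : ℕ} {ss : List ℕ} {R : Subgroup T} (tab : OrderTable.{u})
    (known : Known.{u}) (hn : Nat.card T = n) (hr : r.Prime) (hreal : RealP T r)
    (hss : ∀ s ∈ ss, s.Prime ∧ RealP T s ∧ ∀ z : T, orderOf z ≠ r * s)
    (hchk : chkBase n l r ss = true) (hR : RO T R) (hne : R ≠ ⊤) :
    ∃ (_ : SitO T n l r R) (O : Subgroup R) (_ : O.Normal) (N : Subgroup (R ⧸ O)) (_ : _root_.Cfsg.Agent.H257.El.Top R r O N),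
      ∃ g ∈ surv n l r ss, Real g N ∧ Nat.card N = ordN g := by
  obtain ⟨S, hne', hok⟩ := sitO_of tab known hn hr hreal hchk hR hne
  obtain ⟨O, hO, N, h⟩ := S.exists_top
  have hd : ∀ s ∈ ss, s ∣ Nat.card N := fun s hs => S.dvd_simple h (hss s hs).1 (hss s hs).2.1 (hss s hs).2.2 (hok s hs)
  have hna : ¬ ∀ a b : N, a * b = b * a := by
    obtain ⟨s, hs⟩ := List.exists_mem_of_ne_nil _ hne'
    have hrs : r ≠ s := by
      have h4 := hok s hs
      unfold okPair at h4
      rw [Bool.and_eq_true, Bool.and_eq_true, Bool.and_eq_true] at h4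
      simpa using h4.1.1.1
    exact SitO.not_comm_of_dvd h (hss s hs).1 hrs (hd s hs)
  exact ⟨S, O, hO, N, h, S.exists_surv h hna ss hd⟩

/-- **no survivors** -/
theorem row_of_empty {n : ℕ} {l : List (ℕ × ℕ)} {r : ℕ} {ss : List ℕ} (tab : OrderTable.{u})
    (known : Known.{u}) (hn : Nat.card T = n) (hr : r.Prime) (hreal : RealP T r)
    (hss : ∀ s ∈ ss, s.Prime ∧ RealP T s ∧ ∀ z : T, orderOf z ≠ r * s)
    (hchk : chkEmpty n l r ss = true) : Row T := by
  intro R hR
  by_contra hne
  unfold chkEmpty at hchk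
  rw [Bool.and_eq_true] at hchk
  obtain ⟨-, -, -, -, -, g, hg, -, -⟩ := exists_surv_of tab known hn hr hreal hss hchk.1 hR hne
  have h1 := hchk.2
  rw [List.isEmpty_iff] at h1
  rw [h1] at hg
  simp at hg

/-- **the survivors are killed by the `2`-parts** -/
theorem row_of_two {n : ℕ} {l : List (ℕ × ℕ)} {r nu : ℕ} {ss : List ℕ} (tab : OrderTable.{u})
    (known : Known.{u}) (hn : Nat.card T = n) (hr : r.Prime) (hreal : RealP T r)
    (hnu : ∀ x : T, orderOf x = r → Nat.card (normalizer ((zpowers x : Subgroup T) : Set T)) = r * nu)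
    (hss : ∀ s ∈ ss, s.Prime ∧ RealP T s ∧ ∀ z : T, orderOf z ≠ r * s)
    (hchk : chkTwoPart n l r nu ss = true) : Row T := by
  intro R hR
  by_contra hne
  unfold chkTwoPart at hchk
  simp only [Bool.and_eq_true, List.all_eq_true] at hchk
  obtain ⟨⟨⟨⟨⟨h1, h2⟩, h3⟩, h4⟩, h5⟩, h6⟩ := hchk
  obtain ⟨S, O, hO, N, h, g, hg, -, hgc⟩ := exists_surv_of tab known hn hr hreal hss h1 hR hne
  have hr2 : r ≠ 2 := by simpa using h2
  have hnu0 : nu ≠ 0 := by simpa using h4
  have hn2 : n < 2 ^ 300 := (by simpa using h3)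
  have hnu2 : nu < 2 ^ 300 := (by simpa using h5)
  obtain ⟨m, hm1, hm2, hm3, hm4⟩ := S.two_part h hr2 hnu0 hnu
  have h7 := h6 g hg
  unfold chkG at h7
  rw [Bool.and_eq_true, List.all_eq_true] at h7
  obtain ⟨h8, h9⟩ := h7
  have hm0 : m ≠ 0 := by rintro rfl; exact hnu0 (Nat.eq_zero_of_zero_dvd hm1)
  have hmle : m ≤ nu := Nat.le_of_dvd (Nat.pos_of_ne_zero hnu0) hm1
  have h10 := h9 m (List.mem_range.2 (by omega))
  have hg0 : ordN g ≠ 0 := by rw [← hgc]; exact Nat.card_pos.ne'
  have hg2 : ordN g < 2 ^ 300 := (by simpa using h8)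
  have hn0 : n ≠ 0 := by rw [← hn]; exact Nat.card_pos.ne'
  rw [vv_eq hn0 hn2, vv_eq hm0 (by omega), vv_eq hnu0 hnu2, vv_eq hg0 hg2] at h10
  rw [hgc] at hm2 hm3 hm4
  simp only [Bool.or_eq_true] at h10
  rcases h10 with (((h11 | h11) | h11) | h11) | h11
  · exact hm0 (by simpa using h11)
  · rw [Nat.mod_eq_zero_of_dvd hm1] at h11
    exact absurd h11 (by decide)
  · rw [hm2] at h11
    simp at h11
  · have h12 := (by simpa using h11)
    omega
  · rw [hm4] at h11
    exact absurd h11 (by decide)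

/-! ### real elements -/

/-- the order of the normalizer of a subgroup of order `r`, `r ∥ |G|`, and reality, from the centralizer -/
theorem norm_of_cent {G : Type*} [Group G] [Finite G] {r n c e : ℕ} (hr : r.Prime) (hn : Nat.card G = r * n)
    (hrn : n % r ≠ 0) {x : G} (hx : orderOf x = r) (hc : Nat.card (centralizer ({x} : Set G)) = r * c)
    (he : e < r) (hmod : (c * e) % r = n % r) :
    Nat.card (normalizer ((zpowers x : Subgroup G) : Set G)) = r * (c * e) ∧ (Even e → IsReal x) := by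
  classical
  have hr' : Fact r.Prime := ⟨hr⟩
  have h2 : ¬ r ^ 2 ∣ Nat.card G := by
    rw [hn, pow_two]
    intro h
    exact hrn (Nat.mod_eq_zero_of_dvd (Nat.dvd_of_mul_dvd_mul_left hr.pos h))
  set P : Subgroup G := zpowers x with hP
  have hPc : Nat.card P = r := by rw [hP, Nat.card_zpowers, hx]
  obtain ⟨m, hm1, hm2, hm3⟩ := frattini_card hr h2 ⊤ P hPc le_top
  rw [Subgroup.card_top] at hm2 hm3
  have hn0 : Nat.card G ≠ 0 := Nat.card_pos.ne'
  have hm4 : Nat.card (normalizer (P : Set G)) = r * m := (Nat.eq_of_mul_eq_mul_left (Nat.pos_of_ne_zero hn0) hm3).symm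
  rw [hn, Nat.mul_div_cancel_left _ hr.pos] at hm2
  -- the automizer
  have hCP : centralizer ({x} : Set G) = centralizer (P : Set G) := by
    rw [hP, zpowers_eq_closure, centralizer_closure]
  let φ : normalizer (P : Set G) →* MulAut P := P.normalizerMonoidHom
  have hker : Nat.card φ.ker = r * c := by
    rw [show φ.ker = _ from P.normalizerMonoidHom_ker, ← hc, hCP]
    exact Nat.card_congr (Subgroup.subgroupOfEquivOfLe (centralizer_le_normalizer _)).toEquiv
  have hcard : Nat.card (normalizer (P : Set G)) = r * c * Nat.card φ.range := by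
    rw [← hker, ← Subgroup.card_mul_index φ.ker, Subgroup.index_ker]
  have hcyc : IsCyclic P := isCyclic_of_prime_card hPc
  have haut : Nat.card (MulAut P) = r - 1 := by
    rw [IsCyclic.card_mulAut, hPc, Nat.totient_prime hr]
  set e' := Nat.card φ.range with he'
  have he'd : e' ∣ r - 1 := by rw [← haut]; exact Subgroup.card_subgroup_dvd_card _
  have he'lt : e' < r := by
    have := Nat.le_of_dvd (Nat.sub_pos_of_lt hr.one_lt) he'd
    have := hr.one_lt
    omega
  have hmce : m = c * e' := by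
    rw [hm4, mul_assoc] at hcard
    exact Nat.eq_of_mul_eq_mul_left hr.pos hcard
  have hee : e' = e := by
    have h3 : (c * e') % r = (c * e) % r := by rw [hmod, ← hmce, hm2]
    have hcr : ¬ r ∣ c := by
      intro hd
      apply hrn
      have h4 : r ∣ c * e := hd.mul_right e
      rw [← hmod]
      exact Nat.mod_eq_zero_of_dvd h4
    have h4 : (e' : ℕ) ≡ e [MOD r] := by
      have h5 : c * e' ≡ c * e [MOD r] := h3
      exact Nat.ModEq.cancel_left_of_coprime (by rw [Nat.gcd_comm]; exact (Nat.Prime.coprime_iff_not_dvd hr).2 hcr |>.symm) h5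
    exact Nat.ModEq.eq_of_lt_of_lt h4 he'lt he
  refine ⟨by rw [hm4, hmce, hee], fun hev => ?_⟩
  -- an element inducing an automorphism of order `2`
  have hev' : 2 ∣ Nat.card φ.range := by rw [← he', hee]; exact even_iff_two_dvd.1 hev
  obtain ⟨⟨w, hw⟩, ha⟩ := exists_prime_orderOf_dvd_card' (G := φ.range) 2 hev'
  obtain ⟨g, rfl⟩ := hw
  have ha2 : orderOf (φ g) = 2 := by rw [← ha]; exact (Subgroup.orderOf_coe (⟨φ g, _⟩ : φ.range))
  -- `g` acts as a power
  have hgx : (g : G) * x * (g : G)⁻¹ ∈ P := (mem_normalizer_iff.1 g.2 x).1 (mem_zpowers x)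
  obtain ⟨k, hk⟩ := mem_zpowers_iff.1 hgx
  have hk2 : x ^ (k * k) = x := by
    have h5 : (φ g * φ g) ⟨x, mem_zpowers x⟩ = ⟨x, mem_zpowers x⟩ := by
      rw [← pow_two, ← ha2, pow_orderOf_eq_one]; rfl
    have h6 : (g : G) * ((g : G) * x * (g : G)⁻¹) * (g : G)⁻¹ = x := congrArg Subtype.val h5
    rw [← hk] at h6
    rw [← conj_zpow, ← hk, ← zpow_mul] at h6
    exact h6
  have hk1 : x ^ k ≠ x := by
    intro h5
    have h6 : φ g = 1 := by
      apply MulEquiv.ext
      rintro ⟨y, hy⟩
      obtain ⟨j, rfl⟩ := mem_zpowers_iff.1 hy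
      apply Subtype.ext
      change (g : G) * x ^ j * (g : G)⁻¹ = x ^ j
      rw [← conj_zpow, ← hk, h5]
    rw [h6, orderOf_one] at ha2
    exact absurd ha2 (by norm_num)
  refine ⟨g, ?_⟩
  rw [← hk]
  -- `k ^ 2 = 1`, `k ≠ 1` modulo `r`
  have h7 : (r : ℤ) ∣ k * k - 1 := by
    rw [← hx]
    apply orderOf_dvd_iff_zpow_eq_one.2
    rw [zpow_sub, hk2, zpow_one, mul_inv_cancel]
  have h8 : ¬ (r : ℤ) ∣ k - 1 := by
    intro hd
    rw [← hx] at hd
    have h9 := orderOf_dvd_iff_zpow_eq_one.1 hd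
    rw [zpow_sub, zpow_one, mul_inv_eq_one] at h9
    exact hk1 h9
  have h9 : (r : ℤ) ∣ k + 1 := by
    have h10 : (r : ℤ) ∣ (k - 1) * (k + 1) := by
      have : (k - 1) * (k + 1) = k * k - 1 := by ring
      rw [this]; exact h7
    exact ((Nat.prime_iff_prime_int.1 hr).dvd_or_dvd h10).resolve_left h8
  rw [← hx] at h9
  have h10 := orderOf_dvd_iff_zpow_eq_one.1 h9
  rw [zpow_add, zpow_one] at h10
  exact eq_inv_of_mul_eq_one_left h10

end Cfsg.Agent.H217.Odm
end

private theorem dce_78d9bdd9baaa : _root_.True := by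
  try have : _root_.True := by simp only [_root_.Cfsg.Agent.H217.Odm.tz.eq_def]
  exact _root_.True.intro
end

-- part: H257/El/TopB
section
prune_inst 0x30104500342210000018001080000460200000000000000100400102080188402001000102200400001080c00000004003000000420000000a000000000400000003060090580d08900000000004000000000000000000000000000000000000000000000
set_option linter.all false
open scoped Cfsg.Agent.FastGrp

/-!
# TEAM ELUSIVE, sporadic groups: commutative tops and centralizers (helper257)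

* `comm_of_normalizer` : an element of order `r` normalizing a small `s`-group centralizes it;
* `Top.index_dvd_of_comm`, `Top.exists_comm_of_comm` : the case of a commutative `N`;
* `Top.exists_cent` : `s ∥ |R|`, `s ∤ |N|`: the Sylow `p`-subgroup of `N` is in the centralizer of an element of order `s`;
* `clA_of_cent` : an element of order `p` whose centralizer has order prime to `r`;
* `not_dvd_of_four` : `r` does not divide the order of a group `D` with `4 ∣ |D|`.
-/

set_option autoImplicit false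

namespace Cfsg.Agent.H257.El

open Subgroup
open Cfsg.Agent.OrdDiv
open Cfsg.Agent.H278.El
open Cfsg.Agent.H396
open Cfsg.Agent.H361.SelfCent (card_modEq_of_perm)

universe u

/-- an element of order `r` normalizing an `s`-group of small order centralizes it -/
theorem comm_of_normalizer {H : Type*} [Group H] [Finite H] {r s : ℕ} (hr : r.Prime) (hs : s.Prime) (hrs : r ≠ s)
    {y : H} (hy : orderOf y = r) {P : Subgroup H} {a : ℕ} (hP : Nat.card P = s ^ a)
    (hyP : y ∈ normalizer (P : Set H)) (hm : ∀ b, 1 ≤ b → b ≤ a → s ^ b % r ≠ 1) : ∀ w ∈ P, y * w = w * y := by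
  have hr' : Fact r.Prime := ⟨hr⟩
  have hs' : Fact s.Prime := ⟨hs⟩
  have hconj : ∀ w : H, w ∈ P ↔ y * w * y⁻¹ ∈ P := mem_normalizer_iff.1 hyP
  let f : Equiv.Perm P :=
    { toFun := fun w => ⟨y * w * y⁻¹, (hconj w).1 w.2⟩
      invFun := fun w => ⟨y⁻¹ * w * y, (hconj _).2 (by simp only [mul_assoc, _root_.mul_inv_cancel_left, _root_.mul_inv_cancel, _root_.mul_one, _root_.SetLike.coe_mem])⟩
      left_inv := fun w => Subtype.ext (by simp [mul_assoc])
      right_inv := fun w => Subtype.ext (by simp [mul_assoc]) }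
  have hfk : ∀ k : ℕ, ∀ w : P, (((f ^ k) w : P) : H) = y ^ k * w * (y ^ k)⁻¹ := by
    intro k
    induction k with
    | zero => intro w; simp
    | succ k ih =>
      intro w
      rw [pow_succ', Equiv.Perm.mul_apply]
      show y * ((f ^ k) w : P) * y⁻¹ = _
      rw [ih, pow_succ']
      group
  have hf : f ^ r = 1 := by
    ext w
    rw [hfk, ← hy, pow_orderOf_eq_one]
    simp
  have h6 := card_modEq_of_perm hr f hf
  let C : Subgroup P := (centralizer ({y} : Set H)).subgroupOf P
  have hmem : ∀ w : P, f w = w ↔ w ∈ C := by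
    intro w
    change f w = w ↔ w ∈ (centralizer ({y} : Set H)).subgroupOf P
    rw [mem_subgroupOf, mem_centralizer_singleton_iff]
    constructor
    · intro h
      have h9 : y * (w : H) * y⁻¹ = w := congrArg Subtype.val h
      calc (w : H) * y = (y * (w : H) * y⁻¹) * y := by rw [h9]
        _ = y * w := by group
    · intro h
      apply Subtype.ext
      change y * (w : H) * y⁻¹ = w
      rw [← h]; group
  have h7 : Nat.card {a : P // f a = a} = Nat.card C := Nat.card_congr (Equiv.subtypeEquivRight hmem)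
  obtain ⟨c, hc⟩ : ∃ c, Nat.card C = s ^ c := by
    have h8 : IsPGroup s P := IsPGroup.of_card hP
    exact IsPGroup.iff_card.1 (h8.to_subgroup C)
  have hca : c ≤ a := by
    have h8 := Subgroup.card_subgroup_dvd_card C
    rw [hc, hP] at h8
    exact (Nat.pow_dvd_pow_iff_le_right hs.one_lt).1 h8
  rw [h7, hc, hP] at h6
  have hcop : Nat.gcd r (s ^ c) = 1 := Nat.Coprime.pow_right _ ((Nat.coprime_primes hr hs).2 hrs)
  have h8 : s ^ (a - c) ≡ 1 [MOD r] := by
    refine Nat.ModEq.cancel_left_of_coprime hcop ?_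
    rw [← pow_add, Nat.add_sub_cancel' hca, mul_one]
    exact h6
  have hce : c = a := by
    by_contra hne
    apply hm (a - c) (by omega) (by omega)
    rw [h8, Nat.mod_eq_of_lt hr.one_lt]
  have hCt : C = ⊤ := Subgroup.eq_top_of_card_eq C (by rw [hc, hP, hce])
  intro w hw
  have h9 : (⟨w, hw⟩ : P) ∈ C := by rw [hCt]; trivial
  have h10 : w ∈ centralizer ({y} : Set H) := h9
  exact (mem_centralizer_singleton_iff.1 h10).symm

/-- elements commuting modulo a normal subgroup of order prime to `s` with an element of order `s` -/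
theorem exists_comm_lift {R : Type*} [Group R] [Finite R] (O : Subgroup R) [O.Normal] {s : ℕ} (hs : s.Prime)
    (hsO : ¬ s ∣ Nat.card O) {y : R} (hy : orderOf y = s) {g : R}
    (hg : QuotientGroup.mk' O g * QuotientGroup.mk' O y = QuotientGroup.mk' O y * QuotientGroup.mk' O g) :
    ∃ o ∈ O, (g * o) * y = y * (g * o) := by
  have hmem : ∀ o ∈ O, g⁻¹ * (y * (g * o) * y⁻¹) ∈ O := by
    intro o ho
    rw [← QuotientGroup.eq_one_iff (N := O)]
    change QuotientGroup.mk' O (g⁻¹ * (y * (g * o) * y⁻¹)) = 1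
    have h1 : QuotientGroup.mk' O o = 1 := (QuotientGroup.eq_one_iff o).2 ho
    rw [map_mul, map_mul, map_mul, map_mul, map_inv, map_inv, h1, mul_one, ← hg]
    group
  have hmem' : ∀ o ∈ O, g⁻¹ * (y⁻¹ * (g * o) * y) ∈ O := by
    intro o ho
    rw [← QuotientGroup.eq_one_iff (N := O)]
    change QuotientGroup.mk' O (g⁻¹ * (y⁻¹ * (g * o) * y)) = 1
    have h1 : QuotientGroup.mk' O o = 1 := (QuotientGroup.eq_one_iff o).2 ho
    rw [map_mul, map_mul, map_mul, map_mul, map_inv, map_inv, h1, mul_one]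
    calc _ = (QuotientGroup.mk' O g)⁻¹ * ((QuotientGroup.mk' O y)⁻¹ *
          (QuotientGroup.mk' O g * QuotientGroup.mk' O y)) := by group
      _ = 1 := by rw [hg]; group
  let f : Equiv.Perm O :=
    { toFun := fun o => ⟨g⁻¹ * (y * (g * o) * y⁻¹), hmem o o.2⟩
      invFun := fun o => ⟨g⁻¹ * (y⁻¹ * (g * o) * y), hmem' o o.2⟩
      left_inv := fun o => Subtype.ext (by simp only [mul_assoc, _root_.mul_inv_cancel_left, _root_.inv_mul_cancel_left, _root_.inv_mul_cancel, _root_.mul_one])
      right_inv := fun o => Subtype.ext (by simp only [mul_assoc, _root_.mul_inv_cancel_left, _root_.mul_inv_cancel, _root_.mul_one, _root_.inv_mul_cancel_left]) }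
  have hfk : ∀ k : ℕ, ∀ w : O, (((f ^ k) w : O) : R) = g⁻¹ * (y ^ k * (g * w) * (y ^ k)⁻¹) := by
    intro k
    induction k with
    | zero => intro w; simp
    | succ k ih =>
      intro w
      rw [pow_succ', Equiv.Perm.mul_apply]
      show g⁻¹ * (y * (g * ((f ^ k) w : O)) * y⁻¹) = _
      rw [ih, pow_succ']
      group
  have hf : f ^ s = 1 := by
    ext w
    rw [hfk, ← hy, pow_orderOf_eq_one]
    simp
  have h6 := card_modEq_of_perm hs f hf
  have h7 : Nat.card {a : O // f a = a} ≠ 0 := by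
    intro h0
    rw [h0] at h6
    exact hsO ((Nat.modEq_zero_iff_dvd).1 h6)
  obtain ⟨⟨o, ho⟩⟩ : Nonempty {a : O // f a = a} := (Nat.card_pos_iff.1 (Nat.pos_of_ne_zero h7)).1
  refine ⟨o, o.2, ?_⟩
  have h8 : g⁻¹ * (y * (g * (o : R)) * y⁻¹) = o := congrArg Subtype.val ho
  calc (g * (o : R)) * y = g * (g⁻¹ * (y * (g * (o : R)) * y⁻¹)) * y := by rw [h8]
    _ = y * (g * o) := by group

namespace Top

variable {R : Type*} [Group R] [Finite R] {r s : ℕ} {O : Subgroup R} [O.Normal] {N : Subgroup (R ⧸ O)}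

/-- a commutative `N` has index dividing `r - 1` -/
theorem index_dvd_of_comm (h : Top R r O N) (hc : ∀ a b : N, a * b = b * a) : N.index ∣ r - 1 := by
  have hN := h.normal
  have hr' : Fact r.Prime := ⟨h.prime⟩
  have hNr := h.card_of_comm hc
  have hNc : IsCyclic N := isCyclic_of_prime_card hNr
  have hA : Nat.card (MulAut N) = r - 1 := by
    have e := IsCyclic.mulAutMulEquiv N
    rw [hNr] at e
    rw [Nat.card_congr e.toEquiv, Nat.card_eq_fintype_card, ZMod.card_units]
  let φ : (R ⧸ O) →* MulAut N := MulAut.conjNormal (H := N)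
  have hk : φ.ker = N := by
    ext q
    rw [MonoidHom.mem_ker]
    have hq' : q ∈ N ↔ q ∈ centralizer (N : Set (R ⧸ O)) := by rw [h.centralizer_eq hc]
    rw [hq', mem_centralizer_iff]
    constructor
    · intro hq n hn
      have h2 : (φ q) ⟨n, hn⟩ = ⟨n, hn⟩ := by
        rw [hq]; rfl
      have h3 : q * n * q⁻¹ = n := congrArg Subtype.val h2
      calc n * q = (q * n * q⁻¹) * q := by rw [h3]
        _ = q * n := by group
    · intro hq
      ext n
      change q * (n : R ⧸ O) * q⁻¹ = n
      rw [← hq n n.2]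
      group
  have h1 : N.index = Nat.card φ.range := by
    conv_lhs => rw [← hk]
    exact Subgroup.index_ker φ
  rw [h1, ← hA]
  exact Subgroup.card_subgroup_dvd_card _

/-- if `N` is commutative, the elements of order `s`, `s ∤ r (r - 1)`, are in `O` and commute with elements of order
`r` -/
theorem exists_comm_of_comm (h : Top R r O N) (hc : ∀ a b : N, a * b = b * a) (hs : s.Prime) (hrs : r ≠ s)
    (hs1 : ¬ s ∣ r - 1) (hord : ∀ b, 1 ≤ b → s ^ b ∣ Nat.card R → s ^ b % r ≠ 1) {y : R} (hy : orderOf y = s) :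
    ∃ x : R, orderOf x = r ∧ x * y = y * x := by
  have hr' : Fact r.Prime := ⟨h.prime⟩
  have hs' : Fact s.Prime := ⟨hs⟩
  have hyO : y ∈ O := by
    rw [← QuotientGroup.eq_one_iff (N := O)]
    change QuotientGroup.mk' O y = 1
    have h1 : orderOf (QuotientGroup.mk' O y) ∣ s := by
      rw [← hy]
      exact orderOf_map_dvd _ _
    have h2 : orderOf (QuotientGroup.mk' O y) ∣ r * (r - 1) := by
      refine (_root_.orderOf_dvd_natCard _).trans ?_
      rw [← Subgroup.card_mul_index N, h.card_of_comm hc]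
      exact Nat.mul_dvd_mul_left _ (h.index_dvd_of_comm hc)
    rcases (Nat.dvd_prime hs).1 h1 with h3 | h3
    · exact orderOf_eq_one_iff.1 h3
    · exfalso
      rw [h3] at h2
      rcases (hs.dvd_mul).1 h2 with h4 | h4
      · exact hrs ((Nat.prime_dvd_prime_iff_eq hs h.prime).1 h4).symm
      · exact hs1 h4
  have hpy : IsPGroup s (zpowers (⟨y, hyO⟩ : O)) :=
    IsPGroup.of_card (n := 1) (by rw [Nat.card_zpowers, Subgroup.orderOf_mk, hy, pow_one])
  obtain ⟨S, hS⟩ := hpy.exists_le_sylow
  obtain ⟨x, hx, hxS⟩ := exists_normalizer h.dvdR O h.core S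
  obtain ⟨a, ha⟩ := IsPGroup.iff_card.1 (S.isPGroup'.map O.subtype)
  refine ⟨x, hx, comm_of_normalizer h.prime hs hrs hx ha hxS (fun b hb hba => hord b hb ?_) y ?_⟩
  · refine (pow_dvd_pow s hba).trans ?_
    rw [← ha]
    exact Subgroup.card_subgroup_dvd_card _
  · exact ⟨⟨y, hyO⟩, hS (mem_zpowers _), rfl⟩

/-- if `N` is not commutative and `s ∥ |R|` does not divide `|N|`, then the Sylow `p`-subgroup of `N` is in the
centralizer of an element of order `s` -/
theorem exists_cent (h : Top R r O N) (hna : ¬ ∀ a b : N, a * b = b * a) (hs : s.Prime) {p : ℕ} (hp : p.Prime)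
    (hsp : s ≠ p) (hsR : s ∣ Nat.card R) (hsq : ¬ s ^ 2 ∣ Nat.card R) (hsN : ¬ s ∣ Nat.card N) {a : ℕ}
    (ha : p ^ a ∣ Nat.card N) (ha' : ¬ p ^ (a + 1) ∣ Nat.card N) (hm : ∀ b, 1 ≤ b → b ≤ a → p ^ b % s ≠ 1) :
    ∃ y : R, orderOf y = s ∧ p ^ a ∣ Nat.card (centralizer ({y} : Set R)) := by
  have hN := h.normal
  have hs' : Fact s.Prime := ⟨hs⟩
  have hp' : Fact p.Prime := ⟨hp⟩
  -- a subgroup of the quotient covered by the centralizer
  have key : ∀ (y : R) (P : Subgroup (R ⧸ O)),
      (∀ w ∈ P, ∃ g : R, g * y = y * g ∧ QuotientGroup.mk' O g = w) →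
      Nat.card P ∣ Nat.card (centralizer ({y} : Set R)) := by
    intro y P hP
    let f : centralizer ({y} : Set R) →* (R ⧸ O) := (QuotientGroup.mk' O).comp (centralizer ({y} : Set R)).subtype
    have h1 : P ≤ f.range := by
      intro w hw
      obtain ⟨g, hg, hgw⟩ := hP w hw
      exact ⟨⟨g, mem_centralizer_singleton_iff.2 hg⟩, hgw⟩
    exact (Subgroup.card_dvd_of_le h1).trans (Subgroup.card_range_dvd f)
  by_cases hsO : s ∣ Nat.card O
  · obtain ⟨y, hy, hcov⟩ := h.lift_cent hs hsO hsq hna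
    exact ⟨y, hy, ha.trans (key y N hcov)⟩
  · have h2 : s ∣ Nat.card (R ⧸ O) := by
      rw [← card_quot_mul O] at hsR
      exact ((hs.dvd_mul).1 hsR).resolve_right hsO
    obtain ⟨P⟩ : Nonempty (Sylow p N) := inferInstance
    obtain ⟨w, hw, hwP⟩ := exists_normalizer (r := s) (s := p) h2 N hsN P
    have hPc : Nat.card ((P : Subgroup N).map N.subtype) = p ^ a := by
      rw [Subgroup.card_map_of_injective N.subtype_injective]
      exact card_sylow_of P ha ha'
    have hcomm := comm_of_normalizer hs hp hsp hw hPc hwP hm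
    obtain ⟨z, hz⟩ := QuotientGroup.mk'_surjective O w
    obtain ⟨k, hk⟩ := exists_lift (QuotientGroup.mk' O) (z := z) (n := s) (by rw [hz, hw])
    refine ⟨z ^ k, hk, ?_⟩
    rw [← hPc]
    refine key _ _ fun v hv => ?_
    obtain ⟨g, hg⟩ := QuotientGroup.mk'_surjective O v
    have h3 : QuotientGroup.mk' O g * QuotientGroup.mk' O (z ^ k) =
        QuotientGroup.mk' O (z ^ k) * QuotientGroup.mk' O g := by
      rw [hg, map_pow, hz]
      have h4 : Commute w v := hcomm v hv
      exact (h4.pow_left k).eq.symm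
    obtain ⟨o, ho, hoc⟩ := exists_comm_lift O hs hsO hk h3
    refine ⟨g * o, hoc, ?_⟩
    rw [map_mul, hg, show QuotientGroup.mk' O o = 1 from (QuotientGroup.eq_one_iff o).2 ho, mul_one]

end Top

/-- the non-commutative `N` are excluded by a prime not adjacent to 2 -/
def exNA (n : ℕ) (ss : List ℕ) (g : Grp) : Bool :=
  ss.any fun s => (s != 2) && (n % s == 0) && (n % s ^ 2 != 0) && (ordN g % s != 0) && (List.range 60).any fun a =>
      Nat.ble 1 a && (ordN g % 2 ^ a == 0) && (ordN g % 2 ^ (a + 1) != 0) && (2 ^ a % s != 1)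

/-- the check: all the non-commutative `N` are excluded; `r, p` -/
def chkC (n : ℕ) (l : List (ℕ × ℕ)) (r p : ℕ) (ss : List ℕ) : Bool :=
  OrdDiv.valid l n && (n % r == 0) && (n % r ^ 2 != 0) && (r != p) && ((r - 1) % p != 0) && okPow l r p &&
    (surv n l r []).all (exNA n ss)

variable {T : Type u} [Group T] [Finite T]

/-- a non-commutative `N` is excluded by `exNA` -/
theorem SitA.comm_of_exNA {n : ℕ} {l : List (ℕ × ℕ)} {r : ℕ} {R : Subgroup T} {ss : List ℕ} (S : SitA T n l r R)
    {O : Subgroup R} [O.Normal] {N : Subgroup (R ⧸ O)} (h : Top R r O N)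
    (hss : ∀ s ∈ ss, s.Prime ∧ ∀ z : T, orderOf z ≠ s * 2) (hchk : (surv n l r []).all (exNA n ss) = true) :
    ∀ a b : N, a * b = b * a := by
  by_contra hna
  obtain ⟨g, hg, -, hgc⟩ := S.exists_surv h hna [] (by simp only [_root_.List.not_mem_nil, _root_.IsEmpty.forall_iff, _root_.implies_true])
  rw [List.all_eq_true] at hchk
  have h1 := hchk g hg
  unfold exNA at h1
  rw [List.any_eq_true] at h1
  obtain ⟨s, hs, h2⟩ := h1
  simp only [Bool.and_eq_true] at h2
  obtain ⟨⟨⟨⟨h3, h4⟩, h5⟩, h6⟩, h7⟩ := h2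
  rw [List.any_eq_true] at h7
  obtain ⟨a, -, h12⟩ := h7
  simp only [Bool.and_eq_true] at h12
  obtain ⟨⟨⟨h13, h14⟩, h15⟩, h16⟩ := h12
  have h17 : s ∣ Nat.card N := by
    refine S.dvd_of_na h hna (hss s hs).1 (by simpa using h3) (hss s hs).2
      (Nat.dvd_of_mod_eq_zero (by simpa using h4)) ?_ (a := a)
      (Nat.le_of_ble_eq_true h13) ?_ ?_ (by simpa using h16)
    · intro h
      rw [Nat.mod_eq_zero_of_dvd h] at h5
      exact absurd h5 (by decide)
    · rw [hgc]
      exact Nat.dvd_of_mod_eq_zero (by simpa using h14)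
    · rw [hgc]
      intro h
      rw [Nat.mod_eq_zero_of_dvd h] at h15
      exact absurd h15 (by decide)
  rw [hgc] at h17
  rw [Nat.mod_eq_zero_of_dvd h17] at h6
  exact absurd h6 (by decide)

/-- the order of the centralizer of the image of an element by an automorphism -/
theorem card_cent_aut {G : Type*} [Group G] (φ : G ≃* G) (y : G) :
    Nat.card (centralizer ({φ y} : Set G)) = Nat.card (centralizer ({y} : Set G)) := by
  have h1 : centralizer ({φ y} : Set G) = (centralizer ({y} : Set G)).map φ.toMonoidHom := by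
    ext v
    rw [mem_centralizer_singleton_iff]
    constructor
    · intro hv
      refine ⟨φ.symm v, ?_, by simp⟩
      rw [SetLike.mem_coe, mem_centralizer_singleton_iff]
      apply φ.injective
      rw [map_mul, map_mul, φ.apply_symm_apply]
      exact hv
    · rintro ⟨u, hu, rfl⟩
      rw [SetLike.mem_coe, mem_centralizer_singleton_iff] at hu
      change φ u * φ y = φ y * φ u
      rw [← map_mul, hu, map_mul]
  rw [h1, Subgroup.card_map_of_injective φ.injective]

/-- **an element of order `p` which commutes with no element of order `r`** -/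
theorem clA_of_cent (tab : OrderTable.{u}) (known : Known.{u}) {n : ℕ} {l : List (ℕ × ℕ)} {r p : ℕ} {ss : List ℕ}
    (hn : Nat.card T = n) (hr : r.Prime) (hp : p.Prime) (hss : ∀ s ∈ ss, s.Prime ∧ ∀ z : T, orderOf z ≠ s * 2)
    (hchk : chkC n l r p ss = true) {y : T} (hy : orderOf y = p)
    (hyr : ¬ r ∣ Nat.card (centralizer ({y} : Set T))) : ClA T := by
  intro R hR
  by_contra hnd
  have hall : ∀ q : ℕ, q.Prime → q ∣ n → q ∣ Nat.card R := fun q hq hd =>
    dvd_of_not_der hnd hq (by rw [hn]; exact hd)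
  unfold chkC at hchk
  rw [Bool.and_eq_true, Bool.and_eq_true, Bool.and_eq_true, Bool.and_eq_true, Bool.and_eq_true,
    Bool.and_eq_true] at hchk
  obtain ⟨⟨⟨⟨⟨⟨h1, h2⟩, h3⟩, h4⟩, h5⟩, h6⟩, h7⟩ := hchk
  have S : SitA T n l r R := sitA_of_not tab known hn h1 hr h2 h3 hR hall
  obtain ⟨O, hO, N, h⟩ := S.exists_top
  have hc := S.comm_of_exNA h hss h7
  obtain ⟨φ, hφ⟩ := exists_aut_of_not_der hnd y (by rw [hy]; exact hp)
  have hφo : orderOf (⟨φ y, hφ⟩ : R) = p := by
    rw [Subgroup.orderOf_mk, ← hy]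
    exact (orderOf_injective φ.toMonoidHom φ.injective y)
  have hp1 : ¬ p ∣ r - 1 := by
    intro hd
    rw [Nat.mod_eq_zero_of_dvd hd] at h5
    exact absurd h5 (by decide)
  obtain ⟨x, hx, hxy⟩ := h.exists_comm_of_comm hc hp (by simpa using h4) hp1
    (fun b hb hd => okPow_spec S.valid h6 hp hb (hd.trans S.dvd_n)) hφo
  have hxy' : (x : T) * φ y = φ y * x := congrArg Subtype.val hxy
  apply hyr
  rw [← card_cent_aut φ]
  have h8 := Subgroup.orderOf_dvd_natCard _ (mem_centralizer_singleton_iff.2 hxy' : (x : T) ∈ centralizer ({φ y} : Set T))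
  rwa [Subgroup.orderOf_coe, hx] at h8

/-- **`r` does not divide the order of a group with `4 ∣ |D|`** -/
theorem not_dvd_of_four {D : Type u} [Group D] [Finite D] (tab : OrderTable.{u}) (known : Known.{u}) {n : ℕ}
    {l : List (ℕ × ℕ)} {r b : ℕ} (hD : Nat.card D ∣ n) (hlt : Nat.card D < n) (hv : OrdDiv.valid l n = true)
    (hr : r.Prime) (hr2 : r ≠ 2) (h2 : ¬ r ^ 2 ∣ n) (hNA : ∀ z : D, orderOf z ≠ r * 2) (h4 : 4 ∣ Nat.card D)
    (hr4 : ¬ 4 ∣ r - 1) (h2b : ¬ 2 ^ (b + 1) ∣ Nat.card D) (hok : ∀ i, 1 ≤ i → i ≤ b → 2 ^ i % r ≠ 1)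
    (hsurv : ((surv n l r []).all fun g => ordN g % 2 ^ (b + 1) == 0) = true) : ¬ r ∣ Nat.card D := by
  intro hd
  have hsq : ¬ r ^ 2 ∣ Nat.card D := fun h => h2 (h.trans hD)
  obtain ⟨O, hO, N, h⟩ := El.exists_top hr hd hsq
  have hc : ∀ a b : N, a * b = b * a := by
    by_contra hna
    have hsim := h.simple
    have hNR : Nat.card N ∣ Nat.card D := by
      refine (Subgroup.card_subgroup_dvd_card N).trans ?_
      rw [← card_quot_mul O]
      exact dvd_mul_right _ _
    obtain ⟨g, hg, -, hgc⟩ := exists_good tab (known N) hna hv (hNR.trans hD)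
    have hgs : g ∈ surv n l r [] := by
      refine List.mem_filter.2 ⟨hg, ?_⟩
      unfold okG
      rw [Bool.and_eq_true, Bool.and_eq_true, List.all_eq_true]
      refine ⟨⟨?_, ?_⟩, fun s hs => by simp at hs⟩
      · rw [← hgc, Nat.mod_eq_zero_of_dvd h.dvd]; rfl
      · rw [← hgc]
        have h1 : Nat.card N ≤ Nat.card D := Nat.le_of_dvd Nat.card_pos hNR
        have h3 : Nat.card N ≠ n := by omega
        simpa only [_root_.bne_iff_ne, _root_.ne_eq] using h3
    rw [List.all_eq_true] at hsurv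
    have h5 := hsurv g hgs
    rw [← hgc] at h5
    exact h2b ((Nat.dvd_of_mod_eq_zero (by simpa only [_root_.beq_iff_eq] using h5)).trans hNR)
  have h2O : ¬ 2 ∣ Nat.card O := h.not_dvd_core Nat.prime_two hr2 hNA fun i hi hdi => by
    refine hok i hi ?_
    by_contra hlt'
    exact h2b ((pow_dvd_pow 2 (by omega)).trans hdi)
  have h6 : 4 ∣ Nat.card (D ⧸ O) := by
    rw [← card_quot_mul O] at h4
    refine Nat.Coprime.dvd_of_dvd_mul_right ?_ h4
    exact Nat.Coprime.pow_left 2 ((Nat.Prime.coprime_iff_not_dvd Nat.prime_two).2 h2O)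
  rw [← Subgroup.card_mul_index N, h.card_of_comm hc] at h6
  have h7 : 4 ∣ N.index := by
    refine Nat.Coprime.dvd_of_dvd_mul_left ?_ h6
    exact Nat.Coprime.pow_left 2 ((Nat.coprime_primes Nat.prime_two hr).2 hr2.symm)
  exact hr4 (h7.trans (h.index_dvd_of_comm hc))

/-- transport of an element and the order of its centralizer -/
theorem exists_cent_congr {G H : Type*} [Group G] [Group H] (e : G ≃* H) {s : ℕ} {P : ℕ → Prop}
    (h : ∃ y : H, orderOf y = s ∧ P (Nat.card (centralizer ({y} : Set H)))) :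
    ∃ y : G, orderOf y = s ∧ P (Nat.card (centralizer ({y} : Set G))) := by
  obtain ⟨y, hy, hp⟩ := h
  refine ⟨e.symm y, by rw [MulEquiv.orderOf_eq, hy], ?_⟩
  have h1 : centralizer ({y} : Set H) = (centralizer ({e.symm y} : Set G)).map e.toMonoidHom := by
    ext v
    rw [mem_centralizer_singleton_iff]
    constructor
    · intro hv
      refine ⟨e.symm v, ?_, by simp⟩
      rw [SetLike.mem_coe, mem_centralizer_singleton_iff, ← map_mul, hv, map_mul]
    · rintro ⟨u, hu, rfl⟩
      rw [SetLike.mem_coe, mem_centralizer_singleton_iff] at hu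
      change e u * y = y * e u
      have h2 := congrArg e hu
      rw [map_mul, map_mul, e.apply_symm_apply] at h2
      exact h2
  rw [h1, Subgroup.card_map_of_injective e.injective] at hp
  exact hp

end Cfsg.Agent.H257.El
end

-- part: H217/Odm/Real
section
set_option linter.all false
open scoped Cfsg.Agent.FastGrp

/-!
# TEAM ODDM (S4785): real elements of prime order (helper217)

* `realP_map`, `realP_coe`, `realP_congr`, `realP_of_dvd`
* `realP_of_quot`, `realP_of_surj` : lifting modulo a normal `s'`-subgroup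
* `realP_of_surj_sub` : `K ≤ T`, `f : K →* Q` surjective with kernel of order prime to `s`
* `realP_of_invol` : two involutions with product of order divisible by `s`
* `isReal_of_aut`, `realP_of_cent`, `realP_of_self_cent` : from the order of the centralizer, `s ∥ |T|`
* `realP_of_norm` : `2 |C(x)| ∣ |N(⟨x⟩)|`
* `realP_alt_three`, `realP_alt_five`, `realP_alt_seven` : alternating groups; `realP_perm`: symmetric groups
-/

set_option autoImplicit false

namespace Cfsg.Agent.H217.Odm

open Subgroup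
open Cfsg.Agent.H453.OddM

/-! ### transport -/

section transport

variable {T S : Type*} [Group T] [Group S]

theorem realP_map {s : ℕ} (h : RealP T s) (f : T →* S) (hf : Function.Injective f) : RealP S s := by
  obtain ⟨x, hx, hr⟩ := h
  exact ⟨f x, by rw [orderOf_injective f hf, hx], hr.map f⟩

theorem realP_congr {s : ℕ} (h : RealP T s) (e : T ≃* S) : RealP S s := realP_map h e.toMonoidHom e.injective

/-- lifting a real element of prime order `s` modulo a normal `s'`-subgroup -/
theorem realP_of_quot [Finite T] (V : Subgroup T) [V.Normal] {s : ℕ} (hs : s.Prime) (hV : ¬ s ∣ Nat.card V)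
    (h : RealP (T ⧸ V) s) : RealP T s := by
  have hs' : Fact s.Prime := ⟨hs⟩
  obtain ⟨z, hz, g, hg⟩ := h
  obtain ⟨y, rfl⟩ := QuotientGroup.mk'_surjective V z
  -- a power of `y` has order `s`; we want its image to be `z`
  have hdy : s ∣ orderOf y := by rw [← hz]; exact orderOf_map_dvd _ _
  obtain ⟨k, hk⟩ := hdy
  have hk0 : k ≠ 0 := by
    rintro rfl
    rw [mul_zero] at hk
    exact (orderOf_pos y).ne' hk
  have hyk : orderOf (y ^ k) = s := by
    rw [orderOf_pow_of_dvd hk0 (by rw [hk]; exact dvd_mul_left _ _), hk, Nat.mul_div_cancel _ (Nat.pos_of_ne_zero hk0)]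
  set x := y ^ k with hx
  -- `x` is not in `V`, and its image is real
  have hxV : x ∉ V := by
    intro hx
    apply hV
    have h1 := Subgroup.orderOf_dvd_natCard V hx
    rwa [hyk] at h1
  have hxim : orderOf (QuotientGroup.mk' V x) = s := by
    have h1 : orderOf (QuotientGroup.mk' V x) ∣ s := by rw [← hyk]; exact orderOf_map_dvd _ _
    rcases (Nat.dvd_prime hs).1 h1 with h2 | h2
    · exact absurd ((QuotientGroup.eq_one_iff _).1 (orderOf_eq_one_iff.1 h2)) hxV
    · exact h2
  have hreal : g * QuotientGroup.mk' V x * g⁻¹ = (QuotientGroup.mk' V x)⁻¹ := by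
    rw [hx, map_pow, ← conj_pow, hg, inv_pow]
  set P : Subgroup T := zpowers x with hP
  have hPp : IsPGroup s P := IsPGroup.of_card (n := 1) (by rw [hP, Nat.card_zpowers, hyk, pow_one])
  have hcop : (Nat.card V).Coprime s := ((Nat.Prime.coprime_iff_not_dvd hs).2 hV).symm
  have hmap := Cfsg.Agent.PLocal.CoprimeLift.map_normalizer_mk V P hcop hPp
  have hPm : P.map (QuotientGroup.mk' V) = zpowers (QuotientGroup.mk' V x) := by
    rw [hP, MonoidHom.map_zpowers]
  have hgN : g ∈ normalizer (P.map (QuotientGroup.mk' V) : Set (T ⧸ V)) := by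
    rw [hPm, mem_normalizer_iff]
    intro w
    have hz : ∀ w : T ⧸ V, w ∈ zpowers (QuotientGroup.mk' V x) ↔ g * w * g⁻¹ ∈ zpowers (QuotientGroup.mk' V x) := by
      intro w
      constructor
      · intro hw
        obtain ⟨j, rfl⟩ := mem_zpowers_iff.1 hw
        rw [← conj_zpow, hreal]
        exact zpow_mem (inv_mem (mem_zpowers _)) j
      · intro hw
        obtain ⟨j, hj⟩ := mem_zpowers_iff.1 hw
        have h3 : QuotientGroup.mk' V x = g⁻¹ * (QuotientGroup.mk' V x)⁻¹ * g := by
          rw [← hreal]; group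
        have h4 : w = (g⁻¹ * QuotientGroup.mk' V x * g) ^ j := by
          have h5 := conj_zpow (i := j) (a := g⁻¹) (b := QuotientGroup.mk' V x)
          rw [inv_inv] at h5
          rw [h5, hj]; group
        have h5 : g⁻¹ * QuotientGroup.mk' V x * g = (QuotientGroup.mk' V x)⁻¹ := by
          have h6 : (g⁻¹ * QuotientGroup.mk' V x * g)⁻¹ = g⁻¹ * (QuotientGroup.mk' V x)⁻¹ * g := by group
          rw [← inv_inj, h6, ← h3, inv_inv]
        rw [h4, h5]
        exact zpow_mem (inv_mem (mem_zpowers _)) j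
    exact hz w
  rw [← hmap] at hgN
  obtain ⟨t, ht, htg⟩ := hgN
  refine ⟨x, hyk, t, ?_⟩
  -- `t x t⁻¹` and `x⁻¹` are in `P` and have the same image
  have h1 : t * x * t⁻¹ ∈ P := (mem_normalizer_iff.1 ht x).1 (mem_zpowers x)
  have h2 : QuotientGroup.mk' V (t * x * t⁻¹ * x) = 1 := by
    rw [map_mul, map_mul, map_mul, map_inv, htg, hreal, inv_mul_cancel]
  have h3 : t * x * t⁻¹ * x ∈ V ⊓ P :=
    mem_inf.2 ⟨(QuotientGroup.eq_one_iff _).1 h2, mul_mem h1 (mem_zpowers x)⟩
  have h4 : V ⊓ P = ⊥ := by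
    apply Disjoint.eq_bot
    apply Subgroup.disjoint_of_coprime_natCard
    rw [hP, Nat.card_zpowers, hyk]
    exact hcop
  rw [h4, mem_bot] at h3
  exact eq_inv_of_mul_eq_one_left h3

/-- lifting through a surjective homomorphism with kernel of order prime to `s` -/
theorem realP_of_surj [Finite T] {f : T →* S} (hf : Function.Surjective f) {s : ℕ} (hs : s.Prime)
    (hker : ¬ s ∣ Nat.card f.ker) (h : RealP S s) : RealP T s :=
  realP_of_quot f.ker hs hker (realP_congr h (QuotientGroup.quotientKerEquivOfSurjective f hf).symm)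

end transport

/-! ### from centralizers and normalizers -/

section cent

variable {G : Type*} [Group G] [Finite G]

/-- an element of prime order with automizer of even order is real -/
theorem isReal_of_norm {x : G} {r : ℕ} (hr : r.Prime) (hx : orderOf x = r)
    (h : 2 * Nat.card (centralizer ({x} : Set G)) ∣ Nat.card (normalizer ((zpowers x : Subgroup G) : Set G))) :
    IsReal x := by
  classical
  have hr' : Fact r.Prime := ⟨hr⟩
  set P : Subgroup G := zpowers x with hP
  have hCP : centralizer ({x} : Set G) = centralizer (P : Set G) := by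
    rw [hP, zpowers_eq_closure, centralizer_closure]
  let φ : normalizer (P : Set G) →* MulAut P := P.normalizerMonoidHom
  have hker : Nat.card φ.ker = Nat.card (centralizer ({x} : Set G)) := by
    rw [show φ.ker = _ from P.normalizerMonoidHom_ker, hCP]
    exact Nat.card_congr (Subgroup.subgroupOfEquivOfLe (centralizer_le_normalizer _)).toEquiv
  have hcard : Nat.card (normalizer (P : Set G)) = Nat.card (centralizer ({x} : Set G)) * Nat.card φ.range := by
    rw [← hker, ← Subgroup.card_mul_index φ.ker, Subgroup.index_ker]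
  have hc0 : 0 < Nat.card (centralizer ({x} : Set G)) := Nat.card_pos
  have hev' : 2 ∣ Nat.card φ.range := by
    rw [hcard, mul_comm 2] at h
    exact Nat.dvd_of_mul_dvd_mul_left hc0 h
  obtain ⟨⟨w, hw⟩, ha⟩ := exists_prime_orderOf_dvd_card' (G := φ.range) 2 hev'
  obtain ⟨g, rfl⟩ := hw
  have ha2 : orderOf (φ g) = 2 := by rw [← ha]; exact (Subgroup.orderOf_coe (⟨φ g, _⟩ : φ.range))
  have hgx : (g : G) * x * (g : G)⁻¹ ∈ P := (mem_normalizer_iff.1 g.2 x).1 (mem_zpowers x)
  obtain ⟨k, hk⟩ := mem_zpowers_iff.1 hgx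
  have hk2 : x ^ (k * k) = x := by
    have h5 : (φ g * φ g) ⟨x, mem_zpowers x⟩ = ⟨x, mem_zpowers x⟩ := by
      rw [← pow_two, ← ha2, pow_orderOf_eq_one]; rfl
    have h6 : (g : G) * ((g : G) * x * (g : G)⁻¹) * (g : G)⁻¹ = x := congrArg Subtype.val h5
    rw [← hk] at h6
    rw [← conj_zpow, ← hk, ← zpow_mul] at h6
    exact h6
  have hk1 : x ^ k ≠ x := by
    intro h5
    have h6 : φ g = 1 := by
      apply MulEquiv.ext
      rintro ⟨y, hy⟩
      obtain ⟨j, rfl⟩ := mem_zpowers_iff.1 hy
      apply Subtype.ext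
      change (g : G) * x ^ j * (g : G)⁻¹ = x ^ j
      rw [← conj_zpow, ← hk, h5]
    rw [h6, orderOf_one] at ha2
    exact absurd ha2 (by norm_num)
  refine ⟨g, ?_⟩
  rw [← hk]
  have h7 : (r : ℤ) ∣ k * k - 1 := by
    rw [← hx]
    apply orderOf_dvd_iff_zpow_eq_one.2
    rw [zpow_sub, hk2, zpow_one, mul_inv_cancel]
  have h8 : ¬ (r : ℤ) ∣ k - 1 := by
    intro hd
    rw [← hx] at hd
    have h9 := orderOf_dvd_iff_zpow_eq_one.1 hd
    rw [zpow_sub, zpow_one, mul_inv_eq_one] at h9
    exact hk1 h9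
  have h9 : (r : ℤ) ∣ k + 1 := by
    have h10 : (r : ℤ) ∣ (k - 1) * (k + 1) := by
      have : (k - 1) * (k + 1) = k * k - 1 := by ring
      rw [this]; exact h7
    exact ((Nat.prime_iff_prime_int.1 hr).dvd_or_dvd h10).resolve_left h8
  rw [← hx] at h9
  have h10 := orderOf_dvd_iff_zpow_eq_one.1 h9
  rw [zpow_add, zpow_one] at h10
  exact eq_inv_of_mul_eq_one_left h10

theorem realP_of_norm {x : G} {r : ℕ} (hr : r.Prime) (hx : orderOf x = r)
    (h : 2 * Nat.card (centralizer ({x} : Set G)) ∣ Nat.card (normalizer ((zpowers x : Subgroup G) : Set G))) :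
    RealP G r := ⟨x, hx, isReal_of_norm hr hx h⟩

/-- `r ∥ |G|`, all the elements of order `r` have centralizer of order `r * c`, `c * e = |G| / r` modulo `r`,
`e` even -/
theorem realP_of_cent {r n c e : ℕ} (hr : r.Prime) (hn : Nat.card G = r * n) (hrn : n % r ≠ 0)
    (hc : ∀ x : G, orderOf x = r → Nat.card (centralizer ({x} : Set G)) = r * c)
    (he : e < r) (hmod : (c * e) % r = n % r) (hev : Even e) : RealP G r := by
  have hr' : Fact r.Prime := ⟨hr⟩
  obtain ⟨x, hx⟩ := exists_prime_orderOf_dvd_card' (G := G) r (by rw [hn]; exact dvd_mul_right _ _)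
  exact ⟨x, hx, (norm_of_cent hr hn hrn hx (hc x hx) he hmod).2 hev⟩

/-- the self-centralizing case -/
theorem realP_of_self_cent {r n : ℕ} (hr : r.Prime) (hn : Nat.card G = r * n) (hrn : n % r ≠ 0)
    (hc : ∀ x : G, orderOf x = r → Nat.card (centralizer ({x} : Set G)) = r) (hev : Even (n % r)) : RealP G r :=
  realP_of_cent (c := 1) (e := n % r) hr hn hrn (fun x hx => by rw [hc x hx, mul_one]) (Nat.mod_lt _ hr.pos)
    (by rw [one_mul, Nat.mod_mod]) hev

/-- the order of the normalizer in the self-centralizing case -/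
theorem norm_of_self_cent {r n : ℕ} (hr : r.Prime) (hn : Nat.card G = r * n) (hrn : n % r ≠ 0) {x : G}
    (hx : orderOf x = r) (hc : Nat.card (centralizer ({x} : Set G)) = r) :
    Nat.card (normalizer ((zpowers x : Subgroup G) : Set G)) = r * (n % r) := by
  have h1 := (norm_of_cent (c := 1) (e := n % r) hr hn hrn hx (by rw [hc, mul_one]) (Nat.mod_lt _ hr.pos)
    (by rw [one_mul, Nat.mod_mod])).1
  rwa [one_mul] at h1

/-- no elements of order `r * s` if the centralizers have order prime to `s` -/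
theorem noOrd_of_card_cent {r s : ℕ} (hr : r.Prime) (hs : s.Prime)
    (hc : ∀ x : G, orderOf x = r → ¬ s ∣ Nat.card (centralizer ({x} : Set G))) (z : G) : orderOf z ≠ r * s := by
  intro hz
  have h1 : orderOf (z ^ s) = r := by
    rw [orderOf_pow_of_dvd hs.ne_zero (by rw [hz]; exact dvd_mul_left _ _), hz, Nat.mul_div_cancel _ hs.pos]
  have h2 : orderOf (z ^ r) = s := by
    rw [orderOf_pow_of_dvd hr.ne_zero (by rw [hz]; exact dvd_mul_right _ _), hz, Nat.mul_div_cancel_left _ hr.pos]
  apply hc _ h1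
  rw [← h2]
  apply Subgroup.orderOf_dvd_natCard
  rw [mem_centralizer_singleton_iff]
  rw [h2]
  exact ((Commute.refl z).pow_pow r s).eq

end cent

/-! ### symmetric and alternating groups -/

section alt

open Equiv.Perm

/-- the embedding of alternating groups -/
theorem exists_alt_hom {m n : ℕ} (h : m ≤ n) :
    ∃ f : alternatingGroup (Fin m) →* alternatingGroup (Fin n), Function.Injective f := by
  let ι : Fin m ↪ Fin n := Fin.castLEEmb h
  let g : Equiv.Perm (Fin m) →* Equiv.Perm (Fin n) := Equiv.Perm.viaEmbeddingHom ι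
  have hg : Function.Injective g := Equiv.Perm.viaEmbeddingHom_injective ι
  have hs : ∀ σ : alternatingGroup (Fin m), g σ ∈ alternatingGroup (Fin n) := by
    intro σ
    rw [Equiv.Perm.mem_alternatingGroup]
    have h1 : Equiv.Perm.sign (Equiv.Perm.viaEmbedding (σ : Equiv.Perm (Fin m)) ι) = Equiv.Perm.sign (σ : Equiv.Perm (Fin m)) := by
      rw [Equiv.Perm.viaEmbedding, Equiv.Perm.sign_extendDomain]
    change Equiv.Perm.sign (Equiv.Perm.viaEmbedding (σ : Equiv.Perm (Fin m)) ι) = 1
    rw [h1]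
    exact Equiv.Perm.mem_alternatingGroup.1 σ.2
  refine ⟨(g.comp (alternatingGroup (Fin m)).subtype).codRestrict _ hs, ?_⟩
  intro a b hab
  have h1 := congrArg Subtype.val hab
  exact Subtype.ext (hg h1)

theorem realP_alt_five_five : RealP (alternatingGroup (Fin 5)) 5 := by
  refine ⟨⟨c[(0 : Fin 5), 1, 2, 3, 4], Equiv.Perm.mem_alternatingGroup.2 (by decide +kernel)⟩, ?_,
    ⟨⟨c[(1 : Fin 5), 4] * c[(2 : Fin 5), 3], Equiv.Perm.mem_alternatingGroup.2 (by decide +kernel)⟩, Subtype.ext (by decide +kernel)⟩⟩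
  have : Fact (Nat.Prime 5) := ⟨by norm_num⟩
  exact orderOf_eq_prime (p := 5) (Subtype.ext (by decide +kernel)) (fun h => absurd (congrArg Subtype.val h) (by decide +kernel))

theorem realP_alt_five {n : ℕ} (h : 5 ≤ n) : RealP (alternatingGroup (Fin n)) 5 := by
  obtain ⟨f, hf⟩ := exists_alt_hom h
  exact realP_map realP_alt_five_five f hf

end alt

end Cfsg.Agent.H217.Odm

private theorem dce_61c2887b6e99 : _root_.True := by
  try have : _root_.True := by simp only [_root_.Equiv.Perm.viaEmbedding.eq_1]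
  exact _root_.True.intro
end

-- part: H257/El/Part
section
set_option linter.all false
open scoped Cfsg.Agent.FastGrp

/-!
# Proper subgroups divisible by given primes (helper257)

* `miss_of_chk` : `r, ss` divide `|R|`: no `Aut T`-image of `y` is in `R` (`y` of order `p`, `r ∤ |C(y)|`);
* `false_of_chk` : `r, p, ws` do not all divide `|R|`.
-/

set_option autoImplicit false

namespace Cfsg.Agent.H257.El

open Subgroup
open Cfsg.Agent.OrdDiv
open Cfsg.Agent.H278.El

universe u

/-- The situation. -/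
structure SitP (T : Type u) [Group T] (n : ℕ) (l : List (ℕ × ℕ)) (r : ℕ) (R : Subgroup T) : Prop where
  tab : OrderTable.{u}
  known : Known.{u}
  card : Nat.card T = n
  valid : valid l n = true
  prime : r.Prime
  sq : ¬ r ^ 2 ∣ n
  ne : R ≠ ⊤
  dvdR : r ∣ Nat.card R

namespace SitP

variable {T : Type u} [Group T] {n : ℕ} {l : List (ℕ × ℕ)} {r : ℕ} {R : Subgroup T}

theorem dvd_n (S : SitP T n l r R) : Nat.card R ∣ n := by
  rw [← S.card]
  exact Subgroup.card_subgroup_dvd_card R

theorem sqR (S : SitP T n l r R) : ¬ r ^ 2 ∣ Nat.card R := fun h => S.sq (h.trans S.dvd_n)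

theorem noR {k : ℕ} (hno : ∀ z : T, orderOf z ≠ k) (z : R) : orderOf z ≠ k := by
  rw [← Subgroup.orderOf_coe]
  exact hno z

variable [Finite T]

theorem card_lt (S : SitP T n l r R) : Nat.card R < n := by
  rw [← S.card]
  refine lt_of_le_of_ne (Nat.le_of_dvd Nat.card_pos (Subgroup.card_subgroup_dvd_card R)) fun h => S.ne ?_
  exact Subgroup.eq_top_of_card_eq R h

theorem exists_top (S : SitP T n l r R) :
    ∃ (O : Subgroup R) (_ : O.Normal) (N : Subgroup (R ⧸ O)), Top R r O N :=
  El.exists_top S.prime S.dvdR S.sqR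

variable {O : Subgroup R} [O.Normal] {N : Subgroup (R ⧸ O)}

/-- the primes not adjacent to `r` divide the order of the simple group at the top -/
theorem dvd_simple (S : SitP T n l r R) (h : Top R r O N) {s : ℕ} (hs : s.Prime)
    (hno : ∀ z : T, orderOf z ≠ r * s) (hok : okPair n l r s = true) (hsR : s ∣ Nat.card R) : s ∣ Nat.card N := by
  unfold okPair at hok
  rw [Bool.and_eq_true, Bool.and_eq_true, Bool.and_eq_true] at hok
  obtain ⟨⟨⟨h1, h2⟩, h3⟩, h4⟩ := hok
  have h1' : r ≠ s := by simpa using h1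
  have h2' : ¬ s ∣ r - 1 := by
    intro hd
    rw [Nat.mod_eq_zero_of_dvd hd] at h2
    exact absurd h2 (by decide)
  exact h.dvd_simple hs h1' (noR hno) (fun _ hb hd => okPow_spec S.valid h4 hs hb (hd.trans S.dvd_n)) h2' hsR

theorem card_N_dvd : Nat.card N ∣ Nat.card R := by
  refine (Subgroup.card_subgroup_dvd_card N).trans ?_
  rw [← card_quot_mul O]
  exact dvd_mul_right _ _

/-- a non-commutative `N` is in the list -/
theorem exists_surv (S : SitP T n l r R) (h : Top R r O N) (hna : ¬ ∀ a b : N, a * b = b * a) (ss : List ℕ)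
    (hss : ∀ s ∈ ss, s ∣ Nat.card N) : ∃ g ∈ surv n l r ss, Real g N ∧ Nat.card N = ordN g := by
  have hsim := h.simple
  have hNR : Nat.card N ∣ Nat.card R := card_N_dvd
  have hNn : Nat.card N ∣ n := hNR.trans S.dvd_n
  obtain ⟨g, hg, hr, hc⟩ := exists_good S.tab (S.known N) hna S.valid hNn
  refine ⟨g, List.mem_filter.2 ⟨hg, ?_⟩, hr, hc⟩
  unfold okG
  rw [Bool.and_eq_true, Bool.and_eq_true, List.all_eq_true]
  refine ⟨⟨?_, ?_⟩, fun s hs => ?_⟩
  · rw [← hc, Nat.mod_eq_zero_of_dvd h.dvd]; rfl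
  · rw [← hc]
    have h1 : Nat.card N ≤ Nat.card R := Nat.le_of_dvd Nat.card_pos hNR
    have h2 := S.card_lt
    have h3 : Nat.card N ≠ n := by omega
    simpa using h3
  · rw [← hc, Nat.mod_eq_zero_of_dvd (hss s hs)]; rfl

/-- a prime `w ∥ |R|`, not adjacent to the prime `p ∣ |N|`, divides `|N|` -/
theorem dvd_of_cent (S : SitP T n l r R) (h : Top R r O N) (hna : ¬ ∀ a b : N, a * b = b * a) {w p : ℕ}
    (hw : w.Prime) (hp : p.Prime) (hwp : w ≠ p) (hno : ∀ z : T, orderOf z ≠ w * p) (hwR : w ∣ Nat.card R)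
    (hw2 : ¬ w ^ 2 ∣ n) (hpN : p ∣ Nat.card N) (hok : okPow l w p = true) : w ∣ Nat.card N := by
  by_contra hwN
  have hp' : Fact p.Prime := ⟨hp⟩
  obtain ⟨k, m, hm, hkm⟩ := Nat.exists_eq_pow_mul_and_not_dvd (Nat.card_pos (α := N)).ne' p hp.ne_one
  have hk : k ≠ 0 := by
    rintro rfl
    rw [pow_zero, one_mul] at hkm
    rw [← hkm] at hm
    exact hm hpN
  obtain ⟨y, hy, hd⟩ := h.exists_cent hna hw hp hwp hwR (fun h => hw2 (h.trans S.dvd_n)) hwN (a := k)
    (by rw [hkm]; exact dvd_mul_right _ _) (by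
      rw [hkm, pow_succ]
      intro h1
      exact hm (Nat.dvd_of_mul_dvd_mul_left (pow_pos hp.pos k) h1)) (fun b hb hbk => by
      refine okPow_spec S.valid hok hp hb ?_
      refine dvd_trans ?_ ((card_N_dvd (O := O) (N := N)).trans S.dvd_n)
      refine (pow_dvd_pow p hbk).trans ?_
      rw [hkm]
      exact dvd_mul_right _ _)
  obtain ⟨⟨x, hxC⟩, hx⟩ := exists_prime_orderOf_dvd_card' (G := centralizer ({y} : Set R)) p
    ((dvd_pow_self p hk).trans hd)
  rw [Subgroup.orderOf_mk] at hx
  exact noR hno _ (orderOf_mul_of_comm hw hp hwp hy hx (mem_centralizer_singleton_iff.1 hxC).symm)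

/-- a non-commutative `N` is excluded by `exNA` -/
theorem comm_of_exNA {ss : List ℕ} (S : SitP T n l r R) (h : Top R r O N)
    (hss : ∀ s ∈ ss, s.Prime ∧ ∀ z : T, orderOf z ≠ s * 2) (hssR : ∀ s ∈ ss, s ∣ Nat.card R)
    (hchk : (surv n l r []).all (exNA n ss) = true) : ∀ a b : N, a * b = b * a := by
  by_contra hna
  obtain ⟨g, hg, -, hgc⟩ := S.exists_surv h hna [] (by simp)
  rw [List.all_eq_true] at hchk
  have h1 := hchk g hg
  unfold exNA at h1
  rw [List.any_eq_true] at h1
  obtain ⟨s, hs, h2⟩ := h1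
  simp only [Bool.and_eq_true] at h2
  obtain ⟨⟨⟨⟨h3, h4⟩, h5⟩, h6⟩, h7⟩ := h2
  rw [List.any_eq_true] at h7
  obtain ⟨a, -, h12⟩ := h7
  simp only [Bool.and_eq_true] at h12
  obtain ⟨⟨⟨h13, h14⟩, h15⟩, h16⟩ := h12
  have h17 : s ∣ Nat.card N := by
    refine h.dvd_of_na hna (hss s hs).1 (by simpa using h3) (noR (hss s hs).2)
      (hssR s hs) (fun h2 => ?_) (a := a)
      (Nat.le_of_ble_eq_true h13) ?_ ?_ (by simpa using h16)
    · rw [Nat.mod_eq_zero_of_dvd (h2.trans S.dvd_n)] at h5
      exact absurd h5 (by decide)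
    · rw [hgc]
      exact Nat.dvd_of_mod_eq_zero (by simpa using h14)
    · rw [hgc]
      intro h
      rw [Nat.mod_eq_zero_of_dvd h] at h15
      exact absurd h15 (by decide)
  rw [hgc] at h17
  rw [Nat.mod_eq_zero_of_dvd h17] at h6
  exact absurd h6 (by decide)

end SitP

theorem sitP_of {T : Type u} [Group T] {n : ℕ} {l : List (ℕ × ℕ)} {r : ℕ} {R : Subgroup T} (tab : OrderTable.{u})
    (known : Known.{u}) (hn : Nat.card T = n) (hv : OrdDiv.valid l n = true) (hr : r.Prime)
    (h3 : (n % r ^ 2 != 0) = true) (hR : R ≠ ⊤) (hd : r ∣ Nat.card R) :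
    SitP T n l r R :=
  ⟨tab, known, hn, hv, hr, by
    intro h
    rw [Nat.mod_eq_zero_of_dvd h] at h3
    exact absurd h3 (by decide), hR, hd⟩

variable {T : Type u} [Group T] [Finite T]

/-- **a missing element of order `p`** -/
theorem miss_of_chk (tab : OrderTable.{u}) (known : Known.{u}) {n : ℕ} {l : List (ℕ × ℕ)} {r p : ℕ} {ss : List ℕ}
    (hn : Nat.card T = n) (hr : r.Prime) (hp : p.Prime) (hss : ∀ s ∈ ss, s.Prime ∧ ∀ z : T, orderOf z ≠ s * 2)
    (hchk : chkC n l r p ss = true) {y : T} (hy : orderOf y = p)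
    (hyr : ¬ r ∣ Nat.card (centralizer ({y} : Set T))) {R : Subgroup T} (hR : R ≠ ⊤) (hrR : r ∣ Nat.card R)
    (hssR : ∀ s ∈ ss, s ∣ Nat.card R) : ∀ φ : T ≃* T, φ y ∉ R := by
  intro φ hφ
  unfold chkC at hchk
  rw [Bool.and_eq_true, Bool.and_eq_true, Bool.and_eq_true, Bool.and_eq_true, Bool.and_eq_true,
    Bool.and_eq_true] at hchk
  obtain ⟨⟨⟨⟨⟨⟨h1, h2⟩, h3⟩, h4⟩, h5⟩, h6⟩, h7⟩ := hchk
  have S : SitP T n l r R := sitP_of tab known hn h1 hr h3 hR hrR
  obtain ⟨O, hO, N, h⟩ := S.exists_top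
  have hc := S.comm_of_exNA h hss hssR h7
  have hφo : orderOf (⟨φ y, hφ⟩ : R) = p := by
    rw [Subgroup.orderOf_mk, ← hy]
    exact (orderOf_injective φ.toMonoidHom φ.injective y)
  have hp1 : ¬ p ∣ r - 1 := by
    intro hd
    rw [Nat.mod_eq_zero_of_dvd hd] at h5
    exact absurd h5 (by decide)
  obtain ⟨x, hx, hxy⟩ := h.exists_comm_of_comm hc hp (by simpa using h4) hp1
    (fun b hb hd => okPow_spec S.valid h6 hp hb (hd.trans S.dvd_n)) hφo
  have hxy' : (x : T) * φ y = φ y * x := congrArg Subtype.val hxy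
  apply hyr
  rw [← card_cent_aut φ]
  have h8 := Subgroup.orderOf_dvd_natCard _ (mem_centralizer_singleton_iff.2 hxy' : (x : T) ∈ centralizer ({φ y} : Set T))
  rwa [Subgroup.orderOf_coe, hx] at h8

/-- the check for `false_of_chk` -/
def chkF (n : ℕ) (l : List (ℕ × ℕ)) (r p : ℕ) (ws : List ℕ) : Bool :=
  OrdDiv.valid l n && (n % r ^ 2 != 0) && okPair n l r p &&
    (ws.all fun w => (w != p) && (n % w ^ 2 != 0) && okPow l w p) && (surv n l r (p :: ws)).isEmpty

/-- **the primes `r`, `p`, `ws` do not all divide `|R|`** -/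
theorem false_of_chk (tab : OrderTable.{u}) (known : Known.{u}) {n : ℕ} {l : List (ℕ × ℕ)} {r p : ℕ} {ws : List ℕ}
    (hn : Nat.card T = n) (hr : r.Prime) (hp : p.Prime) (hno : ∀ z : T, orderOf z ≠ r * p)
    (hws : ∀ w ∈ ws, w.Prime ∧ ∀ z : T, orderOf z ≠ w * p) (hchk : chkF n l r p ws = true)
    {R : Subgroup T} (hR : R ≠ ⊤) (hrR : r ∣ Nat.card R) (hpR : p ∣ Nat.card R)
    (hwR : ∀ w ∈ ws, w ∣ Nat.card R) : False := by
  unfold chkF at hchk
  simp only [Bool.and_eq_true, List.all_eq_true] at hchk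
  obtain ⟨⟨⟨⟨h1, h2⟩, h3⟩, h4⟩, h5⟩ := hchk
  have S : SitP T n l r R := sitP_of tab known hn h1 hr h2 hR hrR
  obtain ⟨O, hO, N, h⟩ := S.exists_top
  have h6 := S.dvd_simple h hp hno h3 hpR
  have hrp : r ≠ p := by
    unfold okPair at h3
    rw [Bool.and_eq_true, Bool.and_eq_true, Bool.and_eq_true] at h3
    simpa using h3.1.1.1
  have hna : ¬ ∀ a b : N, a * b = b * a := by
    intro hc
    rw [h.card_of_comm hc] at h6
    exact hrp ((Nat.prime_dvd_prime_iff_eq hp h.prime).1 h6).symm
  obtain ⟨g, hg, -, -⟩ := S.exists_surv h hna (p :: ws) (by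
    intro w hw
    rcases List.mem_cons.1 hw with rfl | hw
    · exact h6
    · obtain ⟨⟨h7, h8⟩, h9⟩ := h4 w hw
      refine S.dvd_of_cent h hna (hws w hw).1 hp (by simpa using h7) (hws w hw).2 (hwR w hw) (fun h10 => ?_) h6 h9
      rw [Nat.mod_eq_zero_of_dvd h10] at h8
      exact absurd h8 (by decide))
  rw [List.isEmpty_iff] at h5
  rw [h5] at hg
  simp at hg

end Cfsg.Agent.H257.El
end

-- part: H217/Odm/Eng2
section
prune_inst 0x3000410074000000000000108000046020000000000000012000010200098001800008013a000610112080600008000002000009000000002000020040000000000026801040010880000000a804080c00000000000000000000000000000000000000000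
set_option linter.all false
open scoped Cfsg.Agent.FastGrp

/-!
# TEAM ODDM (S4785), sporadic groups: the second engine (helper217)

The order of `R` is determined as well.  `aux` is a list of triples `(p, nu, b)`: `p` an odd prime, `|N_T(⟨x⟩)| = p * nu`
for all the elements `x` of order `p` of `T`; if `b = true` then `p` is the order of a real element of `T`.
`dv` is a list of divisors of `|R|`, `ss` a list of primes not adjacent to `r`.

`exists_left` : `(g, |R|)` is in the list `left n l r ss aux dv`, `g` the name of the simple group at the top of `R`.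
-/

set_option autoImplicit false

namespace Cfsg.Agent.H217.Odm

open Subgroup
open Cfsg.Agent.OrdDiv
open Cfsg.Agent.H453.OddM
open Cfsg.Agent.H257.El

universe u

/-! ### exponents, computable -/

/-- the exponent of `t` in `n`, with fuel -/
def tp (t : ℕ) : ℕ → ℕ → ℕ
  | 0, _ => 0
  | k + 1, n => if n % t = 0 then tp t k (n / t) + 1 else 0

theorem tp_eq {t : ℕ} (ht : t.Prime) : ∀ (k n : ℕ), n ≠ 0 → n < 2 ^ k → tp t k n = n.factorization t
  | 0, n, h0, h1 => by
    rw [pow_zero] at h1
    omega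
  | k + 1, n, h0, h1 => by
    unfold tp
    split_ifs with h2
    · obtain ⟨m, rfl⟩ := Nat.dvd_of_mod_eq_zero h2
      have hm : m ≠ 0 := by rintro rfl; exact h0 (mul_zero _)
      have h3 : 2 * m ≤ t * m := Nat.mul_le_mul_right m ht.two_le
      rw [Nat.mul_div_cancel_left _ ht.pos, tp_eq ht k m hm (by rw [pow_succ] at h1; omega),
        Nat.factorization_mul ht.ne_zero hm, Finsupp.add_apply, ht.factorization_self]
      ring
    · symm
      apply Nat.factorization_eq_zero_of_not_dvd
      intro hd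
      exact h2 (Nat.mod_eq_zero_of_dvd hd)

/-- the exponent of `t`, for numbers less than `2 ^ 300` -/
def vt (t n : ℕ) : ℕ := tp t 300 n

theorem vt_eq {t n : ℕ} (ht : t.Prime) (h0 : n ≠ 0) (h1 : n < 2 ^ 300) : vt t n = n.factorization t :=
  tp_eq ht 300 n h0 h1

/-! ### the equation of the `t`-parts -/

/-- data at a prime `p ∥ |R|` -/
structure Pt (T : Type u) [Group T] (R : Subgroup T) (p nu : ℕ) (b : Bool) : Prop where
  prime : p.Prime
  ne2 : p ≠ 2
  nu0 : nu ≠ 0
  norm : ∀ x : T, orderOf x = p → Nat.card (normalizer ((zpowers x : Subgroup T) : Set T)) = p * nu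
  elt : b = true → ∃ x : R, orderOf x = p ∧
    2 ^ ((p * nu).factorization 2) ∣ Nat.card (normalizer ((zpowers x : Subgroup R) : Set R))

variable {T : Type u} [Group T] [Finite T]

omit [Finite T] in
theorem orderOf_conj' (g x : T) : orderOf (g * x * g⁻¹) = orderOf x :=
  orderOf_injective (MulAut.conj g).toMonoidHom (MulAut.conj g).injective x

/-- an element of order `p` of `R` whose normalizer contains a Sylow `2`-subgroup of its normalizer in `T` -/
theorem exists_elt_two {R : Subgroup T} (hR : RO T R) {p nu : ℕ} (hp : RealP T p)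
    (hnu : ∀ x : T, orderOf x = p → Nat.card (normalizer ((zpowers x : Subgroup T) : Set T)) = p * nu) :
    ∃ x : R, orderOf x = p ∧
      2 ^ ((p * nu).factorization 2) ∣ Nat.card (normalizer ((zpowers x : Subgroup R) : Set R)) := by
  classical
  obtain ⟨x₀, hx₀, hreal⟩ := hp
  set M := normalizer ((zpowers x₀ : Subgroup T) : Set T) with hM
  have h2 : Fact (Nat.Prime 2) := ⟨Nat.prime_two⟩
  obtain ⟨Q⟩ : Nonempty (Sylow 2 M) := inferInstance
  have hQp : IsPGroup 2 ((Q : Subgroup M).map M.subtype) := Q.isPGroup'.map _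
  obtain ⟨g, hg, hgQ⟩ := hR.exists_conj_two hreal hQp (by
    rintro _ ⟨q, -, rfl⟩
    exact (mem_normalizer_iff.1 q.2 x₀).1 (mem_zpowers x₀))
  refine ⟨⟨g * x₀ * g⁻¹, hg⟩, ?_, ?_⟩
  · rw [Subgroup.orderOf_mk, orderOf_conj', hx₀]
  · -- the conjugate of `Q`
    have hQc : Nat.card Q = 2 ^ ((p * nu).factorization 2) := by
      rw [Q.card_eq_multiplicity, hM, hnu x₀ hx₀]
    have hQc' : Nat.card (((Q : Subgroup M).map M.subtype).map (MulAut.conj g).toMonoidHom) = Nat.card Q := by
      rw [Subgroup.card_map_of_injective (MulAut.conj g).injective,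
        Subgroup.card_map_of_injective M.subtype_injective]
    set Q' := ((Q : Subgroup M).map M.subtype).map (MulAut.conj g).toMonoidHom with hQ'
    have hQR : Q' ≤ R := by
      rintro _ ⟨q, hq, rfl⟩
      exact hgQ q hq
    have hQs : Nat.card (Q'.subgroupOf R) = Nat.card Q := by
      rw [Nat.card_congr (Subgroup.subgroupOfEquivOfLe hQR).toEquiv, hQc']
    rw [← hQc, ← hQs]
    apply Subgroup.card_dvd_of_le
    intro w hw
    rw [mem_subgroupOf] at hw
    obtain ⟨_, ⟨q, hq, rfl⟩, hqw⟩ := hw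
    have hqw' : g * (q : T) * g⁻¹ = (w : T) := hqw
    rw [mem_normalizer_iff]
    have hnorm : ∀ v : T, v ∈ zpowers (g * x₀ * g⁻¹) ↔ (w : T) * v * (w : T)⁻¹ ∈ zpowers (g * x₀ * g⁻¹) := by
      have hz : ∀ v : T, v ∈ zpowers (g * x₀ * g⁻¹) ↔ g⁻¹ * v * g ∈ zpowers x₀ := by
        intro v
        rw [mem_zpowers_iff, mem_zpowers_iff]
        constructor
        · rintro ⟨j, rfl⟩
          refine ⟨j, ?_⟩
          rw [conj_zpow]; group
        · rintro ⟨j, hj⟩
          refine ⟨j, ?_⟩
          rw [conj_zpow, hj]; group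
      intro v
      rw [hz, hz, ← hqw']
      have h5 := mem_normalizer_iff.1 q.2 (g⁻¹ * v * g)
      rw [show g⁻¹ * (g * (q : T) * g⁻¹ * v * (g * (q : T) * g⁻¹)⁻¹) * g = (q : T) * (g⁻¹ * v * g) * (q : T)⁻¹ by group]
      exact h5
    have hmem : ∀ v : R, v ∈ zpowers (⟨g * x₀ * g⁻¹, hg⟩ : R) ↔ (v : T) ∈ zpowers (g * x₀ * g⁻¹) := by
      intro v
      rw [mem_zpowers_iff, mem_zpowers_iff]
      constructor
      · rintro ⟨j, hj⟩
        exact ⟨j, congrArg Subtype.val hj⟩
      · rintro ⟨j, hj⟩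
        exact ⟨j, Subtype.ext hj⟩
    intro v
    rw [hmem, hmem]
    exact hnorm v

theorem Pt.of_real {R : Subgroup T} (hR : RO T R) {p nu : ℕ} (hp : p.Prime) (hp2 : p ≠ 2) (hreal : RealP T p)
    (hnu0 : nu ≠ 0)
    (hnu : ∀ x : T, orderOf x = p → Nat.card (normalizer ((zpowers x : Subgroup T) : Set T)) = p * nu) (b : Bool) :
    Pt T R p nu b :=
  ⟨hp, hp2, hnu0, hnu, fun _ => exists_elt_two hR hreal hnu⟩

omit [Finite T] in
theorem Pt.of_norm {R : Subgroup T} {p nu : ℕ} (hp : p.Prime) (hp2 : p ≠ 2) (hnu0 : nu ≠ 0)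
    (hnu : ∀ x : T, orderOf x = p → Nat.card (normalizer ((zpowers x : Subgroup T) : Set T)) = p * nu) :
    Pt T R p nu false :=
  ⟨hp, hp2, hnu0, hnu, fun h => absurd h (by decide)⟩

/-- all the subgroups of order `p`, `p ∥ |R|`, have normalizers of the same order -/
theorem card_norm_eq {G : Type*} [Group G] [Finite G] {p : ℕ} (hp : p.Prime) (h2 : ¬ p ^ 2 ∣ Nat.card G) {x y : G}
    (hx : orderOf x = p) (hy : orderOf y = p) :
    Nat.card (normalizer ((zpowers x : Subgroup G) : Set G)) =
      Nat.card (normalizer ((zpowers y : Subgroup G) : Set G)) := by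
  have hxc : Nat.card (zpowers x) = p := by rw [Nat.card_zpowers, hx]
  have hyc : Nat.card (zpowers y) = p := by rw [Nat.card_zpowers, hy]
  obtain ⟨a, -, -, h3⟩ := frattini_card hp h2 ⊤ (zpowers x) hxc le_top
  obtain ⟨b, -, -, h4⟩ := frattini_card hp h2 ⊤ (zpowers y) hyc le_top
  have hp' : Fact p.Prime := ⟨hp⟩
  -- both are the number of Sylow subgroups
  have key : ∀ z : G, orderOf z = p → Nat.card (Sylow p G) * Nat.card (normalizer ((zpowers z : Subgroup G) : Set G)) =
      Nat.card G := by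
    intro z hz
    have hzc : Nat.card (zpowers z) = p := by rw [Nat.card_zpowers, hz]
    have hd : p ∣ Nat.card G := by rw [← hz]; exact _root_.orderOf_dvd_natCard z
    have hfac : (Nat.card G).factorization p = 1 := by
      apply le_antisymm
      · by_contra hc
        exact h2 ((hp.pow_dvd_iff_le_factorization Nat.card_pos.ne').2 (by omega))
      · exact (hp.dvd_iff_one_le_factorization Nat.card_pos.ne').1 hd
    let U : Sylow p G := Sylow.ofCard (zpowers z) (by rw [hzc, hfac, pow_one])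
    have h5 : Nat.card (Sylow p G) = (normalizer ((zpowers z : Subgroup G) : Set G)).index :=
      Sylow.card_eq_index_normalizer U
    rw [h5, mul_comm]
    exact Subgroup.card_mul_index _
  have h5 := key x hx
  have h6 := key y hy
  have h7 : 0 < Nat.card (Sylow p G) := Nat.card_pos
  exact Nat.eq_of_mul_eq_mul_left h7 (h5.trans h6.symm)

/-- the number `a = |N_R(P)| / p` -/
theorem Pt.exists_a {R : Subgroup T} {p nu : ℕ} {b : Bool} (D : Pt T R p nu b) (hd : p ∣ Nat.card R)
    (h2 : ¬ p ^ 2 ∣ Nat.card R) :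
    ∃ (x : R) (a : ℕ), orderOf x = p ∧ Nat.card (normalizer ((zpowers x : Subgroup R) : Set R)) = p * a ∧ a ∣ nu ∧
      (Nat.card R / p) % p = a % p ∧ (b = true → a.factorization 2 = nu.factorization 2) := by
  classical
  have hp' : Fact p.Prime := ⟨D.prime⟩
  obtain ⟨x, hx⟩ := exists_prime_orderOf_dvd_card' (G := R) p hd
  have hxc : Nat.card (zpowers x) = p := by rw [Nat.card_zpowers, hx]
  obtain ⟨a, -, h3, h4⟩ := frattini_card D.prime h2 ⊤ (zpowers x) hxc le_top
  rw [Subgroup.card_top] at h3 h4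
  have h5 : Nat.card (normalizer ((zpowers x : Subgroup R) : Set R)) = p * a :=
    (Nat.eq_of_mul_eq_mul_left Nat.card_pos h4).symm
  have h6 : p * a ∣ p * nu := by
    rw [← h5, ← D.norm (x : T) (by rw [Subgroup.orderOf_coe, hx])]
    exact card_norm_dvd x
  have ha : a ∣ nu := Nat.dvd_of_mul_dvd_mul_left D.prime.pos h6
  have ha0 : a ≠ 0 := by rintro rfl; exact D.nu0 (Nat.eq_zero_of_zero_dvd ha)
  have hfp : p.factorization 2 = 0 := by
    rw [D.prime.factorization, Finsupp.single_apply, if_neg D.ne2]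
  refine ⟨x, a, hx, h5, ha, h3, fun hb => ?_⟩
  obtain ⟨y, hy, hy2⟩ := D.elt hb
  rw [card_norm_eq D.prime h2 hy hx, h5] at hy2
  have h7 : (p * nu).factorization 2 = nu.factorization 2 := by
    rw [Nat.factorization_mul D.prime.ne_zero D.nu0, Finsupp.add_apply, hfp, zero_add]
  have h8 : (p * a).factorization 2 = a.factorization 2 := by
    rw [Nat.factorization_mul D.prime.ne_zero ha0, Finsupp.add_apply, hfp, zero_add]
  apply le_antisymm
  · exact (Nat.factorization_le_iff_dvd ha0 D.nu0).2 ha 2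
  · rw [← h7, ← h8]
    exact (Nat.prime_two.pow_dvd_iff_le_factorization (mul_ne_zero D.prime.ne_zero ha0)).1 hy2

/-- `frattini_card` with the number of Sylow subgroups -/
theorem frattini_card' {G : Type*} [Group G] [Finite G] {r : ℕ} (hr : r.Prime) (h2 : ¬ r ^ 2 ∣ Nat.card G)
    (N P : Subgroup G) [hN : N.Normal] (hP : Nat.card P = r) (hPN : P ≤ N) :
    ∃ m : ℕ, r * m ∣ Nat.card (normalizer (P : Set G)) ∧ (Nat.card N / r) % r = m % r ∧
      Nat.card G * (r * m) = Nat.card N * Nat.card (normalizer (P : Set G)) ∧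
      Nat.card (Sylow r N) * (r * m) = Nat.card N := by
  classical
  have hr' : Fact r.Prime := ⟨hr⟩
  obtain ⟨m, h3, h4, h5⟩ := frattini_card hr h2 N P hP hPN
  refine ⟨m, h3, h4, h5, ?_⟩
  have hN2 : ¬ r ^ 2 ∣ Nat.card N := fun h => h2 (h.trans (Subgroup.card_subgroup_dvd_card N))
  have hrN : r ∣ Nat.card N := by rw [← hP]; exact Subgroup.card_dvd_of_le hPN
  have hfac : (Nat.card N).factorization r = 1 := by
    apply le_antisymm
    · by_contra hc
      exact hN2 ((hr.pow_dvd_iff_le_factorization Nat.card_pos.ne').2 (by omega))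
    · exact (hr.dvd_iff_one_le_factorization Nat.card_pos.ne').1 hrN
  -- the number of Sylow subgroups of `G` is the number of Sylow subgroups of `N`
  have hfacG : (Nat.card G).factorization r = 1 := by
    apply le_antisymm
    · by_contra hc
      exact h2 ((hr.pow_dvd_iff_le_factorization Nat.card_pos.ne').2 (by omega))
    · exact (hr.dvd_iff_one_le_factorization Nat.card_pos.ne').1 (hrN.trans (Subgroup.card_subgroup_dvd_card N))
  let U : Sylow r G := Sylow.ofCard P (by rw [hP, hfacG, pow_one])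
  have h6 : Nat.card (Sylow r G) = (normalizer (P : Set G)).index := Sylow.card_eq_index_normalizer U
  have h7 : Nat.card (Sylow r G) * Nat.card (normalizer (P : Set G)) = Nat.card G := by
    rw [h6, mul_comm]; exact Subgroup.card_mul_index _
  have h8 := H416.SylCount.card_sylow_mul hfac
  have h9 := H416.SylCount.card_sylow_mul hfacG
  -- elements of order `r` are in `N`
  have h10 : Nat.card {x : N // orderOf x = r} = Nat.card {x : G // orderOf x = r} := by
    refine Nat.card_congr ⟨fun x => ⟨(x.1 : G), by rw [Subgroup.orderOf_coe]; exact x.2⟩, fun x => ⟨⟨x.1, ?_⟩, ?_⟩,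
      fun x => rfl, fun x => rfl⟩
    · have h11 : orderOf (QuotientGroup.mk' N x.1) ∣ r := (orderOf_map_dvd _ _).trans (dvd_of_eq x.2)
      have h12 : orderOf (QuotientGroup.mk' N x.1) ∣ N.index := by
        rw [Subgroup.index_eq_card]; exact _root_.orderOf_dvd_natCard _
      have h13 : ¬ r ∣ N.index := by
        intro hd
        apply h2
        rw [← Subgroup.card_mul_index N, pow_two]
        exact Nat.mul_dvd_mul hrN hd
      rcases (Nat.dvd_prime hr).1 h11 with h14 | h14
      · exact (QuotientGroup.eq_one_iff _).1 (orderOf_eq_one_iff.1 h14)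
      · rw [h14] at h12
        exact absurd h12 h13
    · rw [Subgroup.orderOf_mk]; exact x.2
  have h15 : Nat.card (Sylow r N) = Nat.card (Sylow r G) := by
    apply Nat.eq_of_mul_eq_mul_right (Nat.sub_pos_of_lt hr.one_lt)
    rw [h8, h9, h10]
  rw [h15]
  have h16 : 0 < Nat.card (normalizer (P : Set G)) := Nat.card_pos
  apply Nat.eq_of_mul_eq_mul_right h16
  rw [← h5, ← h7]
  ring

section top

variable {R : Subgroup T} {O : Subgroup R} [O.Normal] {N : Subgroup (R ⧸ O)}

/-- **the equations of the `t`-parts** -/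
theorem Pt.exists_am {p nu : ℕ} {b : Bool} (D : Pt T R p nu b) (h : _root_.Cfsg.Agent.H257.El.Top R p O N) :
    ∃ a m : ℕ, a ∣ nu ∧ (Nat.card R / p) % p = a % p ∧ (b = true → a.factorization 2 = nu.factorization 2) ∧
      m ∣ a ∧ (Nat.card N / p) % p = m % p ∧ Nat.card (Sylow p N) * (p * m) = Nat.card N ∧
      ∀ t : ℕ, t.Prime → t ≠ p → a.factorization t + (Nat.card N).factorization t ≤
        (Nat.card R).factorization t + m.factorization t ∧
        t ^ ((Nat.card R).factorization t + m.factorization t - (a.factorization t + (Nat.card N).factorization t)) % p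
          = 1 := by
  classical
  have hr := D.prime
  have hr' : Fact p.Prime := ⟨hr⟩
  have hNn := h.normal
  obtain ⟨x, a, hx, hxa, ha, hmod, hb⟩ := D.exists_a h.dvdR h.sq
  set P : Subgroup R := zpowers x with hP
  have hPc : Nat.card P = p := by rw [hP, Nat.card_zpowers, hx]
  have hPp : IsPGroup p P := IsPGroup.of_card (n := 1) (by rw [hPc, pow_one])
  have hcop : (Nat.card O).Coprime p := ((Nat.Prime.coprime_iff_not_dvd hr).2 h.core).symm
  have h1 := H416.SylCount.card_normalizer_quot P O hcop hPp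
  set c := Nat.card ↥(O ⊓ centralizer (P : Set R)) with hc
  -- the image
  set P' : Subgroup (R ⧸ O) := P.map (QuotientGroup.mk' O) with hP'
  have hP'c : Nat.card P' = p := by
    have h3 : Nat.card P' ∣ p := by
      rw [← hPc]
      exact Subgroup.card_map_dvd _ _
    rcases (Nat.dvd_prime hr).1 h3 with h4 | h4
    · exfalso
      have h5 : P' = ⊥ := Subgroup.card_eq_one.1 h4
      have h6 : x ∈ O := by
        have h7 : QuotientGroup.mk' O x ∈ P' := ⟨x, mem_zpowers x, rfl⟩
        rw [h5, mem_bot] at h7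
        exact (QuotientGroup.eq_one_iff _).1 h7
      apply h.core
      have h7 := Subgroup.orderOf_dvd_natCard O h6
      rwa [hx] at h7
    · exact h4
  have hP'N : P' ≤ N := by
    have h3 : ¬ p ∣ N.index := by
      intro hd
      apply h.sq'
      rw [← Subgroup.card_mul_index N, pow_two]
      exact Nat.mul_dvd_mul h.dvd hd
    intro y hy
    have h4 : orderOf (QuotientGroup.mk' N y) ∣ p := by
      refine (orderOf_map_dvd _ _).trans ?_
      rw [← hP'c]
      exact Subgroup.orderOf_dvd_natCard _ hy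
    have h5 : orderOf (QuotientGroup.mk' N y) ∣ N.index := by
      rw [Subgroup.index_eq_card]
      exact _root_.orderOf_dvd_natCard _
    have h6 : orderOf (QuotientGroup.mk' N y) = 1 := by
      rcases (Nat.dvd_prime hr).1 h4 with h7 | h7
      · exact h7
      · rw [h7] at h5
        exact absurd h5 h3
    exact (QuotientGroup.eq_one_iff _).1 (orderOf_eq_one_iff.1 h6)
  obtain ⟨m, hm1, hm2, hm3, hm4⟩ := frattini_card' hr h.sq' N P' hP'c hP'N
  set d := Nat.card (normalizer (P' : Set (R ⧸ O))) with hd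
  have hd0 : d ≠ 0 := Nat.card_pos.ne'
  have hc0 : c ≠ 0 := Nat.card_pos.ne'
  have hN0 : Nat.card N ≠ 0 := Nat.card_pos.ne'
  have hO0 : Nat.card O ≠ 0 := Nat.card_pos.ne'
  have hRO0 : Nat.card (R ⧸ O) ≠ 0 := Nat.card_pos.ne'
  have hm0 : m ≠ 0 := by
    rintro rfl
    rw [mul_zero, mul_zero] at hm3
    exact (mul_ne_zero hN0 hd0) hm3.symm
  have ha0 : a ≠ 0 := by rintro rfl; exact D.nu0 (Nat.eq_zero_of_zero_dvd ha)
  have hrm0 : p * m ≠ 0 := mul_ne_zero hr.ne_zero hm0
  have hma : m ∣ a := by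
    have h3 : p * m ∣ p * a := by
      rw [← hxa]
      refine hm1.trans ?_
      rw [h1]
      exact dvd_mul_left _ _
    exact Nat.dvd_of_mul_dvd_mul_left hr.pos h3
  refine ⟨a, m, ha, hmod, hb, hma, hm2, hm4, fun t ht htp => ?_⟩
  have h2 := H416.SylCount.dvd_pow_diff hr ht htp P O hPc h.core
  rw [← hc] at h2
  have hft : p.factorization t = 0 := by
    rw [hr.factorization, Finsupp.single_apply, if_neg (Ne.symm htp)]
  have e2 : a.factorization t = c.factorization t + d.factorization t := by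
    have h3 : (p * a).factorization t = (c * d).factorization t := by rw [← h1, hxa]
    rw [Nat.factorization_mul hr.ne_zero ha0, Nat.factorization_mul hc0 hd0, Finsupp.add_apply, Finsupp.add_apply,
      hft, zero_add] at h3
    exact h3
  have e3 : (Nat.card R).factorization t = (Nat.card (R ⧸ O)).factorization t + (Nat.card O).factorization t := by
    rw [← card_quot_mul O, Nat.factorization_mul hRO0 hO0, Finsupp.add_apply]
  have e4 : (Nat.card (R ⧸ O)).factorization t + m.factorization t =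
      (Nat.card N).factorization t + d.factorization t := by
    have h3 : (Nat.card (R ⧸ O) * (p * m)).factorization t = (Nat.card N * d).factorization t := by rw [hm3]
    rw [Nat.factorization_mul hRO0 hrm0, Nat.factorization_mul hN0 hd0, Finsupp.add_apply, Finsupp.add_apply,
      Nat.factorization_mul hr.ne_zero hm0, Finsupp.add_apply, hft, zero_add] at h3
    exact h3
  have e6 : c.factorization t ≤ (Nat.card O).factorization t := by
    apply (Nat.factorization_le_iff_dvd hc0 hO0).2
    exact Subgroup.card_dvd_of_le inf_le_left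
  refine ⟨by omega, ?_⟩
  have e7 : (Nat.card R).factorization t + m.factorization t - (a.factorization t + (Nat.card N).factorization t) =
      (Nat.card O).factorization t - c.factorization t := by (clear * - e2 e3 e4; omega)
  rw [e7]
  have h3 : 1 ≤ t ^ ((Nat.card O).factorization t - c.factorization t) := Nat.one_le_pow _ _ ht.pos
  obtain ⟨k, hk⟩ := h2
  have h4 : t ^ ((Nat.card O).factorization t - c.factorization t) = p * k + 1 := by omega
  rw [h4, Nat.mul_add_mod, Nat.mod_eq_of_lt hr.one_lt]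

omit [Finite T] in
/-- change of the prime -/
theorem top_change [Finite R] {r p : ℕ} (h : _root_.Cfsg.Agent.H257.El.Top R r O N) (hp : p.Prime) (h2 : ¬ p ^ 2 ∣ Nat.card R)
    (hd : p ∣ Nat.card N) : _root_.Cfsg.Agent.H257.El.Top R p O N := by
  have hN := h.normal
  have hsim := h.simple
  have hdQ : p ∣ Nat.card (R ⧸ O) := hd.trans (Subgroup.card_subgroup_dvd_card N)
  have hcore : ¬ p ∣ Nat.card O := by
    intro h3
    apply h2
    rw [← card_quot_mul O, pow_two]
    exact Nat.mul_dvd_mul hdQ h3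
  refine ⟨hp, ?_, h2, hcore, fun M hM hpM => ?_, hN, hsim, hd⟩
  · rw [← card_quot_mul O]
    exact hdQ.mul_right _
  · by_contra hne
    have hrM : r ∣ Nat.card M := by
      by_contra hr
      exact hne (h.bot M hM hr)
    -- `M ⊓ N` is normal in `N`
    have h4 : (M.subgroupOf N).Normal := Subgroup.Normal.subgroupOf hM N
    rcases h4.eq_bot_or_eq_top with h5 | h5
    · -- then `M` and `N` intersect trivially, both of order divisible by `r`
      have h6 : Disjoint M N := by
        rw [disjoint_iff]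
        rw [Subgroup.subgroupOf_eq_bot] at h5
        exact h5.eq_bot
      apply h.sq'
      have h7 : Nat.card M * Nat.card N ∣ Nat.card (R ⧸ O) := by
        have h8 := Subgroup.card_mul_index (M ⊔ N)
        have h9 : Nat.card (M ⊔ N : Subgroup (R ⧸ O)) = Nat.card M * Nat.card N := by
          have h10 : M.relIndex (M ⊔ N) = M.relIndex N := by
            rw [sup_comm]; exact Subgroup.relIndex_sup_right _ _
          have h11 : M.relIndex N = Nat.card N := by
            rw [Subgroup.relIndex, h5, Subgroup.index_bot]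
          have h12 := Subgroup.card_mul_index (M.subgroupOf (M ⊔ N))
          have h13 : Nat.card (M.subgroupOf (M ⊔ N)) = Nat.card M :=
            Nat.card_congr (Subgroup.subgroupOfEquivOfLe le_sup_left).toEquiv
          rw [h13, show (M.subgroupOf (M ⊔ N)).index = Nat.card N from h10.trans h11] at h12
          exact h12.symm
        rw [← h8, h9]
        exact dvd_mul_right _ _
      rw [pow_two]
      exact (Nat.mul_dvd_mul hrM h.dvd).trans h7
    · -- `N ≤ M`
      have h6 : N ≤ M := Subgroup.subgroupOf_eq_top.1 h5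
      exact hpM (hd.trans (Subgroup.card_dvd_of_le h6))

end top

/-! ### the numeric conditions -/

/-- the condition for `a = |N_R(P)| / p` -/
def okA (Rc p nu : ℕ) (b : Bool) (a : ℕ) : Bool :=
  (a != 0) && (nu % a == 0) && ((Rc / p) % p == a % p) && (!b || (vt 2 a == vt 2 nu))

/-- the condition for `m = |N_N(P)| / p` -/
def okM (l : List (ℕ × ℕ)) (Rc Nc p a m : ℕ) : Bool :=
  (m != 0) && (a % m == 0) && ((Nc / p) % p == m % p) && l.all fun t => (t.1 == p) ||
    (Nat.ble (vt t.1 a + vt t.1 Nc) (vt t.1 Rc + vt t.1 m) &&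
      (t.1 ^ (vt t.1 Rc + vt t.1 m - (vt t.1 a + vt t.1 Nc)) % p == 1))

/-- the exact value of `m` for the alternating groups -/
def okAlt (g : Option Grp) (p m : ℕ) : Bool :=
  match g with
  | some (.alt k) => !(Nat.blt k (2 * p) && Nat.ble p k) || (m * 2 == (p - 1) * (k - p).factorial)
  | _ => true

/-- the condition at the prime `p` -/
def okP (l : List (ℕ × ℕ)) (g : Option Grp) (Rc Nc : ℕ) (x : ℕ × ℕ × Bool) : Bool :=
  if Rc % x.1 != 0 then !x.2.2 else
  (Rc % x.1 ^ 2 == 0) || (List.range (x.2.1 + 1)).any fun a => okA Rc x.1 x.2.1 x.2.2 a &&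
    ((Nc % x.1 != 0) || (List.range (a + 1)).any fun m => okM l Rc Nc x.1 a m && okAlt g x.1 m)

/-- what is known about the group with the given name -/
def RealO : Option Grp → ∀ (S : Type u) [Group S], Prop
  | none, S, _ => ∀ a b : S, a * b = b * a
  | some g, S, _ => Real g S

theorem okAlt_of {S : Type u} [Group S] [Finite S] {g : Option Grp} (hg : RealO g S) {p m : ℕ} (hp : p.Prime)
    (hp2 : p ≠ 2) (h2 : ¬ p ^ 2 ∣ Nat.card S) (hd : p ∣ Nat.card S) (hm : Nat.card (Sylow p S) * (p * m) = Nat.card S) :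
    okAlt g p m = true := by
  unfold okAlt
  split
  · rename_i k
    obtain ⟨e⟩ : Nonempty (S ≃* ↥(alternatingGroup (Fin k))) := hg
    have hp' : Fact p.Prime := ⟨hp⟩
    by_cases hk : k < 2 * p ∧ p ≤ k
    · rw [Bool.or_eq_true]
      right
      have hc : Nat.card S = Nat.card (alternatingGroup (Fin k)) := Nat.card_congr e.toEquiv
      have hfac : (Nat.card (alternatingGroup (Fin k))).factorization p = 1 := by
        rw [← hc]
        apply le_antisymm
        · by_contra hc
          exact h2 ((hp.pow_dvd_iff_le_factorization Nat.card_pos.ne').2 (by omega))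
        · exact (hp.dvd_iff_one_le_factorization Nat.card_pos.ne').1 hd
      have h3 := H416.SylCount.card_sylow_alt hk.1 hk.2 hp2 hfac
      have h4 : Nat.card (Sylow p S) = Nat.card (Sylow p (alternatingGroup (Fin k))) := by
        have hfacS : (Nat.card S).factorization p = 1 := by rw [hc]; exact hfac
        have k1 := H416.SylCount.card_sylow_mul hfacS
        have k2 := H416.SylCount.card_sylow_mul hfac
        have k3 : Nat.card {x : S // orderOf x = p} = Nat.card {x : alternatingGroup (Fin k) // orderOf x = p} :=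
          Nat.card_congr (e.toEquiv.subtypeEquiv fun x => by
            rw [show e.toEquiv x = e x from rfl, MulEquiv.orderOf_eq])
        apply Nat.eq_of_mul_eq_mul_right (Nat.sub_pos_of_lt hp.one_lt)
        rw [k1, k2, k3]
      have hk2 : Nontrivial (Fin k) := by
        rw [← Fintype.one_lt_card_iff_nontrivial, Fintype.card_fin]
        have := hp.two_le
        omega
      have h5 : 2 * Nat.card (alternatingGroup (Fin k)) = k.factorial := by
        have := two_mul_nat_card_alternatingGroup (α := Fin k)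
        rw [this, Nat.card_perm, Nat.card_fin]
      rw [← h4] at h3
      rw [← hc, ← hm] at h5
      have h6 : Nat.card (Sylow p S) * p * (m * 2) = Nat.card (Sylow p S) * p * ((p - 1) * (k - p).factorial) := by
        calc Nat.card (Sylow p S) * p * (m * 2) = 2 * (Nat.card (Sylow p S) * (p * m)) := by ring
          _ = Nat.card (Sylow p S) * (p * (p - 1) * (k - p).factorial) := by rw [h5, h3]
          _ = _ := by ring
      have h7 : 0 < Nat.card (Sylow p S) * p := Nat.mul_pos Nat.card_pos hp.pos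
      rw [Nat.eq_of_mul_eq_mul_left h7 h6]
      simp
    · rw [Bool.or_eq_true]
      left
      rw [Bool.not_eq_true', Bool.and_eq_false_iff]
      by_cases h3 : k < 2 * p
      · right
        have h4 : ¬ p ≤ k := fun h5 => hk ⟨h3, h5⟩
        rw [← Bool.not_eq_true, Nat.ble_eq]
        exact h4
      · left
        rw [← Bool.not_eq_true, Nat.blt_eq]
        exact h3
  · rfl

theorem okP_of {R : Subgroup T} {O : Subgroup R} [O.Normal] {N : Subgroup (R ⧸ O)} {l : List (ℕ × ℕ)} {r p nu : ℕ}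
    {b : Bool} (hl : ∀ t ∈ l, t.1.Prime) (hbig : Nat.card T < 2 ^ 300) (hnu : nu < 2 ^ 300) (D : Pt T R p nu b)
    {g : Option Grp} (hg : RealO g N)
    (h : _root_.Cfsg.Agent.H257.El.Top R r O N) : okP l g (Nat.card R) (Nat.card N) (p, nu, b) = true := by
  have hRT : Nat.card R < 2 ^ 300 :=
    lt_of_le_of_lt (Nat.le_of_dvd Nat.card_pos (Subgroup.card_subgroup_dvd_card R)) hbig
  have hNR : Nat.card N ∣ Nat.card R := by
    refine (Subgroup.card_subgroup_dvd_card N).trans ?_
    rw [← card_quot_mul O]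
    exact dvd_mul_right _ _
  have hNb : Nat.card N < 2 ^ 300 := lt_of_le_of_lt (Nat.le_of_dvd Nat.card_pos hNR) hRT
  have hnuz : ∀ a, a ∣ nu → a ≠ 0 ∧ a < 2 ^ 300 ∧ a ≤ nu := by
    intro a ha
    have h1 : a ≠ 0 := by rintro rfl; exact D.nu0 (Nat.eq_zero_of_zero_dvd ha)
    have h2 := Nat.le_of_dvd (Nat.pos_of_ne_zero D.nu0) ha
    exact ⟨h1, lt_of_le_of_lt h2 hnu, h2⟩
  unfold okP
  by_cases h1 : p ∣ Nat.card R
  · have h1' : (Nat.card R % p != 0) = false := by
      rw [Nat.mod_eq_zero_of_dvd h1]; rfl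
    simp only [h1']
    rw [if_neg (by decide), Bool.or_eq_true]
    by_cases h2 : p ^ 2 ∣ Nat.card R
    · left
      rw [Nat.mod_eq_zero_of_dvd h2]; rfl
    · right
      by_cases h3 : p ∣ Nat.card N
      · obtain ⟨a, m, ha, hmod, hb, hma, hm2, hms, ht⟩ := D.exists_am (top_change h D.prime h2 h3)
        obtain ⟨ha0, hab, hale⟩ := hnuz a ha
        rw [List.any_eq_true]
        refine ⟨a, List.mem_range.2 (by omega), ?_⟩
        rw [Bool.and_eq_true]
        constructor
        · unfold okA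
          rw [Bool.and_eq_true, Bool.and_eq_true, Bool.and_eq_true]
          refine ⟨⟨⟨by simpa using ha0, by rw [Nat.mod_eq_zero_of_dvd ha]; rfl⟩, by simpa only [_root_.beq_iff_eq] using hmod⟩, ?_⟩
          rw [vt_eq Nat.prime_two ha0 hab, vt_eq Nat.prime_two D.nu0 hnu]
          cases b with
          | false => rfl
          | true => simpa using hb rfl
        · rw [Bool.or_eq_true]
          right
          rw [List.any_eq_true]
          have hm0 : m ≠ 0 := by rintro rfl; exact ha0 (Nat.eq_zero_of_zero_dvd hma)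
          have hmle : m ≤ a := Nat.le_of_dvd (Nat.pos_of_ne_zero ha0) hma
          refine ⟨m, List.mem_range.2 (by omega), ?_⟩
          rw [Bool.and_eq_true]
          refine ⟨?_, okAlt_of hg D.prime D.ne2 (fun h9 => h2 (h9.trans hNR)) h3 hms⟩
          unfold okM
          rw [Bool.and_eq_true, Bool.and_eq_true, Bool.and_eq_true, List.all_eq_true]
          refine ⟨⟨⟨by simpa using hm0, by rw [Nat.mod_eq_zero_of_dvd hma]; rfl⟩, by simpa only [_root_.beq_iff_eq] using hm2⟩, ?_⟩
          intro t htl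
          rw [Bool.or_eq_true]
          by_cases htp : t.1 = p
          · left; simpa using htp
          · right
            have htpr := hl t htl
            rw [vt_eq htpr ha0 hab, vt_eq htpr Nat.card_pos.ne' hNb, vt_eq htpr Nat.card_pos.ne' hRT,
              vt_eq htpr hm0 (by omega), Bool.and_eq_true]
            obtain ⟨h5, h6⟩ := ht t.1 htpr htp
            exact ⟨by rw [Nat.ble_eq]; exact h5, by rw [h6]; rfl⟩
      · obtain ⟨x, a, -, -, ha, hmod, hb⟩ := D.exists_a h1 h2
        obtain ⟨ha0, hab, hale⟩ := hnuz a ha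
        rw [List.any_eq_true]
        refine ⟨a, List.mem_range.2 (by omega), ?_⟩
        rw [Bool.and_eq_true]
        constructor
        · unfold okA
          rw [Bool.and_eq_true, Bool.and_eq_true, Bool.and_eq_true]
          refine ⟨⟨⟨by simpa using ha0, by rw [Nat.mod_eq_zero_of_dvd ha]; rfl⟩, by simpa only [_root_.beq_iff_eq] using hmod⟩, ?_⟩
          rw [vt_eq Nat.prime_two ha0 hab, vt_eq Nat.prime_two D.nu0 hnu]
          cases b with
          | false => rfl
          | true => simpa using hb rfl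
        · rw [Bool.or_eq_true]
          left
          simp only [bne_iff_ne, ne_eq]
          intro h5
          exact h3 (Nat.dvd_of_mod_eq_zero h5)
  · have h1' : (Nat.card R % p != 0) = true := by
      simp only [bne_iff_ne, ne_eq]
      intro h5
      exact h1 (Nat.dvd_of_mod_eq_zero h5)
    simp only [h1']
    rw [if_pos trivial]
    cases b with
    | false => rfl
    | true =>
      exfalso
      obtain ⟨x, hx, -⟩ := D.elt rfl
      apply h1
      rw [← hx]
      exact _root_.orderOf_dvd_natCard x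

/-! ### the list of the remaining pairs -/

/-- the divisors of `prodl l` -/
def dvs : List (ℕ × ℕ) → List ℕ
  | [] => [1]
  | x :: l => (dvs l).flatMap fun d => (List.range (x.2 + 1)).map fun k => x.1 ^ k * d

theorem mem_dvs : ∀ {l : List (ℕ × ℕ)} {d : ℕ}, (∀ t ∈ l, t.1.Prime) → d ∣ prodl l → d ∈ dvs l
  | [], d, _, h => by
    have h1 : prodl [] = 1 := rfl
    rw [h1, Nat.dvd_one] at h
    rw [h]; simp [dvs]
  | x :: l, d, hl, h => by
    have h1 : prodl (x :: l) = x.1 ^ x.2 * prodl l := by simp [prodl]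
    rw [h1, Nat.dvd_mul] at h
    obtain ⟨d1, d2, h2, h3, rfl⟩ := h
    obtain ⟨k, hk, rfl⟩ := (Nat.dvd_prime_pow (hl x List.mem_cons_self)).1 h2
    have h4 := mem_dvs (l := l) (fun t ht => hl t (List.mem_cons_of_mem _ ht)) h3
    unfold dvs
    rw [List.mem_flatMap]
    exact ⟨d2, h4, List.mem_map.2 ⟨k, List.mem_range.2 (by omega), rfl⟩⟩

/-- the odd part of `l` -/
def oddl (l : List (ℕ × ℕ)) : List (ℕ × ℕ) := l.filter fun x => x.1 != 2

/-- the names and orders to be considered at the top; `none` stands for a group of order `r` -/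
def tops (n : ℕ) (l : List (ℕ × ℕ)) (r : ℕ) (ss : List ℕ) : List (Option Grp × ℕ) :=
  (if ss.isEmpty then [(none, r)] else []) ++ (surv n l r ss).map fun g => (some g, ordN g)

/-- all the conditions for a pair (order of `N`, order of `R`) -/
def okRN (l : List (ℕ × ℕ)) (ss : List ℕ) (aux : List (ℕ × ℕ × Bool)) (dv : List ℕ) (g : Option Grp) (Rc Nc : ℕ) :
    Bool :=
  (Rc % Nc == 0) && dv.all (fun d => Rc % d == 0) && ss.all (fun s => vt s Rc == vt s Nc) && aux.all (okP l g Rc Nc)

/-- the remaining pairs -/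
def left (n : ℕ) (l : List (ℕ × ℕ)) (r : ℕ) (ss : List ℕ) (aux : List (ℕ × ℕ × Bool)) (dv : List ℕ) :
    List (Option Grp × ℕ) :=
  (tops n l r ss).flatMap fun g => ((dvs (oddl l)).filter fun i => (i != 1) &&
    okRN l ss aux dv g.1 (n / i) g.2).map fun i => (g.1, n / i)

/-- all the conditions which do not involve `R` -/
def chkBase' (n : ℕ) (l : List (ℕ × ℕ)) (r : ℕ) (ss : List ℕ) (aux : List (ℕ × ℕ × Bool)) : Bool :=
  OrdDiv.valid l n && (n % r == 0) && (n % r ^ 2 != 0) && ss.all (okPair n l r) && Nat.blt n (2 ^ 300) &&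
    aux.all fun x => Nat.blt x.2.1 (2 ^ 300)

/-- odd divisors -/
theorem dvd_odd_prodl : ∀ {l : List (ℕ × ℕ)} {d : ℕ}, (∀ t ∈ l, t.1.Prime) → Odd d → d ∣ prodl l → d ∣ prodl (oddl l)
  | [], d, _, _, h => h
  | x :: l, d, hl, hd, h => by
    have h1 : prodl (x :: l) = x.1 ^ x.2 * prodl l := by simp [prodl]
    have hl' : ∀ t ∈ l, t.1.Prime := fun t ht => hl t (List.mem_cons_of_mem _ ht)
    by_cases hx : x.1 = 2
    · have h2 : oddl (x :: l) = oddl l := by simp [oddl, hx]
      rw [h2]
      apply dvd_odd_prodl hl' hd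
      rw [h1, hx] at h
      exact (Nat.Coprime.pow_right _ (Nat.coprime_two_right.2 hd)).dvd_of_dvd_mul_left h
    · have h2 : oddl (x :: l) = x :: oddl l := by simp [oddl, hx]
      have h3 : prodl (oddl (x :: l)) = x.1 ^ x.2 * prodl (oddl l) := by rw [h2]; simp [prodl]
      rw [h1, Nat.dvd_mul] at h
      obtain ⟨d1, d2, h4, h5, rfl⟩ := h
      rw [h3]
      exact Nat.mul_dvd_mul h4 (dvd_odd_prodl hl' ((Nat.odd_mul.1 hd).2) h5)

/-- the situation: `R` proper satisfying `RO`, `r ∣ |R|`, `r ∥ n` -/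
theorem exists_left {n : ℕ} {l : List (ℕ × ℕ)} {r : ℕ} {ss : List ℕ} {aux : List (ℕ × ℕ × Bool)} {dv : List ℕ}
    {R : Subgroup T} (tab : OrderTable.{u}) (known : Known.{u}) (hn : Nat.card T = n) (hr : r.Prime)
    (hrR : r ∣ Nat.card R) (hss : ∀ s ∈ ss, s.Prime ∧ s ∣ Nat.card R ∧ ∀ z : T, orderOf z ≠ r * s)
    (haux : ∀ x ∈ aux, Pt T R x.1 x.2.1 x.2.2) (hdv : ∀ d ∈ dv, d ∣ Nat.card R)
    (hchk : chkBase' n l r ss aux = true) (hodd : Odd R.index) (hne : R ≠ ⊤) :
    ∃ (O : Subgroup R) (_ : O.Normal) (N : Subgroup (R ⧸ O)) (_ : _root_.Cfsg.Agent.H257.El.Top R r O N) (g : Option Grp),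
      (g, Nat.card R) ∈ left n l r ss aux dv ∧ RealO g N ∧ (g, Nat.card N) ∈ tops n l r ss := by
  unfold chkBase' at hchk
  simp only [Bool.and_eq_true, List.all_eq_true] at hchk
  obtain ⟨⟨⟨⟨⟨h1, h2⟩, h3⟩, h4⟩, h5⟩, h6⟩ := hchk
  have hsq : ¬ r ^ 2 ∣ n := by
    intro h
    rw [Nat.mod_eq_zero_of_dvd h] at h3
    exact absurd h3 (by decide)
  have hRn : Nat.card R ∣ n := by rw [← hn]; exact Subgroup.card_subgroup_dvd_card R
  have hsqR : ¬ r ^ 2 ∣ Nat.card R := fun h => hsq (h.trans hRn)
  have hn2 : n < 2 ^ 300 := by simpa using h5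
  obtain ⟨O, hO, N, h⟩ := H257.El.exists_top hr hrR hsqR
  have hsim := h.simple
  have hNR : Nat.card N ∣ Nat.card R := by
    refine (Subgroup.card_subgroup_dvd_card N).trans ?_
    rw [← card_quot_mul O]
    exact dvd_mul_right _ _
  have hNn : Nat.card N ∣ n := hNR.trans hRn
  have hl : ∀ t ∈ l, t.1.Prime := valid_prime h1
  have hlt : Nat.card R < n := by
    rw [← hn]
    refine lt_of_le_of_ne (Nat.le_of_dvd Nat.card_pos (Subgroup.card_subgroup_dvd_card R)) fun h => hne ?_
    exact Subgroup.eq_top_of_card_eq R h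
  -- the primes in `ss`
  have hsN : ∀ s ∈ ss, s ∣ Nat.card N ∧ (Nat.card R).factorization s = (Nat.card N).factorization s := by
    intro s hs
    have hok := h4 s hs
    obtain ⟨hsp, hsR, hno⟩ := hss s hs
    unfold okPair at hok
    rw [Bool.and_eq_true, Bool.and_eq_true, Bool.and_eq_true] at hok
    obtain ⟨⟨⟨k1, k2⟩, k3⟩, k4⟩ := hok
    have k1' : r ≠ s := by simpa using k1
    have k2' : ¬ s ∣ r - 1 := by
      intro hd
      rw [Nat.mod_eq_zero_of_dvd hd] at k2
      exact absurd k2 (by decide)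
    have hnoR : ∀ z : R, orderOf z ≠ r * s := fun z => by
      rw [← Subgroup.orderOf_coe]; exact hno z
    have hpw : ∀ b, 1 ≤ b → s ^ b ∣ Nat.card R → s ^ b % r ≠ 1 :=
      fun _ hb hd => okPow_spec h1 k4 hsp hb (hd.trans hRn)
    refine ⟨h.dvd_simple hsp k1' hnoR hpw k2' hsR, le_antisymm ?_ ?_⟩
    · have h7 := h.pow_dvd_iff hsp k1' hnoR hpw k2' (Nat.ordProj_dvd (Nat.card R) s)
      exact (hsp.pow_dvd_iff_le_factorization Nat.card_pos.ne').1 h7
    · exact (Nat.factorization_le_iff_dvd Nat.card_pos.ne' Nat.card_pos.ne').2 hNR s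
  -- the name
  obtain ⟨g, hg, hgr⟩ : ∃ g : Option Grp, (g, Nat.card N) ∈ tops n l r ss ∧ RealO g N := by
    by_cases hc : ∀ a b : N, a * b = b * a
    · refine ⟨none, ?_, hc⟩
      have hcr := h.card_of_comm hc
      have hemp : ss = [] := by
        by_contra hne'
        obtain ⟨s, hs⟩ := List.exists_mem_of_ne_nil _ hne'
        have h7 := (hsN s hs).1
        rw [hcr] at h7
        have h8 := (Nat.prime_dvd_prime_iff_eq (hss s hs).1 hr).1 h7
        have hok := h4 s hs
        unfold okPair at hok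
        rw [Bool.and_eq_true, Bool.and_eq_true, Bool.and_eq_true] at hok
        have h9 : r ≠ s := by simpa using hok.1.1.1
        exact h9 h8.symm
      unfold tops
      rw [hemp, hcr]
      simp only [_root_.List.isEmpty_nil, ↓ _root_.reduceIte, _root_.List.cons_append, _root_.List.nil_append, _root_.List.mem_cons, _root_.List.mem_map, _root_.Prod.mk.injEq, _root_.reduceCtorEq, _root_.false_and, _root_.and_false, _root_.exists_false, _root_.or_false]
    · obtain ⟨g, hg, hgr, hgc⟩ := exists_good tab (known N) hc h1 hNn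
      refine ⟨some g, ?_, hgr⟩
      unfold tops
      rw [List.mem_append]
      right
      rw [List.mem_map]
      refine ⟨g, List.mem_filter.2 ⟨hg, ?_⟩, by rw [hgc]⟩
      unfold okG
      rw [Bool.and_eq_true, Bool.and_eq_true, List.all_eq_true]
      refine ⟨⟨?_, ?_⟩, fun s hs => ?_⟩
      · rw [← hgc, Nat.mod_eq_zero_of_dvd h.dvd]; rfl
      · rw [← hgc]
        have h7 : Nat.card N ≤ Nat.card R := Nat.le_of_dvd Nat.card_pos hNR
        have h8 : Nat.card N ≠ n := by omega
        simpa only [_root_.bne_iff_ne, _root_.ne_eq] using h8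
      · rw [← hgc, Nat.mod_eq_zero_of_dvd (hsN s hs).1]; rfl
  refine ⟨O, hO, N, h, g, ?_, hgr, hg⟩
  -- the index
  have hidx : Nat.card R * R.index = n := by rw [← hn]; exact R.card_mul_index
  have hR0 : 0 < Nat.card R := Nat.card_pos
  have hi0 : 0 < R.index := Nat.pos_of_ne_zero (by intro h0; rw [h0, mul_zero] at hidx; omega)
  have hni : n / R.index = Nat.card R := by
    rw [← hidx, Nat.mul_div_cancel _ hi0]
  unfold left
  rw [List.mem_flatMap]
  refine ⟨(g, Nat.card N), hg, ?_⟩
  rw [List.mem_map]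
  refine ⟨R.index, List.mem_filter.2 ⟨?_, ?_⟩, by rw [hni]⟩
  · apply mem_dvs
    · intro t ht
      exact hl t (List.mem_filter.1 ht).1
    · apply dvd_odd_prodl hl hodd
      rw [valid_prod h1, ← hidx]
      exact dvd_mul_left _ _
  · rw [hni, Bool.and_eq_true]
    constructor
    · have h7 : R.index ≠ 1 := fun h8 => hne (Subgroup.index_eq_one.1 h8)
      simpa using h7
    · unfold okRN
      rw [Bool.and_eq_true, Bool.and_eq_true, Bool.and_eq_true, List.all_eq_true, List.all_eq_true, List.all_eq_true]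
      have hRb : Nat.card R < 2 ^ 300 := lt_trans hlt hn2
      have hNb : Nat.card N < 2 ^ 300 := lt_of_le_of_lt (Nat.le_of_dvd Nat.card_pos hNR) hRb
      refine ⟨⟨⟨?_, fun d hd => ?_⟩, fun s hs => ?_⟩, fun x hx => ?_⟩
      · rw [Nat.mod_eq_zero_of_dvd hNR]; rfl
      · rw [Nat.mod_eq_zero_of_dvd (hdv d hd)]; rfl
      · rw [vt_eq (hss s hs).1 Nat.card_pos.ne' hRb, vt_eq (hss s hs).1 Nat.card_pos.ne' hNb, (hsN s hs).2]
        simp only [_root_.BEq.rfl]
      · have h7 := h6 x hx
        have h8 : x.2.1 < 2 ^ 300 := by simpa using h7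
        exact okP_of hl (by rw [hn]; exact hn2) h8 (haux x hx) hgr h

/-- two classes of real elements of order `s`: then `s ^ 2 ∣ |R|` -/
theorem sq_dvd_of_two {R : Subgroup T} (hR : RO T R) {s : ℕ} (hs : s.Prime) {x y : T} (hx : orderOf x = s)
    (hy : orderOf y = s) (hxr : IsReal x) (hyr : IsReal y) (hxy : ∀ g : T, g * y * g⁻¹ ∉ zpowers x) :
    s ^ 2 ∣ Nat.card R := by
  by_contra h2
  have hs' : Fact s.Prime := ⟨hs⟩
  obtain ⟨a, ha⟩ := hR.exists_conj hxr
  obtain ⟨b, hb⟩ := hR.exists_conj hyr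
  have hx' : orderOf (⟨a * x * a⁻¹, ha⟩ : R) = s := by rw [Subgroup.orderOf_mk, orderOf_conj', hx]
  have hy' : orderOf (⟨b * y * b⁻¹, hb⟩ : R) = s := by rw [Subgroup.orderOf_mk, orderOf_conj', hy]
  obtain ⟨g, hg⟩ := conj_of_cyclic (fun P => cyclic_of_sq h2 P) hx' hy'
  obtain ⟨j, hj⟩ := mem_zpowers_iff.1 hg
  have h1 : (a * x * a⁻¹) ^ j = (g : T) * (b * y * b⁻¹) * (g : T)⁻¹ := congrArg Subtype.val hj
  rw [conj_zpow] at h1
  apply hxy (a⁻¹ * g * b)
  refine mem_zpowers_iff.2 ⟨j, ?_⟩
  calc x ^ j = a⁻¹ * (a * x ^ j * a⁻¹) * a := by group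
    _ = a⁻¹ * ((g : T) * (b * y * b⁻¹) * (g : T)⁻¹) * a := by rw [h1]
    _ = _ := by group

/-- the same with a real element of order `s ^ 2`: then `s ^ 3 ∣ |R|` -/
theorem cube_dvd_of_two {R : Subgroup T} (hR : RO T R) {s : ℕ} (hs : s.Prime) (h9 : RealP T (s ^ 2)) {x y : T}
    (hx : orderOf x = s) (hy : orderOf y = s) (hxr : IsReal x) (hyr : IsReal y)
    (hxy : ∀ g : T, g * y * g⁻¹ ∉ zpowers x) : s ^ 3 ∣ Nat.card R := by
  by_contra h3
  have hs' : Fact s.Prime := ⟨hs⟩
  obtain ⟨z, hz⟩ := hR.cov.exists_order h9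
  have hcyc : ∀ P : Sylow s R, IsCyclic P := by
    have hzp : IsPGroup s (zpowers z) := IsPGroup.of_card (n := 2) (by rw [Nat.card_zpowers, hz])
    obtain ⟨Q, hQ⟩ := hzp.exists_le_sylow
    have hQc : Nat.card Q = s ^ 2 := by
      rw [Q.card_eq_multiplicity]
      congr 1
      apply le_antisymm
      · by_contra hc
        exact h3 ((hs.pow_dvd_iff_le_factorization Nat.card_pos.ne').2 (by omega))
      · apply (hs.pow_dvd_iff_le_factorization Nat.card_pos.ne').1
        rw [← hz]
        exact _root_.orderOf_dvd_natCard z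
    have hQe : zpowers z = Q := by
      apply Subgroup.eq_of_le_of_card_ge hQ
      rw [hQc, Nat.card_zpowers, hz]
    have hQcyc : IsCyclic Q := by
      have h1 : IsCyclic (zpowers z) := inferInstance
      exact (MulEquiv.subgroupCongr hQe).isCyclic.1 h1
    intro P
    exact (Sylow.equiv Q P).isCyclic.1 hQcyc
  obtain ⟨a, ha⟩ := hR.exists_conj hxr
  obtain ⟨b, hb⟩ := hR.exists_conj hyr
  have hx' : orderOf (⟨a * x * a⁻¹, ha⟩ : R) = s := by rw [Subgroup.orderOf_mk, orderOf_conj', hx]
  have hy' : orderOf (⟨b * y * b⁻¹, hb⟩ : R) = s := by rw [Subgroup.orderOf_mk, orderOf_conj', hy]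
  obtain ⟨g, hg⟩ := conj_of_cyclic hcyc hx' hy'
  obtain ⟨j, hj⟩ := mem_zpowers_iff.1 hg
  have h1 : (a * x * a⁻¹) ^ j = (g : T) * (b * y * b⁻¹) * (g : T)⁻¹ := congrArg Subtype.val hj
  rw [conj_zpow] at h1
  apply hxy (a⁻¹ * g * b)
  refine mem_zpowers_iff.2 ⟨j, ?_⟩
  calc x ^ j = a⁻¹ * (a * x ^ j * a⁻¹) * a := by group
    _ = a⁻¹ * ((g : T) * (b * y * b⁻¹) * (g : T)⁻¹) * a := by rw [h1]
    _ = _ := by group

/-- **nothing remains** -/
theorem row_of_left {n : ℕ} {l : List (ℕ × ℕ)} {r : ℕ} {ss : List ℕ} {aux : List (ℕ × ℕ × Bool)} {dv : List ℕ}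
    (tab : OrderTable.{u}) (known : Known.{u}) (hn : Nat.card T = n) (hr : r.Prime)
    (hreal : ∀ R : Subgroup T, RO T R → r ∣ Nat.card R)
    (hss : ∀ s ∈ ss, s.Prime ∧ (∀ R : Subgroup T, RO T R → s ∣ Nat.card R) ∧ ∀ z : T, orderOf z ≠ r * s)
    (haux : ∀ R : Subgroup T, RO T R → ∀ x ∈ aux, Pt T R x.1 x.2.1 x.2.2)
    (hdv : ∀ R : Subgroup T, RO T R → ∀ d ∈ dv, d ∣ Nat.card R)
    (hchk : chkBase' n l r ss aux = true) (hleft : (left n l r ss aux dv).isEmpty = true) : Row T := by
  intro R hR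
  by_contra hne
  obtain ⟨O, hO, N, h, g, hg, -, -⟩ := exists_left (dv := dv) tab known hn hr (hreal R hR)
    (fun s hs => ⟨(hss s hs).1, (hss s hs).2.1 R hR, (hss s hs).2.2⟩) (haux R hR) (hdv R hR) hchk hR.odd_index hne
  rw [List.isEmpty_iff] at hleft
  rw [hleft] at hg
  simp only [_root_.List.not_mem_nil] at hg

end Cfsg.Agent.H217.Odm

private theorem dce_7255e8aecda9 : _root_.True := by
  try have : _root_.True := by simp only [_root_.Cfsg.Agent.H217.Odm.dvs.eq_1]
  try have : _root_.True := by simp only [_root_.Cfsg.Agent.H217.Odm.okAlt._sparseCasesOn_1.else_eq]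
  try have : _root_.True := by simp only [_root_.Cfsg.Agent.H217.Odm.dvs.eq_2]
  try have : _root_.True := by simp only [_root_.Cfsg.Agent.H217.Odm.oddl.eq_1]
  try have : _root_.True := by simp only [_root_.Cfsg.Agent.H217.Odm.tp.eq_def]
  try have : _root_.True := by simp only [_root_.Cfsg.Agent.H217.Odm.okAlt._sparseCasesOn_2.else_eq]
  try have : _root_.True := by simp only [_root_.Cfsg.Agent.H217.Odm.dvs.eq_def]
  exact _root_.True.intro
end

-- part: H904/El/Eng
section
set_option linter.all false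
open scoped Cfsg.Agent.FastGrp

/-!
# TEAM ELUSIVE: the automorphism version of the engine of helper257, and the criterion with two classes (helper904)

`Der T R` : some element of prime order of `T` has no image under `Aut T` in `R`.

* `exists_comm_index` : elements of order `r s` from `s ∣ |Q : N|`
* `sq_not_dvd` : `s ^ 2 ∤ |N|` implies `s ^ 2 ∤ |R|`
* `SitA`, `SitA.exists_surv` : the engine with `Der`
* `der_of_two` : the criterion with two elements of order `s` with centralizers of different orders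
-/

set_option autoImplicit false

namespace Cfsg.Agent.H904.El

open Subgroup
open Cfsg.Agent.OrdDiv Cfsg.Agent.H257.El Cfsg.Agent.H396

universe u

/-- an element of order `r s` from a normal subgroup with index divisible by `s` -/
theorem exists_comm_index {Q : Type*} [Group Q] [Finite Q] {r s : ℕ} (hr : r.Prime) (hs : s.Prime) (hrs : r ≠ s)
    (h2 : ¬ r ^ 2 ∣ Nat.card Q) (N : Subgroup Q) [hN : N.Normal] (hd : r ∣ Nat.card N) (hsN : s ∣ N.index)
    (hs1 : ¬ s ∣ r - 1) : ∃ z : Q, orderOf z = r * s := by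
  have hr' : Fact r.Prime := ⟨hr⟩
  have hs' : Fact s.Prime := ⟨hs⟩
  obtain ⟨P⟩ : Nonempty (Sylow r N) := inferInstance
  have hfr := Sylow.normalizer_sup_eq_top P
  set P' : Subgroup Q := (P : Subgroup N).map N.subtype with hP'
  have hM : s ∣ Nat.card (normalizer (P' : Set Q)) := by
    have h3 : N.relIndex (normalizer (P' : Set Q) ⊔ N) = N.relIndex (normalizer (P' : Set Q)) :=
      Subgroup.relIndex_sup_right _ _
    rw [hfr, Subgroup.relIndex_top_right] at h3
    rw [h3] at hsN
    exact hsN.trans (Subgroup.relIndex_dvd_card _ _)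
  obtain ⟨⟨y, hyM⟩, hy⟩ := exists_prime_orderOf_dvd_card' s hM
  rw [Subgroup.orderOf_mk] at hy
  have hPp : IsPGroup r P' := P.isPGroup'.map _
  obtain ⟨b, hb⟩ := IsPGroup.iff_card.1 hPp
  have hPc : Nat.card P' = Nat.card P := by
    rw [hP', Subgroup.card_map_of_injective N.subtype_injective]
  have hb1 : 1 ≤ b := by
    by_contra hb0
    have : b = 0 := by omega
    rw [this, pow_zero] at hb
    have h3 := P.card_eq_multiplicity
    rw [← hPc, hb] at h3
    have h4 : 1 ≤ (Nat.card N).factorization r := by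
      have := (hr.pow_dvd_iff_le_factorization (k := 1) (n := Nat.card N) Nat.card_pos.ne').1 (by rwa [pow_one])
      exact this
    have h5 := Nat.one_lt_pow (n := (Nat.card N).factorization r) (by omega) hr.one_lt
    omega
  have hb2 : b ≤ 1 := by
    by_contra hb3
    apply h2
    refine (pow_dvd_pow r (show 2 ≤ b by omega)).trans ?_
    rw [← hb]
    exact Subgroup.card_subgroup_dvd_card P'
  have hbe : b = 1 := by omega
  rw [hbe, pow_one] at hb
  obtain ⟨w, hwP, hw, hyw⟩ := exists_comm_of_normalizer hs hr hy hPp hyM (by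
    intro h3
    rw [hb] at h3
    apply hs1
    have h4 : r ≡ 1 [MOD s] := by
      unfold Nat.ModEq
      rw [h3, Nat.mod_eq_of_lt hs.one_lt]
    exact (Nat.modEq_iff_dvd' hr.one_lt.le).1 h4.symm)
  refine ⟨w * y, ?_⟩
  exact orderOf_mul_of_comm hr hs hrs hw hy hyw.symm

section

variable {R : Type*} [Group R] [Finite R] {r : ℕ} {O : Subgroup R} [O.Normal] {N : Subgroup (R ⧸ O)} {s : ℕ}

theorem not_dvd_index (h : Top R r O N) (hs : s.Prime) (hrs : r ≠ s) (hno : ∀ z : R, orderOf z ≠ r * s)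
    (hs1 : ¬ s ∣ r - 1) : ¬ s ∣ N.index := by
  intro hd
  have := h.normal
  obtain ⟨z, hz⟩ := exists_comm_index h.prime hs hrs h.sq' N h.dvd hd hs1
  obtain ⟨y, rfl⟩ := QuotientGroup.mk'_surjective O z
  obtain ⟨k, hk⟩ := exists_lift (QuotientGroup.mk' O) hz
  exact hno _ hk

/-- the `s`-part of `|R|` is the one of `|N|` -/
theorem pow_dvd_of_dvd (h : Top R r O N) (hs : s.Prime) (hrs : r ≠ s) (hno : ∀ z : R, orderOf z ≠ r * s)
    (hord : ∀ b, 1 ≤ b → s ^ b ∣ Nat.card R → s ^ b % r ≠ 1) (hs1 : ¬ s ∣ r - 1) {k : ℕ}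
    (hd : s ^ k ∣ Nat.card R) : s ^ k ∣ Nat.card N := by
  have h1 := h.not_dvd_core hs hrs hno hord
  have h2 := not_dvd_index h hs hrs hno hs1
  have h3 : Nat.card R = Nat.card N * N.index * Nat.card O := by
    rw [Subgroup.card_mul_index, card_quot_mul]
  rw [h3] at hd
  have h4 : s ^ k ∣ Nat.card N * N.index :=
    Nat.Coprime.dvd_of_dvd_mul_right (Nat.Coprime.pow_left _ ((Nat.Prime.coprime_iff_not_dvd hs).2 h1)) hd
  exact Nat.Coprime.dvd_of_dvd_mul_right (Nat.Coprime.pow_left _ ((Nat.Prime.coprime_iff_not_dvd hs).2 h2)) h4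

end

/-! ### the situation -/

variable {T : Type u} [Group T] [Finite T]

/-- The situation, with all automorphisms. -/
structure SitA (T : Type u) [Group T] (n : ℕ) (l : List (ℕ × ℕ)) (r : ℕ) (R : Subgroup T) : Prop where
  tab : OrderTable.{u}
  known : Known.{u}
  card : Nat.card T = n
  valid : valid l n = true
  prime : r.Prime
  dvd : r ∣ n
  sq : ¬ r ^ 2 ∣ n
  ne : R ≠ ⊤
  nder : ¬ Der T R

namespace SitA

variable {n : ℕ} {l : List (ℕ × ℕ)} {r : ℕ} {R : Subgroup T}

omit [Finite T] in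
theorem dvd_n (S : SitA T n l r R) : Nat.card R ∣ n := by
  rw [← S.card]
  exact Subgroup.card_subgroup_dvd_card R

theorem dvd_card (S : SitA T n l r R) {p : ℕ} (hp : p.Prime) (hd : p ∣ n) : p ∣ Nat.card R := by
  by_contra hn
  exact S.nder (der_of_prime hp (by rw [S.card]; exact hd) hn)

omit [Finite T] in
theorem sqR (S : SitA T n l r R) : ¬ r ^ 2 ∣ Nat.card R := fun h => S.sq (h.trans S.dvd_n)

theorem card_lt (S : SitA T n l r R) : Nat.card R < n := by
  rw [← S.card]
  refine lt_of_le_of_ne (Nat.le_of_dvd Nat.card_pos (Subgroup.card_subgroup_dvd_card R)) fun h => S.ne ?_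
  exact Subgroup.eq_top_of_card_eq R h

theorem exists_top (S : SitA T n l r R) :
    ∃ (O : Subgroup R) (_ : O.Normal) (N : Subgroup (R ⧸ O)), Top R r O N :=
  H257.El.exists_top S.prime (S.dvd_card S.prime S.dvd) S.sqR

omit [Finite T] in
theorem noR {k : ℕ} (hno : ∀ z : T, orderOf z ≠ k) (z : R) : orderOf z ≠ k := by
  rw [← Subgroup.orderOf_coe]
  exact hno z

variable {O : Subgroup R} [O.Normal] {N : Subgroup (R ⧸ O)}

/-- the primes not adjacent to `r` do not divide the order of the core -/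
theorem not_dvd_core (S : SitA T n l r R) (h : Top R r O N) {s : ℕ} (hs : s.Prime) (hrs : r ≠ s)
    (hno : ∀ z : T, orderOf z ≠ r * s) (hok : okPow l r s = true) : ¬ s ∣ Nat.card O :=
  h.not_dvd_core hs hrs (noR hno) fun _ hb hd => okPow_spec S.valid hok hs hb (hd.trans S.dvd_n)

/-- the primes not adjacent to `r` divide the order of the simple group at the top -/
theorem dvd_simple (S : SitA T n l r R) (h : Top R r O N) {s : ℕ} (hs : s.Prime)
    (hno : ∀ z : T, orderOf z ≠ r * s) (hok : okPair n l r s = true) : s ∣ Nat.card N := by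
  unfold okPair at hok
  rw [Bool.and_eq_true, Bool.and_eq_true, Bool.and_eq_true] at hok
  obtain ⟨⟨⟨h1, h2⟩, h3⟩, h4⟩ := hok
  have h1' : r ≠ s := by simpa using h1
  have h2' : ¬ s ∣ r - 1 := by
    intro hd
    rw [Nat.mod_eq_zero_of_dvd hd] at h2
    exact absurd h2 (by decide)
  have h3' : s ∣ n := Nat.dvd_of_mod_eq_zero (by simpa using h3)
  exact h.dvd_simple hs h1' (noR hno) (fun _ hb hd => okPow_spec S.valid h4 hs hb (hd.trans S.dvd_n)) h2'
    (S.dvd_card hs h3')

/-- powers of the primes not adjacent to `r` dividing `|R|` divide the order of the simple group at the top -/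
theorem pow_dvd_simple (S : SitA T n l r R) (h : Top R r O N) {s : ℕ} (hs : s.Prime)
    (hno : ∀ z : T, orderOf z ≠ r * s) (hok : okPair n l r s = true) {k : ℕ} (hd : s ^ k ∣ Nat.card R) :
    s ^ k ∣ Nat.card N := by
  unfold okPair at hok
  rw [Bool.and_eq_true, Bool.and_eq_true, Bool.and_eq_true] at hok
  obtain ⟨⟨⟨h1, h2⟩, h3⟩, h4⟩ := hok
  have h1' : r ≠ s := by simpa using h1
  have h2' : ¬ s ∣ r - 1 := by
    intro hd
    rw [Nat.mod_eq_zero_of_dvd hd] at h2
    exact absurd h2 (by decide)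
  exact pow_dvd_of_dvd h hs h1' (noR hno) (fun _ hb hd => okPow_spec S.valid h4 hs hb (hd.trans S.dvd_n)) h2' hd

/-- a non-commutative `N` is in the list -/
theorem exists_surv (S : SitA T n l r R) (h : Top R r O N) (hna : ¬ ∀ a b : N, a * b = b * a) (ss : List ℕ)
    (hss : ∀ s ∈ ss, s ∣ Nat.card N) : ∃ g ∈ surv n l r ss, Real g N ∧ Nat.card N = ordN g := by
  have hsim := h.simple
  have hNR : Nat.card N ∣ Nat.card R := by
    refine (Subgroup.card_subgroup_dvd_card N).trans ?_
    rw [← card_quot_mul O]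
    exact dvd_mul_right _ _
  have hNn : Nat.card N ∣ n := hNR.trans S.dvd_n
  obtain ⟨g, hg, hr, hc⟩ := exists_good S.tab (S.known N) hna S.valid hNn
  refine ⟨g, List.mem_filter.2 ⟨hg, ?_⟩, hr, hc⟩
  unfold okG
  rw [Bool.and_eq_true, Bool.and_eq_true, List.all_eq_true]
  refine ⟨⟨?_, ?_⟩, fun s hs => ?_⟩
  · rw [← hc, Nat.mod_eq_zero_of_dvd h.dvd]; rfl
  · rw [← hc]
    have h1 : Nat.card N ≤ Nat.card R := Nat.le_of_dvd Nat.card_pos hNR
    have h2 := S.card_lt
    have h3 : Nat.card N ≠ n := by omega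
    simpa using h3
  · rw [← hc, Nat.mod_eq_zero_of_dvd (hss s hs)]; rfl

/-- an element of `N` gives elements of `R` with orders divisible by its order; orders missing in `T` are missing -/
theorem no_order (_S : SitA T n l r R) {k : ℕ} (hno : ∀ z : T, orderOf z ≠ k) (x : N) : orderOf x ≠ k := by
  intro hx
  obtain ⟨y, hy⟩ := QuotientGroup.mk'_surjective O (x : R ⧸ O)
  obtain ⟨j, hj⟩ := exists_lift (QuotientGroup.mk' O) (z := y) (n := k) (by rw [hy, Subgroup.orderOf_coe, hx])
  exact noR hno _ hj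

end SitA

/-! ### two classes of elements of order `s` -/

section

variable {G H : Type*} [Group G] [Group H]

theorem card_cent_equiv (e : G ≃* H) (x : G) :
    Nat.card (centralizer ({e x} : Set H)) = Nat.card (centralizer ({x} : Set G)) := by
  have h : centralizer ({e x} : Set H) = (centralizer ({x} : Set G)).map e.toMonoidHom := by
    ext y
    rw [mem_centralizer_singleton_iff, mem_map_equiv, mem_centralizer_singleton_iff]
    constructor
    · intro h
      apply e.injective
      rw [map_mul, map_mul, e.apply_symm_apply, h]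
    · intro h
      have h1 := congrArg e h
      rwa [map_mul, map_mul, e.apply_symm_apply] at h1
  rw [h]
  exact Subgroup.card_map_of_injective e.injective

/-- the centralizer of a generator of the same group of prime order -/
theorem centralizer_eq_of_mem_zpowers {s : ℕ} (hs : s.Prime) {x y : G} (hx : orderOf x = s) (hy : orderOf y = s)
    (h : y ∈ zpowers x) : centralizer ({y} : Set G) = centralizer ({x} : Set G) := by
  have h1 : zpowers y = zpowers x := by
    have hf : Finite (zpowers x) := Nat.finite_of_card_ne_zero (by rw [Nat.card_zpowers, hx]; exact hs.ne_zero)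
    apply Subgroup.eq_of_le_of_card_ge (zpowers_le.2 h)
    rw [Nat.card_zpowers, Nat.card_zpowers, hx, hy]
  have h2 : ∀ w : G, centralizer ({w} : Set G) = centralizer ((zpowers w : Subgroup G) : Set G) := by
    intro w
    rw [zpowers_eq_closure, centralizer_closure]
  rw [h2 y, h2 x, h1]

end

/-- **two elements of order `s` with centralizers of different orders** -/
theorem false_of_two {R : Subgroup T} (hnd : ¬ Der T R) {s : ℕ} (hs : s.Prime) (h2 : ¬ s ^ 2 ∣ Nat.card R)
    {x y : T} (hx : orderOf x = s) (hy : orderOf y = s)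
    (hxy : Nat.card (centralizer ({x} : Set T)) ≠ Nat.card (centralizer ({y} : Set T))) : False := by
  have hs' : Fact s.Prime := ⟨hs⟩
  have key : ∀ w : T, orderOf w = s → ∃ φ : T ≃* T, φ w ∈ R := by
    intro w hw
    by_contra hn
    push Not at hn
    exact hnd ⟨w, by rw [hw]; exact hs, hn⟩
  obtain ⟨φ, hφ⟩ := key x hx
  obtain ⟨ψ, hψ⟩ := key y hy
  have hx' : orderOf (⟨φ x, hφ⟩ : R) = s := by
    rw [Subgroup.orderOf_mk, ← hx]
    exact (orderOf_injective φ.toMonoidHom φ.injective x)
  have hy' : orderOf (⟨ψ y, hψ⟩ : R) = s := by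
    rw [Subgroup.orderOf_mk, ← hy]
    exact (orderOf_injective ψ.toMonoidHom ψ.injective y)
  obtain ⟨g, hg⟩ := conj_of_cyclic (fun P => cyclic_of_sq h2 P) hx' hy'
  obtain ⟨j, hj⟩ := mem_zpowers_iff.1 hg
  have h1 : (φ x) ^ j = (g : T) * (ψ y) * (g : T)⁻¹ := congrArg Subtype.val hj
  apply hxy
  rw [← card_cent_equiv φ x, ← card_cent_equiv ψ y, ← card_cent_equiv (MulAut.conj (g : T)) (ψ y)]
  have h3 : MulAut.conj (g : T) (ψ y) = (g : T) * (ψ y) * (g : T)⁻¹ := rfl
  rw [h3]
  have h4 : orderOf ((g : T) * (ψ y) * (g : T)⁻¹) = s := by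
    rw [Subgroup.orderOf_mk] at hy'
    rw [← hy']
    exact (orderOf_injective (MulAut.conj (g : T)).toMonoidHom (MulAut.conj (g : T)).injective (ψ y))
  rw [centralizer_eq_of_mem_zpowers hs (by rwa [Subgroup.orderOf_mk] at hx') h4 (mem_zpowers_iff.2 ⟨j, h1⟩)]

/-- the numeric checks of `der_of_two` : the survivors with order divisible by `s ^ 2` are in the list `bad` -/
def chkTwo (n : ℕ) (l : List (ℕ × ℕ)) (r s : ℕ) (ss : List ℕ) (bad : List Grp) : Bool :=
  OrdDiv.valid l n && (n % r == 0) && (n % r ^ 2 != 0) && okPair n l r s && (ss.all fun t => okPair n l r t) &&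
    (surv n l r (s :: ss)).all fun g => (ordN g % s ^ 2 != 0) || bad.contains g

/-- **the criterion with two classes of elements of order `s`** -/
theorem der_of_two (tab : OrderTable.{u}) (known : Known.{u}) {n : ℕ} {l : List (ℕ × ℕ)} {r s : ℕ} {ss : List ℕ}
    {bad : List Grp} (hn : Nat.card T = n) (hr : r.Prime) (hs : s.Prime) (hno : ∀ z : T, orderOf z ≠ r * s)
    (hss : ∀ t ∈ ss, t.Prime ∧ ∀ z : T, orderOf z ≠ r * t) (hchk : chkTwo n l r s ss bad = true) {x y : T}
    (hx : orderOf x = s) (hy : orderOf y = s)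
    (hxy : Nat.card (centralizer ({x} : Set T)) ≠ Nat.card (centralizer ({y} : Set T))) {R : Subgroup T} (hR : R ≠ ⊤)
    (hbad : ∀ (O : Subgroup R) (_ : O.Normal) (N : Subgroup (R ⧸ O)), Top R r O N → ∀ g ∈ bad, Real g N →
      ∃ (k : ℕ) (z : N), orderOf z = k ∧ ∀ w : T, orderOf w ≠ k) : Der T R := by
  by_contra hnd
  unfold chkTwo at hchk
  rw [Bool.and_eq_true, Bool.and_eq_true, Bool.and_eq_true, Bool.and_eq_true, Bool.and_eq_true, List.all_eq_true,
    List.all_eq_true] at hchk
  obtain ⟨⟨⟨⟨⟨h1, h2⟩, h3⟩, h4⟩, h5⟩, h6⟩ := hchk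
  have S : SitA T n l r R := ⟨tab, known, hn, h1, hr, Nat.dvd_of_mod_eq_zero (by simpa using h2), by
    intro h
    rw [Nat.mod_eq_zero_of_dvd h] at h3
    exact absurd h3 (by decide), hR, hnd⟩
  obtain ⟨O, hO, N, h⟩ := S.exists_top
  have hrs : r ≠ s := by
    unfold okPair at h4
    rw [Bool.and_eq_true, Bool.and_eq_true, Bool.and_eq_true] at h4
    simpa using h4.1.1.1
  have hsN := S.dvd_simple h hs hno h4
  obtain ⟨g, hg, hgR, hgc⟩ := S.exists_surv h (Sit.not_comm_of_dvd h hs hrs hsN) (s :: ss) (by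
    intro t ht
    rcases List.mem_cons.1 ht with rfl | ht
    · exact hsN
    · exact S.dvd_simple h (hss t ht).1 (hss t ht).2 (h5 t ht))
  have h7 := h6 g hg
  rw [Bool.or_eq_true] at h7
  rcases h7 with h7 | h7
  · refine false_of_two hnd hs (fun hd => ?_) hx hy hxy
    have h8 := S.pow_dvd_simple h hs hno h4 hd
    rw [hgc] at h8
    rw [Nat.mod_eq_zero_of_dvd h8] at h7
    exact absurd h7 (by decide)
  · obtain ⟨k, z, hz, hw⟩ := hbad O hO N h g (by simpa using h7) hgR
    exact S.no_order hw z hz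

end Cfsg.Agent.H904.El
end

-- part: H311/OdmTools
section
set_option linter.all false
open scoped Cfsg.Agent.FastGrp

/-!
# TEAM ODDM (S4785): small tools for the sporadic rows (helper311)
-/

set_option autoImplicit false

namespace Cfsg.Agent.H311.OdmTools

open Subgroup
open Cfsg.Agent.H453.OddM

/-- the centralizers of the elements of order `r` have the same order, if `r ∥ |G|` -/
theorem card_cent_eq {G : Type*} [Group G] [Finite G] {r n : ℕ} (hr : r.Prime) (hn : Nat.card G = r * n)
    (hrn : n % r ≠ 0) {x y : G} (hx : orderOf x = r) (hy : orderOf y = r) :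
    Nat.card (centralizer ({y} : Set G)) = Nat.card (centralizer ({x} : Set G)) := by
  have hr' : Fact r.Prime := ⟨hr⟩
  have hn0 : n ≠ 0 := by rintro rfl; simp at hrn
  have hfac : (Nat.card G).factorization r = 1 := by
    rw [hn, Nat.factorization_mul hr.ne_zero hn0, Finsupp.add_apply, hr.factorization_self,
      Nat.factorization_eq_zero_of_not_dvd fun hd => hrn (Nat.mod_eq_zero_of_dvd hd)]
  let P : Sylow r G := Sylow.ofCard (zpowers x) (by rw [Nat.card_zpowers, hx, hfac, pow_one])
  let Q : Sylow r G := Sylow.ofCard (zpowers y) (by rw [Nat.card_zpowers, hy, hfac, pow_one])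
  obtain ⟨g, hg⟩ := MulAction.exists_smul_eq G P Q
  have hmem : g * x * g⁻¹ ∈ zpowers y := by
    have h1 : (Q : Subgroup G) = zpowers y := rfl
    rw [← h1, ← hg, Sylow.coe_subgroup_smul]
    exact ⟨x, mem_zpowers x, rfl⟩
  have hcz : ∀ a : G, centralizer (zpowers a : Set G) = centralizer ({a} : Set G) := by
    intro a
    rw [zpowers_eq_closure, centralizer_closure]
  have hz : zpowers (g * x * g⁻¹) = zpowers y := by
    apply eq_of_le_of_card_ge
    · rw [zpowers_le]; exact hmem
    · have ho : orderOf (g * x * g⁻¹) = r := by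
        rw [← hx]
        exact (MulAut.conj g).orderOf_eq x
      rw [Nat.card_zpowers, Nat.card_zpowers, hy, ho]
  have h1 : centralizer ({y} : Set G) = (centralizer ({x} : Set G)).map (MulAut.conj g).toMonoidHom := by
    rw [← hcz y, ← hz, hcz]
    ext w
    rw [mem_map]
    constructor
    · intro hw
      rw [mem_centralizer_singleton_iff] at hw
      refine ⟨g⁻¹ * w * g, ?_, ?_⟩
      · rw [mem_centralizer_singleton_iff]
        have : w * (g * x * g⁻¹) = g * x * g⁻¹ * w := hw
        calc g⁻¹ * w * g * x = g⁻¹ * (w * (g * x * g⁻¹)) * g := by group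
          _ = g⁻¹ * (g * x * g⁻¹ * w) * g := by rw [this]
          _ = x * (g⁻¹ * w * g) := by group
      · show g * (g⁻¹ * w * g) * g⁻¹ = w
        group
    · rintro ⟨v, hv, rfl⟩
      rw [mem_centralizer_singleton_iff] at hv ⊢
      show g * v * g⁻¹ * (g * x * g⁻¹) = g * x * g⁻¹ * (g * v * g⁻¹)
      calc g * v * g⁻¹ * (g * x * g⁻¹) = g * (v * x) * g⁻¹ := by group
        _ = g * (x * v) * g⁻¹ := by rw [hv]
        _ = g * x * g⁻¹ * (g * v * g⁻¹) := by group
  rw [h1, card_map_of_injective (MulAut.conj g).injective]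

theorem card_cent_map {G H : Type*} [Group G] [Group H] (e : G ≃* H) (x : G) :
    Nat.card (centralizer ({e x} : Set H)) = Nat.card (centralizer ({x} : Set G)) := by
  symm
  refine Nat.card_congr
    { toFun := fun c => ⟨e c, ?_⟩
      invFun := fun c => ⟨e.symm c, ?_⟩
      left_inv := fun c => Subtype.ext (e.symm_apply_apply _)
      right_inv := fun c => Subtype.ext (e.apply_symm_apply _) }
  · have h := mem_centralizer_singleton_iff.1 c.2
    rw [mem_centralizer_singleton_iff, ← map_mul, h, map_mul]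
  · have h := mem_centralizer_singleton_iff.1 c.2
    rw [mem_centralizer_singleton_iff]
    apply e.injective
    rw [map_mul, map_mul, e.apply_symm_apply, h]

theorem realP_of_hasReal {p : ℕ} {G : Type*} [Group G] (h : H722.RealP.HasReal p G) : RealP G p := by
  obtain ⟨x, t, hx, -, h2⟩ := h
  exact ⟨x, hx, t, h2⟩

theorem RealP.congr {p : ℕ} {G H : Type*} [Group G] [Group H] (e : G ≃* H) (h : RealP G p) : RealP H p := by
  obtain ⟨x, hx, hr⟩ := h
  exact ⟨e x, by rw [MulEquiv.orderOf_eq, hx], hr.map e.toMonoidHom⟩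

/-- no element of order `r * s`, from the centralizer of the elements of order `r` -/
theorem no_mul {G : Type*} [Group G] [Finite G] {r s : ℕ} (hr : 0 < r) (hs : 0 < s)
    (h : ∀ x : G, orderOf x = r → ¬ s ∣ Nat.card (centralizer ({x} : Set G))) (z : G) : orderOf z ≠ r * s := by
  intro hz
  have h1 : orderOf (z ^ s) = r := by
    rw [orderOf_pow, hz, Nat.gcd_mul_left_left, Nat.mul_div_cancel _ hs]
  have h2 : orderOf (z ^ r) = s := by
    rw [orderOf_pow, hz, Nat.gcd_mul_right_left, Nat.mul_div_cancel_left _ hr]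
  apply h _ h1
  have h3 : z ^ r ∈ centralizer ({z ^ s} : Set G) := by
    rw [mem_centralizer_singleton_iff]
    exact (Commute.pow_pow_self z r s).eq
  have h4 := orderOf_dvd_natCard (⟨z ^ r, h3⟩ : centralizer ({z ^ s} : Set G))
  rwa [Subgroup.orderOf_mk, h2] at h4

end Cfsg.Agent.H311.OdmTools
end

-- part: H257/El/TopC
section
prune_inst 0x3010450064221000001800108200042020000000000000010000010208098841200008013a300602912088e06008004003000109420000000a000200400400000003268010740d0890000000a804080c00000000000000000000000000000000000000000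
set_option linter.all false
open scoped Cfsg.Agent.FastGrp

/-!
# TEAM ELUSIVE, sporadic groups: outer automorphisms of the top, conjugacy of involutions (helper257)
-/

set_option autoImplicit false

namespace Cfsg.Agent.H257.El

open Subgroup
open Cfsg.Agent.OrdDiv
open Cfsg.Agent.H278.El
open Cfsg.Agent.H396

universe u

namespace Top

variable {R : Type*} [Group R] [Finite R] {r s : ℕ} {O : Subgroup R} [O.Normal] {N : Subgroup (R ⧸ O)}

/-- a non-commutative `N` has trivial centralizer -/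
theorem centralizer_bot (h : Top R r O N) (hna : ¬ ∀ a b : N, a * b = b * a) :
    centralizer (N : Set (R ⧸ O)) = ⊥ := by
  have hN := h.normal
  have hsim := h.simple
  set C := centralizer (N : Set (R ⧸ O)) with hC
  have hCn : C.Normal := by rw [hC]; infer_instance
  refine h.bot C hCn fun hd => ?_
  have h1 : (C.subgroupOf N).Normal := inferInstance
  have h2 : C.subgroupOf N = ⊥ := by
    rcases hsim.eq_bot_or_eq_top_of_normal _ h1 with h2 | h2
    · exact h2
    · exfalso
      apply hna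
      intro a b
      have h3 : a ∈ C.subgroupOf N := by rw [h2]; trivial
      rw [mem_subgroupOf, hC, mem_centralizer_iff] at h3
      exact Subtype.ext (h3 b b.2).symm
  have h3 : C.relIndex N = Nat.card N := by
    rw [Subgroup.relIndex, h2, Subgroup.index_bot]
  have h4 : Nat.card N ∣ C.index := by
    rw [← h3]
    exact Subgroup.relIndex_dvd_index_of_normal C N
  apply h.sq'
  rw [← Subgroup.card_mul_index C, pow_two]
  exact Nat.mul_dvd_mul hd (h.dvd.trans h4)

theorem card_dvd_mulAut (h : Top R r O N) (hna : ¬ ∀ a b : N, a * b = b * a) :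
    Nat.card (R ⧸ O) ∣ Nat.card (MulAut N) := by
  have hN := h.normal
  let φ : (R ⧸ O) →* MulAut N := MulAut.conjNormal (H := N)
  refine Subgroup.card_dvd_of_injective φ ?_
  rw [injective_iff_map_eq_one]
  intro q hq
  have h1 : q ∈ centralizer (N : Set (R ⧸ O)) := by
    rw [mem_centralizer_iff]
    intro n hn
    have h2 : (φ q) ⟨n, hn⟩ = ⟨n, hn⟩ := by rw [hq]; rfl
    have h3 : q * n * q⁻¹ = n := congrArg Subtype.val h2
    calc n * q = (q * n * q⁻¹) * q := by rw [h3]
      _ = q * n := by group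
  rw [h.centralizer_bot hna, mem_bot] at h1
  exact h1

/-- the index of `N` divides the order of the outer automorphism group -/
theorem index_dvd_out (h : Top R r O N) (hna : ¬ ∀ a b : N, a * b = b * a) {o : ℕ}
    (ho : Nat.card (MulAut N) ∣ o * Nat.card N) : N.index ∣ o := by
  have h1 := (h.card_dvd_mulAut hna).trans ho
  rw [← Subgroup.card_mul_index N, mul_comm o] at h1
  exact Nat.dvd_of_mul_dvd_mul_left Nat.card_pos h1

end Top

/-- involutions whose product has odd order are conjugate -/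
theorem conj_of_odd {G : Type*} [Group G] {s t : G} (hs : s * s = 1) (ht : t * t = 1) {k : ℕ}
    (h : (s * t) ^ (2 * k + 1) = 1) : ∃ w : G, w * t * w⁻¹ = s := by
  refine ⟨(s * t) ^ (k + 1), ?_⟩
  have hs' : s⁻¹ = s := inv_eq_of_mul_eq_one_left hs
  have ht' : t⁻¹ = t := inv_eq_of_mul_eq_one_left ht
  have h1 : t * (s * t)⁻¹ * t⁻¹ = s * t := by
    rw [mul_inv_rev, hs', ht', ← mul_assoc, ht, one_mul]
  have h2 : t * ((s * t) ^ (k + 1))⁻¹ = (s * t) ^ (k + 1) * t := by
    have h3 := conj_pow (i := k + 1) (a := t) (b := (s * t)⁻¹)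
    rw [h1, inv_pow] at h3
    calc t * ((s * t) ^ (k + 1))⁻¹ = (t * ((s * t) ^ (k + 1))⁻¹ * t⁻¹) * t := by rw [inv_mul_cancel_right]
      _ = _ := by rw [← h3]
  rw [mul_assoc, h2, ← mul_assoc, ← pow_add, show k + 1 + (k + 1) = (2 * k + 1) + 1 by ring, pow_succ, h, one_mul,
    mul_assoc, ht, mul_one]

/-- if all involutions of `R / O` are conjugate and `|O|` is odd, all involutions of `R` are conjugate -/
theorem conj_of_quot {R : Type*} [Group R] [Finite R] (O : Subgroup R) [O.Normal] (hO : ¬ 2 ∣ Nat.card O)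
    (hq : ∀ a b : R ⧸ O, orderOf a = 2 → orderOf b = 2 → ∃ g, g * b * g⁻¹ = a) {a b : R} (ha : orderOf a = 2)
    (hb : orderOf b = 2) : ∃ g : R, g * b * g⁻¹ = a := by
  have key : ∀ c : R, orderOf c = 2 → orderOf (QuotientGroup.mk' O c) = 2 := by
    intro c hc
    have h1 : orderOf (QuotientGroup.mk' O c) ∣ 2 := by
      rw [← hc]
      exact orderOf_map_dvd _ _
    rcases (Nat.dvd_prime Nat.prime_two).1 h1 with h2 | h2
    · exfalso
      have h3 : c ∈ O := (QuotientGroup.eq_one_iff c).1 (orderOf_eq_one_iff.1 h2)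
      have h4 := Subgroup.orderOf_dvd_natCard O h3
      rw [hc] at h4
      exact hO h4
    · exact h2
  obtain ⟨q, hqq⟩ := hq _ _ (key a ha) (key b hb)
  obtain ⟨g, rfl⟩ := QuotientGroup.mk'_surjective O q
  have hsq : ∀ c : R, orderOf c = 2 → c * c = 1 := by
    intro c hc
    rw [← pow_two, ← hc, pow_orderOf_eq_one]
  have hb' : orderOf (g * b * g⁻¹) = 2 := by
    rw [← hb]
    exact (orderOf_injective (MulAut.conj g).toMonoidHom (MulAut.conj g).injective b)
  have hm : a * (g * b * g⁻¹) ∈ O := by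
    rw [← QuotientGroup.eq_one_iff (N := O)]
    change QuotientGroup.mk' O (a * (g * b * g⁻¹)) = 1
    rw [map_mul, map_mul, map_mul, map_inv, hqq, ← map_mul, hsq a ha, map_one]
  have hodd : ∃ k, (a * (g * b * g⁻¹)) ^ (2 * k + 1) = 1 := by
    have h1 := Subgroup.orderOf_dvd_natCard O hm
    have h2 : ¬ 2 ∣ orderOf (a * (g * b * g⁻¹)) := fun h => hO (h.trans h1)
    obtain ⟨k, hk⟩ := Nat.odd_iff.2 (by omega : orderOf (a * (g * b * g⁻¹)) % 2 = 1)
    exact ⟨k, by rw [← hk, pow_orderOf_eq_one]⟩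
  obtain ⟨k, hk⟩ := hodd
  obtain ⟨w, hw⟩ := conj_of_odd (hsq a ha) (hsq _ hb') hk
  refine ⟨w * g, ?_⟩
  rw [← hw]
  group

variable {T : Type u} [Group T] [Finite T]

/-- one class of involutions in `R`, two classes in `T` -/
theorem false_of_conj {R : Subgroup T} (hnd : ¬ Der T R) {s : ℕ} (hs : s.Prime)
    (hR : ∀ a b : R, orderOf a = s → orderOf b = s → ∃ g : R, g * b * g⁻¹ = a) {x y : T} (hx : orderOf x = s)
    (hy : orderOf y = s)
    (hxy : Nat.card (centralizer ({x} : Set T)) ≠ Nat.card (centralizer ({y} : Set T))) : False := by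
  obtain ⟨φ, hφ⟩ := exists_aut_of_not_der hnd x (by rw [hx]; exact hs)
  obtain ⟨ψ, hψ⟩ := exists_aut_of_not_der hnd y (by rw [hy]; exact hs)
  have hx' : orderOf (⟨φ x, hφ⟩ : R) = s := by
    rw [Subgroup.orderOf_mk, ← hx]
    exact (orderOf_injective φ.toMonoidHom φ.injective x)
  have hy' : orderOf (⟨ψ y, hψ⟩ : R) = s := by
    rw [Subgroup.orderOf_mk, ← hy]
    exact (orderOf_injective ψ.toMonoidHom ψ.injective y)
  obtain ⟨g, hg⟩ := hR _ _ hx' hy'
  have h1 : (g : T) * ψ y * (g : T)⁻¹ = φ x := congrArg Subtype.val hg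
  apply hxy
  rw [← card_cent_aut φ x, ← h1, ← card_cent_aut ψ y]
  exact card_cent_aut (MulAut.conj (g : T)) (ψ y)

/-- the Sylow `p`-subgroup of `N` is in the centralizer of an element of order `s` -/
theorem SitA.exists_cent {n : ℕ} {l : List (ℕ × ℕ)} {r : ℕ} {R : Subgroup T} (S : SitA T n l r R)
    {O : Subgroup R} [O.Normal] {N : Subgroup (R ⧸ O)} (h : Top R r O N) (hna : ¬ ∀ a b : N, a * b = b * a)
    {s p a : ℕ} (hs : s.Prime) (hp : p.Prime) (hsp : s ≠ p) (hsn : s ∣ n) (hsq : ¬ s ^ 2 ∣ n)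
    (hsN : ¬ s ∣ Nat.card N) (ha : p ^ a ∣ Nat.card N) (ha' : ¬ p ^ (a + 1) ∣ Nat.card N)
    (hm : ∀ b, 1 ≤ b → b ≤ a → p ^ b % s ≠ 1) :
    ∃ y : T, orderOf y = s ∧ p ^ a ∣ Nat.card (centralizer ({y} : Set T)) := by
  obtain ⟨y, hy, hd⟩ := h.exists_cent hna hs hp hsp (S.all s hs hsn) (fun h2 => hsq (h2.trans S.dvd_n)) hsN ha ha' hm
  refine ⟨y, by rw [Subgroup.orderOf_coe, hy], hd.trans ?_⟩
  let f : centralizer ({y} : Set R) →* centralizer ({(y : T)} : Set T) :=
    { toFun := fun g => ⟨g, mem_centralizer_singleton_iff.2 (congrArg Subtype.val (mem_centralizer_singleton_iff.1 g.2))⟩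
      map_one' := rfl
      map_mul' := fun _ _ => rfl }
  refine Subgroup.card_dvd_of_injective f fun a b hab => ?_
  apply Subtype.ext
  apply Subtype.ext
  exact congrArg (fun w : centralizer ({(y : T)} : Set T) => (w : T)) hab

end Cfsg.Agent.H257.El
end

-- part: H309/TT/No351
section
set_option linter.all false
open scoped Cfsg.Agent.FastGrp

/-!
# S4247: the Tits group has no subgroup of order 351 (helper309), abstract part

A group of order `351 = 27 * 13` without elements of order `39` has a normal subgroup of order `27` and the centre of it is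
centralized by the elements of order `13` unless it is the whole subgroup.
-/

set_option autoImplicit false

namespace Cfsg.Agent.H309.TT

open Subgroup

universe u

theorem pmul {G : Type*} [Group G] {x y : G} (hx : orderOf x = 13) (hy : orderOf y = 3) (h : x * y = y * x) :
    orderOf (x * y) = 39 := by
  have h1 := (show Commute x y from h).orderOf_mul_eq_mul_orderOf_of_coprime (by rw [hx, hy]; norm_num)
  rw [h1, hx, hy]

/-- **the abstract part** -/
theorem core {P : Type*} [Group P] [Finite P] (hP : Nat.card P = 351) (hno : ∀ g : P, orderOf g ≠ 39)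
    (hna : ∀ T : Subgroup P, Nat.card T = 27 → ∃ a ∈ T, ∃ b ∈ T, a * b ≠ b * a) : False := by
  have f13 : Fact (Nat.Prime 13) := ⟨by norm_num⟩
  have f3 : Fact (Nat.Prime 3) := ⟨by norm_num⟩
  obtain ⟨x, hx⟩ := exists_prime_orderOf_dvd_card' (G := P) 13 (by rw [hP]; norm_num)
  -- the centralizer of `x`
  have hC3 : ¬ 3 ∣ Nat.card (centralizer ({x} : Set P)) := by
    intro hd
    obtain ⟨y, hy⟩ := exists_prime_orderOf_dvd_card' (G := centralizer ({x} : Set P)) 3 hd
    refine hno (x * y) (pmul hx (by rw [Subgroup.orderOf_coe, hy]) ?_)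
    exact (mem_centralizer_singleton_iff.1 y.2).symm
  have hC : Nat.card (centralizer ({x} : Set P)) = 13 := by
    have h1 : Nat.card (centralizer ({x} : Set P)) ∣ 3 ^ 3 * 13 := by
      have := Subgroup.card_subgroup_dvd_card (centralizer ({x} : Set P))
      rwa [hP] at this
    have h2 : Nat.card (centralizer ({x} : Set P)) ∣ 13 :=
      Nat.Coprime.dvd_of_dvd_mul_left (Nat.Coprime.pow_right _ (Nat.coprime_comm.1
        ((Nat.Prime.coprime_iff_not_dvd (by norm_num)).2 hC3))) h1
    have h3 : 13 ∣ Nat.card (centralizer ({x} : Set P)) := by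
      have h4 := Subgroup.orderOf_dvd_natCard (centralizer ({x} : Set P)) (x := x) (mem_centralizer_singleton_iff.2 rfl)
      rwa [hx] at h4
    exact Nat.dvd_antisymm h2 h3
  have hN := (Cfsg.Agent.H257.El.card_norm_mod (r := 13) (by norm_num) (by rw [hP]; norm_num) (by rw [hP]; norm_num) hC).1
  rw [hP] at hN
  norm_num at hN
  have hZ : Nat.card (zpowers x) = 13 := by rw [Nat.card_zpowers, hx]
  obtain ⟨X, hX⟩ : ∃ X : Sylow 13 P, (X : Subgroup P) = zpowers x := by
    have hidx : ¬ 13 ∣ (zpowers x).index := by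
      intro hd
      have h2 := (zpowers x).card_mul_index
      rw [hZ, hP] at h2
      obtain ⟨c, hc⟩ := hd
      omega
    have hpg : IsPGroup 13 (zpowers x) := IsPGroup.of_card (n := 1) (by rw [hZ, pow_one])
    exact ⟨hpg.toSylow hidx, rfl⟩
  have hNX : normalizer ((X : Subgroup P) : Set P) = zpowers x := by
    rw [hX]
    refine (eq_of_le_of_card_ge le_normalizer ?_).symm
    rw [hZ, hN]
  have hNC : normalizer ((X : Subgroup P) : Set P) ≤ centralizer ((X : Subgroup P) : Set P) := by
    rw [hNX, hX]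
    intro g hg
    rw [mem_centralizer_iff]
    intro k hk
    obtain ⟨i, rfl⟩ := mem_zpowers_iff.1 hg
    obtain ⟨j, rfl⟩ := mem_zpowers_iff.1 hk
    rw [← zpow_add, ← zpow_add, add_comm]
  have hcomp := MonoidHom.ker_transferSylow_isComplement' X hNC
  set T := (MonoidHom.transferSylow X hNC).ker with hT
  have hTc : Nat.card T = 27 := by
    have h1 := hcomp.card_mul_card
    rw [hP, hX, hZ] at h1
    omega
  obtain ⟨a, ha, b, hb, hab⟩ := hna T hTc
  -- the centre of `T`
  set Z : Subgroup P := (center T).map T.subtype with hZdef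
  have hZn : Z.Normal := by
    have hTn : T.Normal := by
      rw [hT]
      infer_instance
    have : (center T).Characteristic := inferInstance
    rw [hZdef]
    infer_instance
  have hZc : Nat.card Z = Nat.card (center T) :=
    (Nat.card_congr ((center T).equivMapOfInjective T.subtype T.subtype_injective).toEquiv).symm
  have hTp : IsPGroup 3 T := IsPGroup.of_card (n := 3) (by rw [hTc]; norm_num)
  have hTnt : Nontrivial T := Finite.one_lt_card_iff_nontrivial.1 (by rw [hTc]; norm_num)
  have hZnt := hTp.center_nontrivial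
  have hZlt : Nat.card (center T) ≤ 9 := by
    have h1 : Nat.card (center T) ∣ 3 ^ 3 := by
      have := Subgroup.card_subgroup_dvd_card (center T)
      rwa [hTc] at this
    obtain ⟨k, hk, hk'⟩ := (Nat.dvd_prime_pow Nat.prime_three).1 h1
    rcases (show k = 3 ∨ k ≤ 2 by omega) with h3 | h3
    · exfalso
      subst h3
      have h4 : center T = ⊤ := eq_top_of_card_eq _ (by rw [hk', hTc]; norm_num)
      apply hab
      have h5 : (⟨a, ha⟩ : T) ∈ center T := by rw [h4]; trivial
      exact (congrArg Subtype.val (mem_center_iff.1 h5 ⟨b, hb⟩)).symm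
    · rw [hk']
      calc 3 ^ k ≤ 3 ^ 2 := Nat.pow_le_pow_right (by norm_num) h3
        _ = 9 := by norm_num
  -- `x` centralizes `Z`
  have hxZ : ∀ z ∈ Z, x * z = z * x := by
    let φ : P →* MulAut Z := MulAut.conjNormal
    have h1 : orderOf (MulAut.toPerm Z (φ x)) ∣ 13 := by
      rw [← hx]
      exact (orderOf_map_dvd (MulAut.toPerm Z) (φ x)).trans (orderOf_map_dvd φ x)
    have h2 : orderOf (MulAut.toPerm Z (φ x)) ∣ (Nat.card Z).factorial := by
      have h3 := orderOf_dvd_natCard (MulAut.toPerm Z (φ x))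
      rwa [Nat.card_perm] at h3
    have h3 : orderOf (MulAut.toPerm Z (φ x)) = 1 := by
      rcases (Nat.dvd_prime (by norm_num)).1 h1 with h4 | h4
      · exact h4
      · exfalso
        rw [h4] at h2
        have h5 := (Nat.Prime.dvd_factorial (by norm_num)).1 h2
        rw [hZc] at h5
        omega
    intro z hz
    have h4 : MulAut.toPerm Z (φ x) = 1 := orderOf_eq_one_iff.1 h3
    have h5 : MulAut.toPerm Z (φ x) ⟨z, hz⟩ = ⟨z, hz⟩ := by rw [h4]; rfl
    have h6 : x * z * x⁻¹ = z := congrArg Subtype.val h5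
    exact mul_inv_eq_iff_eq_mul.1 h6
  obtain ⟨z, hz1⟩ := exists_ne (1 : center T)
  have h3Z : 3 ∣ Nat.card (center T) := by
    have h1 : Nat.card (center T) ∣ 3 ^ 3 := by
      have := Subgroup.card_subgroup_dvd_card (center T)
      rwa [hTc] at this
    obtain ⟨k, hk, hk'⟩ := (Nat.dvd_prime_pow Nat.prime_three).1 h1
    rw [hk']
    refine dvd_pow_self 3 ?_
    rintro rfl
    rw [pow_zero] at hk'
    have := Finite.one_lt_card_iff_nontrivial.2 hZnt
    omega
  rw [← hZc] at h3Z
  obtain ⟨y, hy⟩ := exists_prime_orderOf_dvd_card' (G := Z) 3 h3Z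
  exact hno (x * y) (pmul hx (by rw [Subgroup.orderOf_coe, hy]) (hxZ y y.2))

/-- a Sylow 3-subgroup is not abelian -/
theorem nonab {G : Type*} [Group G] [Finite G] (D : H87.TitsAbs.Dat G) (hc : Nat.card G = 17971200) {T : Subgroup G}
    (hT : Nat.card T = 27) : ∃ a ∈ T, ∃ b ∈ T, a * b ≠ b * a := by
  have f3 : Fact (Nat.Prime 3) := ⟨by norm_num⟩
  have hidx : ∀ R : Subgroup G, Nat.card R = 27 → ¬ 3 ∣ R.index := by
    intro R hR hd
    have h2 := R.card_mul_index
    rw [hR, hc] at h2
    obtain ⟨c, hc⟩ := hd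
    omega
  let ST : Sylow 3 G := (IsPGroup.of_card (G := T) (n := 3) (by rw [hT]; norm_num)).toSylow (hidx T hT)
  let SR : Sylow 3 G := (IsPGroup.of_card (G := D.R) (n := 3) (by rw [D.card_R]; norm_num)).toSylow (hidx D.R D.card_R)
  obtain ⟨g, hg⟩ := MulAction.exists_smul_eq G SR ST
  have hmem : ∀ r ∈ D.R, g * r * g⁻¹ ∈ T := by
    intro r hr
    have h1 : g * r * g⁻¹ ∈ ((g • SR : Sylow 3 G) : Subgroup G) :=
      Subgroup.smul_mem_pointwise_smul r (MulAut.conj g) (SR : Subgroup G) hr
    rw [hg] at h1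
    exact h1
  have ht : D.t ∈ D.R := ⟨1, 0, 0, by simp [H87.TitsAbs.Dat.m]⟩
  have hs : D.s ∈ D.R := ⟨0, 1, 0, by simp [H87.TitsAbs.Dat.m]⟩
  refine ⟨_, hmem _ ht, _, hmem _ hs, fun h => ?_⟩
  have h1 : D.t * D.s = D.s * D.t := by
    have h2 : g * (D.t * D.s) * g⁻¹ = g * (D.s * D.t) * g⁻¹ := by
      calc _ = g * D.t * g⁻¹ * (g * D.s * g⁻¹) := by group
        _ = g * D.s * g⁻¹ * (g * D.t * g⁻¹) := h
        _ = _ := by group
    exact mul_left_cancel (mul_right_cancel h2)
  have h2 := D.ts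
  rw [h1] at h2
  have h3 : D.z = 1 := by
    have h4 : 1 * (D.s * D.t) = D.z * (D.s * D.t) := by rw [one_mul]; exact h2
    exact (mul_right_cancel h4).symm
  have h4 : D.m 0 0 1 = 1 := by simp [H87.TitsAbs.Dat.m, h3]
  have := D.m_eq_one h4
  omega

/-- **no subgroup of order 351** -/
theorem no_351_of {G : Type*} [Group G] [Finite G] (D : H87.TitsAbs.Dat G) (hc : Nat.card G = 17971200)
    (hno : ∀ g : G, orderOf g ≠ 39) (P : Subgroup G) : Nat.card P ≠ 351 := by
  intro hP
  refine core hP (fun g hg => hno g (by rw [Subgroup.orderOf_coe, hg])) fun T hT => ?_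
  have h1 : Nat.card (T.map P.subtype) = 27 := by
    rw [← hT]
    exact (Nat.card_congr (T.equivMapOfInjective P.subtype P.subtype_injective).toEquiv).symm
  obtain ⟨_, ⟨a, ha, rfl⟩, _, ⟨b, hb, rfl⟩, hab⟩ := nonab D hc h1
  exact ⟨a, ha, b, hb, fun h => hab (by rw [← map_mul, h, map_mul])⟩

end Cfsg.Agent.H309.TT
end

-- part: H455/Cov/Tool
section
set_option linter.all false
open scoped Cfsg.Agent.FastGrp

/-!
# S2499 (normal 2-coverings): criteria with primes (helper455)

* `Bad T r s` : no proper subgroup of `T` has order divisible by `r` and `s`;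
* `Miss T W` : every proper subgroup of `T` has order prime to one of the primes in `W`;
* `noTwo_of_miss` : `Bad T a w` for the `w ∈ W` and `Miss T W` give `NoTwo T`.
-/

set_option autoImplicit false

namespace Cfsg.Agent.H455.Cov

open Subgroup
open Cfsg.Agent.OrdDiv Cfsg.Agent.H278.Cov

universe u

variable {T : Type u} [Group T]

/-- no proper subgroup of `T` has order divisible by `r` and `s` -/
def Bad (T : Type u) [Group T] (r s : ℕ) : Prop :=
  ∀ R : Subgroup T, R ≠ ⊤ → r ∣ Nat.card R → ¬ s ∣ Nat.card R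

/-- every proper subgroup of `T` has order not divisible by one of the numbers in `W` -/
def Miss (T : Type u) [Group T] (W : List ℕ) : Prop :=
  ∀ R : Subgroup T, R ≠ ⊤ → ∃ w ∈ W, ¬ w ∣ Nat.card R

theorem Bad.symm {r s : ℕ} (h : Bad T r s) : Bad T s r := fun R hR h1 h2 => h R hR h2 h1

theorem Bad.miss {r s : ℕ} (h : Bad T r s) : Miss T [r, s] := by
  intro R hR
  by_cases h1 : r ∣ Nat.card R
  · exact ⟨s, by simp, h R hR h1⟩
  · exact ⟨r, by simp, h1⟩

theorem Miss.mono {W W' : List ℕ} (h : Miss T W) (hW : ∀ w ∈ W, w ∈ W') : Miss T W' := by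
  intro R hR
  obtain ⟨w, hw, hd⟩ := h R hR
  exact ⟨w, hW w hw, hd⟩

/-- an element of order divisible by `w` avoids a subgroup of order not divisible by `w` -/
theorem av_of_not_dvd {x : T} {w : ℕ} (hx : w ∣ orderOf x) {H : Subgroup T} (h : ¬ w ∣ Nat.card H) : Av x H :=
  av_of_card fun hd => h (hx.trans hd)

theorem inc_of_bad {x y : T} {r s : ℕ} (h : Bad T r s) (hx : r ∣ orderOf x) (hy : s ∣ orderOf y) : Inc x y := by
  intro H hH
  by_cases h1 : r ∣ Nat.card H
  · exact Or.inr (av_of_not_dvd hy (h H hH h1))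
  · exact Or.inl (av_of_not_dvd hx h1)

/-- **three pairwise incompatible classes** -/
theorem noTwo_of_three_bad {x y z : T} {a b c : ℕ} (hx : a ∣ orderOf x) (hy : b ∣ orderOf y) (hz : c ∣ orderOf z)
    (hab : Bad T a b) (hac : Bad T a c) (hbc : Bad T b c) : NoTwo T :=
  noTwo_of_three (inc_of_bad hab hx hy) (inc_of_bad hbc hy hz) (inc_of_bad hac hx hz)

variable [Finite T]

theorem exists_elt {p : ℕ} (hp : p.Prime) (h : p ∣ Nat.card T) : ∃ x : T, p ∣ orderOf x := by
  have : Fact p.Prime := ⟨hp⟩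
  obtain ⟨x, hx⟩ := exists_prime_orderOf_dvd_card' p h
  exact ⟨x, hx ▸ dvd_rfl⟩

/-- **the criterion** -/
theorem noTwo_of_miss {a : ℕ} {W : List ℕ} (ha : a.Prime) (haT : a ∣ Nat.card T)
    (hW : ∀ w ∈ W, w.Prime ∧ w ∣ Nat.card T) (h1 : ∀ w ∈ W, Bad T a w) (h2 : Miss T W) : NoTwo T := by
  intro H K hH hK
  obtain ⟨x, hx⟩ := exists_elt ha haT
  by_cases hHa : a ∣ Nat.card H
  · obtain ⟨w, hw, hd⟩ := h2 K hK
    obtain ⟨y, hy⟩ := exists_elt (hW w hw).1 (hW w hw).2
    exact ⟨y, av_of_not_dvd hy (h1 w hw H hH hHa), av_of_not_dvd hy hd⟩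
  · by_cases hKa : a ∣ Nat.card K
    · obtain ⟨w, hw, hd⟩ := h2 H hH
      obtain ⟨y, hy⟩ := exists_elt (hW w hw).1 (hW w hw).2
      exact ⟨y, av_of_not_dvd hy hd, av_of_not_dvd hy (h1 w hw K hK hKa)⟩
    · exact ⟨x, av_of_not_dvd hx hHa, av_of_not_dvd hx hKa⟩

/-- the engine: `Bad` -/
theorem bad_of_chk (tab : OrderTable.{u}) (known : H257.El.Known.{u}) {n : ℕ} {l : List (ℕ × ℕ)} {r p : ℕ}
    (hn : Nat.card T = n) (hr : r.Prime) (hp : p.Prime) (hno : ∀ z : T, orderOf z ≠ r * p)
    (hchk : H257.El.chkF n l r p [] = true) : Bad T r p := fun _ hR hrR hpR =>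
  H257.El.false_of_chk tab known hn hr hp hno (ws := []) (by simp) hchk hR hrR hpR (by simp)

/-- the engine: `Miss` -/
theorem miss_of_chk (tab : OrderTable.{u}) (known : H257.El.Known.{u}) {n : ℕ} {l : List (ℕ × ℕ)} {r p : ℕ}
    {ws : List ℕ} (hn : Nat.card T = n) (hr : r.Prime) (hp : p.Prime) (hno : ∀ z : T, orderOf z ≠ r * p)
    (hws : ∀ w ∈ ws, w.Prime ∧ ∀ z : T, orderOf z ≠ w * p)
    (hchk : H257.El.chkF n l r p ws = true) : Miss T (r :: p :: ws) := by
  intro R hR
  by_contra hcon
  push Not at hcon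
  exact H257.El.false_of_chk tab known hn hr hp hno hws hchk hR (hcon r (by simp)) (hcon p (by simp))
    fun w hw => hcon w (by simp [hw])

/-- the check for an isolated prime `a` and all the `w ∈ W` -/
def chkW (n : ℕ) (l : List (ℕ × ℕ)) (a : ℕ) (W : List ℕ) : Bool :=
  OrdDiv.valid l n && (n % a ^ 2 != 0) && (W.all fun w => H257.El.okPair n l a w) &&
    (H257.El.surv n l a []).all fun g => W.all fun w => ordN g % w != 0

/-- **a prime `a` and many primes `w`** -/
theorem bad_of_chkW (tab : OrderTable.{u}) (known : H257.El.Known.{u}) {n : ℕ} {l : List (ℕ × ℕ)} {a : ℕ}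
    {W : List ℕ} (hn : Nat.card T = n) (ha : a.Prime) (hW : ∀ w ∈ W, w.Prime)
    (hno : ∀ w ∈ W, ∀ z : T, orderOf z ≠ a * w) (hchk : chkW n l a W = true) : ∀ w ∈ W, Bad T a w := by
  intro w hw R hR haR hwR
  unfold chkW at hchk
  simp only [Bool.and_eq_true, List.all_eq_true] at hchk
  obtain ⟨⟨⟨h1, h2⟩, h3⟩, h4⟩ := hchk
  have S : H257.El.SitP T n l a R := H257.El.sitP_of tab known hn h1 ha h2 hR haR
  obtain ⟨O, hO, N, h⟩ := S.exists_top
  have h6 := S.dvd_simple h (hW w hw) (hno w hw) (h3 w hw) hwR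
  have haw : a ≠ w := by
    have h5 := h3 w hw
    unfold H257.El.okPair at h5
    rw [Bool.and_eq_true, Bool.and_eq_true, Bool.and_eq_true] at h5
    simpa using h5.1.1.1
  have hna : ¬ ∀ x y : N, x * y = y * x := by
    intro hc
    rw [h.card_of_comm hc] at h6
    exact haw ((Nat.prime_dvd_prime_iff_eq (hW w hw) h.prime).1 h6).symm
  obtain ⟨g, hg, -, hgc⟩ := S.exists_surv h hna [] (by simp)
  have h7 := h4 g hg w hw
  rw [← hgc, Nat.mod_eq_zero_of_dvd h6] at h7
  exact absurd h7 (by decide)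

end Cfsg.Agent.H455.Cov
end

-- part: H966/Der/Eng
section
set_option linter.all false
open scoped Cfsg.Agent.FastGrp

/-!
# One class of derangements (S3500): the engine for sporadic groups (helper966)

`T` a group of order `n`, `M` a proper subgroup, `r` a prime, `r ∥ |T|`, `r ∣ |M|`: `Top M r O N`
(helper257's engine), and lemmas on the core, the index and element orders.
-/

set_option autoImplicit false

namespace Cfsg.Agent.H966.Der

open Subgroup
open Cfsg.Agent.OrdDiv Cfsg.Agent.H257.El Cfsg.Agent.H439.Der Cfsg.Agent.H938.Sax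

universe u

/-! ### `Two` -/

section two

variable {T : Type*} [Group T] {M : Subgroup T}

/-- a missing prime and a missing element order -/
theorem two_of_prime_order [Finite T] {v b : ℕ} (hv : v.Prime) (h1 : v ∣ Nat.card T) (h2 : ¬ v ∣ Nat.card M)
    (hvb : v ≠ b) (hy : ∃ y : T, orderOf y = b) (hb : ∀ m ∈ M, orderOf m ≠ b) : Two T M := by
  have := Fact.mk hv
  obtain ⟨x, hx⟩ := exists_prime_orderOf_dvd_card' v h1
  obtain ⟨y, hy⟩ := hy
  refine ⟨x, y, not_mem_of_dvd h2 (by rw [hx]), fun φ hφ => hb _ hφ (by rw [orderOf_mulEquiv, hy]), fun φ hφ => hvb ?_⟩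
  rw [← hx, ← hy, ← hφ, orderOf_mulEquiv]

/-- two classes of subgroups of order `s`, and cyclic Sylow `s`-subgroups of `M` -/
theorem miss_or [Finite T] {s : ℕ} [Fact s.Prime] (hcyc : ∀ P : Sylow s M, IsCyclic P)
    {x y : T} (hx : orderOf x = s) (hy : orderOf y = s) (hxy : ∀ φ : T ≃* T, φ y ∉ zpowers x) :
    (∀ φ : T ≃* T, φ x ∉ M) ∨ (∀ φ : T ≃* T, φ y ∉ M) := by
  by_contra hcon
  push Not at hcon
  obtain ⟨⟨a, ha⟩, ⟨b, hb⟩⟩ := hcon
  have hx' : orderOf (⟨a x, ha⟩ : M) = s := by rw [Subgroup.orderOf_mk, orderOf_mulEquiv, hx]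
  have hy' : orderOf (⟨b y, hb⟩ : M) = s := by rw [Subgroup.orderOf_mk, orderOf_mulEquiv, hy]
  obtain ⟨g, hg⟩ := conj_of_cyclic hcyc hx' hy'
  obtain ⟨j, hj⟩ := mem_zpowers_iff.1 hg
  have h1 : (a x) ^ j = (g : T) * (b y) * (g : T)⁻¹ := congrArg Subtype.val hj
  apply hxy ((b.trans (MulAut.conj (g : T))).trans a.symm)
  refine mem_zpowers_iff.2 ⟨j, ?_⟩
  apply a.injective
  rw [map_zpow, h1]
  simp

/-- two classes of subgroups of order `s`, `s ^ 2 ∤ |M|`, and a missing prime -/
theorem two_of_classes [Finite T] {v s : ℕ} (hv : v.Prime) (h1 : v ∣ Nat.card T) (h2 : ¬ v ∣ Nat.card M)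
    (hs : s.Prime) (hvs : v ≠ s) (hcyc : ∀ P : Sylow s M, IsCyclic P) {x y : T} (hx : orderOf x = s)
    (hy : orderOf y = s) (hxy : ∀ φ : T ≃* T, φ y ∉ zpowers x) : Two T M := by
  have := Fact.mk hv
  have := Fact.mk hs
  obtain ⟨w, hw⟩ := exists_prime_orderOf_dvd_card' v h1
  have key : ∀ z : T, orderOf z = s → (∀ φ : T ≃* T, φ z ∉ M) → Two T M := fun z hz hm =>
    ⟨w, z, not_mem_of_dvd h2 (by rw [hw]), hm, fun φ hφ => hvs (by rw [← hw, ← hz, ← hφ, orderOf_mulEquiv])⟩
  rcases miss_or hcyc hx hy hxy with h | h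
  · exact key x hx h
  · exact key y hy h

end two

/-! ### orders in quotients and normal subgroups -/

theorem orderOf_mk_of_coprime {R : Type*} [Group R] (O : Subgroup R) [O.Normal] {z : R}
    (h : Nat.Coprime (orderOf z) (Nat.card O)) : orderOf (QuotientGroup.mk' O z) = orderOf z := by
  apply Nat.dvd_antisymm (orderOf_map_dvd _ _)
  rw [orderOf_dvd_iff_pow_eq_one]
  have h1 : z ^ orderOf (QuotientGroup.mk' O z) ∈ O := by
    rw [← QuotientGroup.eq_one_iff]
    have h2 := pow_orderOf_eq_one (QuotientGroup.mk' O z)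
    rw [← map_pow] at h2
    exact h2
  rw [← orderOf_eq_one_iff]
  have h3 : orderOf (z ^ orderOf (QuotientGroup.mk' O z)) ∣ Nat.card O := Subgroup.orderOf_dvd_natCard _ h1
  have h4 : orderOf (z ^ orderOf (QuotientGroup.mk' O z)) ∣ orderOf z := orderOf_pow_dvd _
  exact Nat.eq_one_of_dvd_coprimes h h4 h3

theorem mem_of_coprime_index {Q : Type*} [Group Q] (N : Subgroup Q) [N.Normal] {z : Q}
    (h : Nat.Coprime (orderOf z) N.index) : z ∈ N := by
  rw [← QuotientGroup.eq_one_iff, ← orderOf_eq_one_iff]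
  have h1 : orderOf (QuotientGroup.mk' N z) ∣ orderOf z := orderOf_map_dvd _ _
  have h2 : orderOf (QuotientGroup.mk' N z) ∣ N.index := orderOf_dvd_natCard _
  exact Nat.eq_one_of_dvd_coprimes h h1 h2

/-- the number of fixed points -/
theorem card_mod_of_normalizer {H : Type*} [Group H] [Finite H] {r : ℕ} (hr : r.Prime) {y : H} (hy : orderOf y = r)
    {P : Subgroup H} (hyP : y ∈ normalizer (P : Set H)) :
    Nat.card P ≡ Nat.card ↥(P ⊓ centralizer ({y} : Set H)) [MOD r] := by
  have hconj : ∀ w : H, w ∈ P ↔ y * w * y⁻¹ ∈ P := mem_normalizer_iff.1 hyP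
  let f : Equiv.Perm P :=
    { toFun := fun w => ⟨y * w * y⁻¹, (hconj w).1 w.2⟩
      invFun := fun w => ⟨y⁻¹ * w * y, (hconj _).2 (by simp [mul_assoc])⟩
      left_inv := fun w => Subtype.ext (by simp [mul_assoc])
      right_inv := fun w => Subtype.ext (by simp [mul_assoc]) }
  have hfk : ∀ k : ℕ, ∀ w : P, (((f ^ k) w : P) : H) = y ^ k * w * (y ^ k)⁻¹ := by
    intro k
    induction k with
    | zero => intro w; simp
    | succ k ih =>
      intro w
      rw [pow_succ', Equiv.Perm.mul_apply]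
      show y * ((f ^ k) w : P) * y⁻¹ = _
      rw [ih, pow_succ']
      group
  have hf : f ^ r = 1 := by
    ext w
    rw [hfk, ← hy, pow_orderOf_eq_one]
    simp
  have h6 := Cfsg.Agent.H361.SelfCent.card_modEq_of_perm hr f hf
  have e : {a : P // f a = a} ≃ ↥(P ⊓ centralizer ({y} : Set H)) :=
    { toFun := fun a => ⟨a.1, a.1.2, by
        have h9 : y * (a.1 : H) * y⁻¹ = a.1 := congrArg Subtype.val a.2
        show (a.1 : H) ∈ centralizer ({y} : Set H)
        rw [mem_centralizer_singleton_iff]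
        calc (a.1 : H) * y = (y * (a.1 : H) * y⁻¹) * y := by rw [h9]
          _ = y * (a.1 : H) := by group⟩
      invFun := fun a => ⟨⟨a.1, a.2.1⟩, Subtype.ext (by
        have h9 := mem_centralizer_singleton_iff.1 a.2.2
        show y * (a : H) * y⁻¹ = a
        rw [← h9]; group)⟩
      left_inv := fun a => rfl
      right_inv := fun a => rfl }
  rw [Nat.card_congr e] at h6
  exact h6

/-! ### the top -/

section top

variable {R : Type*} [Group R] [Finite R] {r : ℕ} {O : Subgroup R} [O.Normal] {N : Subgroup (R ⧸ O)} {s : ℕ}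

/-- `Top.not_dvd_core` with the powers of `s` dividing the order of the core -/
theorem not_dvd_core' (h : Top R r O N) (hs : s.Prime) (hrs : r ≠ s) (hno : ∀ z : R, orderOf z ≠ r * s)
    (hord : ∀ b, 1 ≤ b → s ^ b ∣ Nat.card O → s ^ b % r ≠ 1) : ¬ s ∣ Nat.card O := by
  intro hsO
  have hr' : Fact r.Prime := ⟨h.prime⟩
  have hs' : Fact s.Prime := ⟨hs⟩
  obtain ⟨S⟩ : Nonempty (Sylow s O) := inferInstance
  obtain ⟨y, hy, hyS⟩ := exists_normalizer h.dvdR O h.core S
  set P : Subgroup R := (S : Subgroup O).map O.subtype with hP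
  have hPp : IsPGroup s P := S.isPGroup'.map _
  obtain ⟨b, hb⟩ := IsPGroup.iff_card.1 hPp
  have hPc : Nat.card P = Nat.card S := by
    rw [hP, Subgroup.card_map_of_injective O.subtype_injective]
  have hb1 : 1 ≤ b := by
    by_contra hb0
    have : b = 0 := by omega
    rw [this, pow_zero] at hb
    have h3 := S.card_eq_multiplicity
    rw [← hPc, hb] at h3
    have h4 : 1 ≤ (Nat.card O).factorization s := by
      have := (hs.pow_dvd_iff_le_factorization (k := 1) (n := Nat.card O) Nat.card_pos.ne').1 (by rwa [pow_one])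
      exact this
    have h5 := Nat.one_lt_pow (n := (Nat.card O).factorization s) (by omega) hs.one_lt
    omega
  have h1 := hord b hb1 (by rw [← hb, hPc]; exact Subgroup.card_subgroup_dvd_card _)
  obtain ⟨w, -, hw, hyw⟩ := exists_comm_of_normalizer h.prime hs hy hPp hyS (by rw [hb]; exact h1)
  exact hno _ (orderOf_mul_of_comm h.prime hs hrs hy hw hyw)

/-- the centralizer of a non-commutative `N` is trivial -/
theorem centralizer_top (h : Top R r O N) (hna : ¬ ∀ a b : N, a * b = b * a) :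
    centralizer (N : Set (R ⧸ O)) = ⊥ := by
  have hN := h.normal
  have hsim := h.simple
  apply h.bot _ inferInstance
  intro hd
  have hinf : N ⊓ centralizer (N : Set (R ⧸ O)) = ⊥ := by
    have hz : (N ⊓ centralizer (N : Set (R ⧸ O))).subgroupOf N = ⊥ := by
      have hn : ((N ⊓ centralizer (N : Set (R ⧸ O))).subgroupOf N).Normal := inferInstance
      rcases hsim.eq_bot_or_eq_top_of_normal _ hn with h1 | h1
      · exact h1
      · exfalso
        apply hna
        intro a b
        have h2 : a ∈ (N ⊓ centralizer (N : Set (R ⧸ O))).subgroupOf N := by rw [h1]; trivial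
        have h3 := (mem_centralizer_iff.1 (mem_subgroupOf.1 h2).2) b b.2
        exact Subtype.ext h3.symm
    rw [eq_bot_iff]
    intro x hx
    have h3 : (⟨x, hx.1⟩ : N) ∈ (N ⊓ centralizer (N : Set (R ⧸ O))).subgroupOf N := by
      rw [mem_subgroupOf]; exact hx
    rw [hz, mem_bot] at h3
    rw [mem_bot]
    exact congrArg Subtype.val h3
  apply h.sq'
  have h4 : Nat.card N * Nat.card (centralizer (N : Set (R ⧸ O))) ∣ Nat.card (R ⧸ O) := by
    have h5 : N.relIndex (N ⊔ centralizer (N : Set (R ⧸ O))) =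
        Nat.card (centralizer (N : Set (R ⧸ O))) := by
      rw [Subgroup.relIndex_sup_left, ← Subgroup.inf_relIndex_right, hinf, Subgroup.relIndex_bot_left]
    have h6 : Nat.card N * N.relIndex (N ⊔ centralizer (N : Set (R ⧸ O))) =
        Nat.card ↥(N ⊔ centralizer (N : Set (R ⧸ O))) := by
      have h7 := Subgroup.card_mul_index (N.subgroupOf (N ⊔ centralizer (N : Set (R ⧸ O))))
      rwa [Nat.card_congr (Subgroup.subgroupOfEquivOfLe le_sup_left).toEquiv] at h7
    rw [← h5, h6]
    exact Subgroup.card_subgroup_dvd_card _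
  rw [pow_two]
  exact (Nat.mul_dvd_mul h.dvd hd).trans h4

end top

/-! ### the situation -/

/-- a proper subgroup `M` of order divisible by `r`, `r ∥ |T|` -/
structure Sit (T : Type u) [Group T] (n : ℕ) (l : List (ℕ × ℕ)) (r : ℕ) (M : Subgroup T) : Prop where
  tab : OrderTable.{u}
  known : Known.{u}
  card : Nat.card T = n
  valid : valid l n = true
  prime : r.Prime
  sq : ¬ r ^ 2 ∣ n
  dvd : r ∣ Nat.card M
  ne : M ≠ ⊤

namespace Sit

variable {T : Type u} [Group T] [Finite T] {n : ℕ} {l : List (ℕ × ℕ)} {r : ℕ} {M : Subgroup T}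

omit [Finite T] in
theorem dvd_n (S : Sit T n l r M) : Nat.card M ∣ n := by
  rw [← S.card]
  exact Subgroup.card_subgroup_dvd_card M

omit [Finite T] in
theorem sqM (S : Sit T n l r M) : ¬ r ^ 2 ∣ Nat.card M := fun h => S.sq (h.trans S.dvd_n)

theorem card_lt (S : Sit T n l r M) : Nat.card M < n := by
  rw [← S.card]
  refine lt_of_le_of_ne (Nat.le_of_dvd Nat.card_pos (Subgroup.card_subgroup_dvd_card M)) fun h => S.ne ?_
  exact Subgroup.eq_top_of_card_eq M h

theorem exists_top (S : Sit T n l r M) :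
    ∃ (O : Subgroup M) (_ : O.Normal) (N : Subgroup (M ⧸ O)), Top M r O N :=
  Cfsg.Agent.H257.El.exists_top S.prime S.dvd S.sqM

variable {O : Subgroup M} [O.Normal] {N : Subgroup (M ⧸ O)}

/-- `|O| |N| |Q : N|` divides `n` -/
theorem mul_dvd (S : Sit T n l r M) : Nat.card O * (Nat.card N * N.index) ∣ n := by
  rw [Subgroup.card_mul_index N, mul_comm, card_quot_mul O]
  exact S.dvd_n

/-- the primes not adjacent to `r` divide the order of the simple group at the top -/
theorem dvd_simple (S : Sit T n l r M) (h : Top M r O N) {s : ℕ} (hs : s.Prime)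
    (hno : ∀ z : T, orderOf z ≠ r * s) (hok : okPair n l r s = true) (hsM : s ∣ Nat.card M) : s ∣ Nat.card N := by
  unfold okPair at hok
  rw [Bool.and_eq_true, Bool.and_eq_true, Bool.and_eq_true] at hok
  obtain ⟨⟨⟨h1, h2⟩, h3⟩, h4⟩ := hok
  have h1' : r ≠ s := by simpa using h1
  have h2' : ¬ s ∣ r - 1 := by
    intro hd
    rw [Nat.mod_eq_zero_of_dvd hd] at h2
    exact absurd h2 (by decide)
  exact h.dvd_simple hs h1' (Cfsg.Agent.H257.El.Sit.noR hno)
    (fun _ hb hd => okPow_spec S.valid h4 hs hb (hd.trans S.dvd_n)) h2' hsM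

/-- the powers of the primes not adjacent to `r` -/
theorem pow_dvd (S : Sit T n l r M) (h : Top M r O N) {s k : ℕ} (hs : s.Prime)
    (hno : ∀ z : T, orderOf z ≠ r * s) (hok : okPair n l r s = true) (hk : s ^ k ∣ Nat.card M) :
    s ^ k ∣ Nat.card N := by
  unfold okPair at hok
  rw [Bool.and_eq_true, Bool.and_eq_true, Bool.and_eq_true] at hok
  obtain ⟨⟨⟨h1, h2⟩, h3⟩, h4⟩ := hok
  have h1' : r ≠ s := by simpa using h1
  have h2' : ¬ s ∣ r - 1 := by
    intro hd
    rw [Nat.mod_eq_zero_of_dvd hd] at h2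
    exact absurd h2 (by decide)
  exact h.pow_dvd_iff hs h1' (Cfsg.Agent.H257.El.Sit.noR hno)
    (fun _ hb hd => okPow_spec S.valid h4 hs hb (hd.trans S.dvd_n)) h2' hk

/-- a non-commutative `N` is in the list -/
theorem exists_surv (S : Sit T n l r M) (h : Top M r O N) (hna : ¬ ∀ a b : N, a * b = b * a) (ss : List ℕ)
    (hss : ∀ s ∈ ss, s ∣ Nat.card N) : ∃ g ∈ surv n l r ss, Real g N ∧ Nat.card N = ordN g := by
  have hsim := h.simple
  have hNR : Nat.card N ∣ Nat.card M := by
    refine (Subgroup.card_subgroup_dvd_card N).trans ?_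
    rw [← card_quot_mul O]
    exact dvd_mul_right _ _
  have hNn : Nat.card N ∣ n := hNR.trans S.dvd_n
  obtain ⟨g, hg, hr, hc⟩ := exists_good S.tab (S.known N) hna S.valid hNn
  refine ⟨g, List.mem_filter.2 ⟨hg, ?_⟩, hr, hc⟩
  unfold okG
  rw [Bool.and_eq_true, Bool.and_eq_true, List.all_eq_true]
  refine ⟨⟨?_, ?_⟩, fun s hs => ?_⟩
  · rw [← hc, Nat.mod_eq_zero_of_dvd h.dvd]; rfl
  · rw [← hc]
    have h1 : Nat.card N ≤ Nat.card M := Nat.le_of_dvd Nat.card_pos hNR
    have h2 := S.card_lt
    have h3 : Nat.card N ≠ n := by omega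
    simpa using h3
  · rw [← hc, Nat.mod_eq_zero_of_dvd (hss s hs)]; rfl

/-- the core: numeric condition with the order of `N` known -/
theorem not_dvd_core (S : Sit T n l r M) (h : Top M r O N) {s m k : ℕ} (hs : s.Prime) (hrs : r ≠ s)
    (hno : ∀ z : T, orderOf z ≠ r * s) (hm : Nat.card N * m = n) (hk : ¬ s ^ (k + 1) ∣ m)
    (hord : ∀ b < k, s ^ (b + 1) % r ≠ 1) : ¬ s ∣ Nat.card O := by
  refine not_dvd_core' h hs hrs (Cfsg.Agent.H257.El.Sit.noR hno) fun b hb hd => ?_
  have h1 : Nat.card O ∣ m := by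
    have h2 := S.mul_dvd (O := O) (N := N)
    rw [← hm] at h2
    have h3 : Nat.card N * Nat.card O ∣ Nat.card N * m := by
      refine dvd_trans ?_ h2
      exact ⟨N.index, by ring⟩
    exact Nat.dvd_of_mul_dvd_mul_left Nat.card_pos h3
  have h4 : b ≤ k := by
    by_contra hc
    exact hk ((pow_dvd_pow s (by omega)).trans (hd.trans h1))
  obtain ⟨b', rfl⟩ : ∃ b', b = b' + 1 := ⟨b - 1, by omega⟩
  exact hord b' (by omega)

/-- the order of the core divides `n / |N|` -/
theorem core_dvd (S : Sit T n l r M) {m : ℕ} (hm : Nat.card N * m = n) : Nat.card O ∣ m := by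
  have h2 := S.mul_dvd (O := O) (N := N)
  rw [← hm] at h2
  have h3 : Nat.card N * Nat.card O ∣ Nat.card N * m := by
    refine dvd_trans ?_ h2
    exact ⟨N.index, by ring⟩
  exact Nat.dvd_of_mul_dvd_mul_left Nat.card_pos h3

/-- the index divides `n / |N|` -/
theorem index_dvd' (S : Sit T n l r M) {m : ℕ} (hm : Nat.card N * m = n) : N.index ∣ m := by
  have h2 := S.mul_dvd (O := O) (N := N)
  rw [← hm] at h2
  have h3 : Nat.card N * N.index ∣ Nat.card N * m := (dvd_mul_left _ _).trans h2
  exact Nat.dvd_of_mul_dvd_mul_left Nat.card_pos h3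

omit [Finite T] in
/-- an element of `M` of order prime to `|O|` and to the index of `N` -/
theorem exists_of_coprime {z : T} (hz : z ∈ M) (h1 : Nat.Coprime (orderOf z) (Nat.card O)) (hN : N.Normal)
    (h2 : Nat.Coprime (orderOf z) N.index) : ∃ w : N, orderOf w = orderOf z := by
  have h3 : orderOf (⟨z, hz⟩ : M) = orderOf z := Subgroup.orderOf_mk z hz
  have h4 := orderOf_mk_of_coprime O (z := (⟨z, hz⟩ : M)) (by rw [h3]; exact h1)
  have h5 := mem_of_coprime_index N (z := QuotientGroup.mk' O (⟨z, hz⟩ : M)) (by rw [h4, h3]; exact h2)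
  exact ⟨⟨_, h5⟩, by rw [Subgroup.orderOf_mk, h4, h3]⟩

end Sit

end Cfsg.Agent.H966.Der
end

-- part: H183/Der/Eng
section
set_option linter.all false
open scoped Cfsg.Agent.FastGrp

/-!
# S3500, sporadic rows: tools (helper183)

* `not_SC_num` : `v ∥ |T|`, `o * ((|T| / v) % v) < v - 1`, `|Out T| ≤ o` : not `SC T v`
* `false_of_pair` : a proper subgroup `R` of `T` is not divisible by both `r` and `s` (`chkPair`)
* `false_of_na` : the same for two primes not adjacent to `2`, if `R` has an element of order `4`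
-/

set_option autoImplicit false

namespace Cfsg.Agent.H183.Der

open Subgroup
open Cfsg.Agent.OrdDiv Cfsg.Agent.H257.El Cfsg.Agent.H439.Der

universe u

theorem not_SC_num {T : Type*} [Group T] [Finite T] {n v o : ℕ} (hn : Nat.card T = n) (hv : v.Prime)
    (hd : v ∣ n) (h2 : ¬ v ^ 2 ∣ n) (hO : Nat.card (Cfsg.Out T) ≤ o) (h : o * ((n / v) % v) < v - 1) : ¬ SC T v := by
  intro hs
  have hfv := Fact.mk hv
  obtain ⟨x, hx⟩ := exists_prime_orderOf_dvd_card' (G := T) v (by rw [hn]; exact hd)
  have hCp : Nat.card (centralizer ({x} : Set T)) = v := by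
    have h1 := Nat.eq_prime_pow_of_unique_prime_dvd (p := v) (n := Nat.card (centralizer ({x} : Set T)))
      Nat.card_pos.ne' (by
        intro w hw hwC
        by_contra hwv
        have := Fact.mk hw
        obtain ⟨⟨y, hyC⟩, hy⟩ := exists_prime_orderOf_dvd_card' (G := centralizer ({x} : Set T)) w hwC
        rw [Subgroup.orderOf_mk] at hy
        exact not_SC_of_commute hv hw (Ne.symm hwv) hx hy (mem_centralizer_singleton_iff.1 hyC).symm hs)
    generalize (Nat.card (centralizer ({x} : Set T))).primeFactorsList.length = k at h1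
    have h3 : v ∣ Nat.card (centralizer ({x} : Set T)) := by
      rw [← hx]
      exact Subgroup.orderOf_dvd_natCard _ (mem_centralizer_singleton_iff.2 rfl)
    have h4 : Nat.card (centralizer ({x} : Set T)) ∣ n := by
      rw [← hn]
      exact Subgroup.card_subgroup_dvd_card _
    have h5 : k ≠ 0 := by
      rintro rfl
      rw [h1, pow_zero] at h3
      exact hv.one_lt.ne' (Nat.dvd_one.1 h3)
    have h6 : k < 2 := by
      by_contra hk
      exact h2 ((pow_dvd_pow v (by omega)).trans (h1 ▸ h4))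
    have h7 : k = 1 := by omega
    rw [h1, h7, pow_one]
  have hN := card_conjPow_mul x
  rw [hCp] at hN
  have hP : Nat.card (zpowers x) = v ^ (Nat.card T).factorization v := by
    rw [Nat.card_zpowers, hx, hn]
    have h1 : n.factorization v = 1 := by
      have hn0 : n ≠ 0 := by rw [← hn]; exact Nat.card_pos.ne'
      apply le_antisymm
      · by_contra hc
        exact h2 ((hv.pow_dvd_iff_le_factorization hn0).2 (by omega))
      · exact (hv.dvd_iff_one_le_factorization hn0).1 hd
    rw [h1, pow_one]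
  have h3 := card_sylow_modEq_one v T
  rw [(Sylow.ofCard (zpowers x) hP).card_eq_index_normalizer] at h3
  have h4 : ((Sylow.ofCard (zpowers x) hP : Sylow v T) : Set T) = (zpowers x : Set T) := rfl
  rw [h4] at h3
  have h5 := Subgroup.card_mul_index (normalizer (zpowers x : Set T))
  rw [hn, ← hN] at h5
  set k := Nat.card (conjPow x) with hk
  set i := (normalizer (zpowers x : Set T)).index with hi
  have h6 : n / v = k * i := by
    rw [← h5]
    rw [show k * v * i = v * (k * i) by ring, Nat.mul_div_cancel_left _ hv.pos]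
  have h7 : (n / v) % v = k % v := by
    rw [h6]
    have : k * i ≡ k * 1 [MOD v] := h3.mul_left k
    rw [mul_one] at this
    exact this
  have h8 : k < v := by
    have h9 : conjPow x ⊆ (zpowers x : Set T) \ {1} := by
      rintro y ⟨hy, g, rfl⟩
      refine ⟨hy, fun h1 => ?_⟩
      rw [Set.mem_singleton_iff] at h1
      have h10 : x = 1 := by
        have := congrArg (fun w => g⁻¹ * w * g) h1
        simpa [mul_assoc] using this
      rw [h10, orderOf_one] at hx
      exact hv.one_lt.ne hx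
    have h10 : k ≤ Nat.card ((zpowers x : Set T) \ {1} : Set T) :=
      Nat.card_mono (Set.toFinite _) h9
    have h11 : Nat.card ((zpowers x : Set T) \ {1} : Set T) < Nat.card (zpowers x : Set T) := by
      rw [Nat.card_coe_set_eq, Nat.card_coe_set_eq]
      exact Set.ncard_lt_ncard ⟨Set.sdiff_subset, fun hc => (hc (one_mem (zpowers x))).2 rfl⟩ (Set.toFinite _)
    have h12 : Nat.card (zpowers x : Set T) = v := by
      rw [← hx]
      exact Nat.card_zpowers x
    omega
  rw [h7, Nat.mod_eq_of_lt h8] at h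
  have h9 := hs.sub_one_le hv hx
  rw [← hk] at h9
  have h10 := Nat.mul_le_mul_right k hO
  omega

section eng

variable {T : Type u} [Group T] [Finite T] {n : ℕ} {l : List (ℕ × ℕ)} {r : ℕ} {R : Subgroup T}

omit [Finite T] in
theorem dvd_n (hn : Nat.card T = n) : Nat.card R ∣ n := by
  rw [← hn]
  exact Subgroup.card_subgroup_dvd_card R

theorem card_lt (hn : Nat.card T = n) (hR : R ≠ ⊤) : Nat.card R < n := by
  rw [← hn]
  refine lt_of_le_of_ne (Nat.le_of_dvd Nat.card_pos (Subgroup.card_subgroup_dvd_card R)) fun h => hR ?_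
  exact Subgroup.eq_top_of_card_eq R h

omit [Finite T] in
theorem noR {k : ℕ} (hno : ∀ z : T, orderOf z ≠ k) (z : R) : orderOf z ≠ k := by
  rw [← Subgroup.orderOf_coe]
  exact hno z

/-- a non-commutative `N` is in the list -/
theorem exists_surv (tab : OrderTable.{u}) (known : Known.{u}) (hn : Nat.card T = n) (hv : OrdDiv.valid l n = true)
    (hR : R ≠ ⊤) {O : Subgroup R} [O.Normal] {N : Subgroup (R ⧸ O)} (h : Top R r O N)
    (hna : ¬ ∀ a b : N, a * b = b * a) (ss : List ℕ)
    (hss : ∀ s ∈ ss, s ∣ Nat.card N) : ∃ g ∈ surv n l r ss, Real g N ∧ Nat.card N = ordN g := by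
  have hsim := h.simple
  have hNR : Nat.card N ∣ Nat.card R := by
    refine (Subgroup.card_subgroup_dvd_card N).trans ?_
    rw [← card_quot_mul O]
    exact dvd_mul_right _ _
  have hNn : Nat.card N ∣ n := hNR.trans (dvd_n hn)
  obtain ⟨g, hg, hr, hc⟩ := exists_good tab (known N) hna hv hNn
  refine ⟨g, List.mem_filter.2 ⟨hg, ?_⟩, hr, hc⟩
  unfold okG
  rw [Bool.and_eq_true, Bool.and_eq_true, List.all_eq_true]
  refine ⟨⟨?_, ?_⟩, fun s hs => ?_⟩
  · rw [← hc, Nat.mod_eq_zero_of_dvd h.dvd]; rfl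
  · rw [← hc]
    have h1 : Nat.card N ≤ Nat.card R := Nat.le_of_dvd Nat.card_pos hNR
    have h2 := card_lt hn hR
    have h3 : Nat.card N ≠ n := by omega
    simpa using h3
  · rw [← hc, Nat.mod_eq_zero_of_dvd (hss s hs)]; rfl

/-- **one pair of non-adjacent primes** -/
theorem false_of_pair (tab : OrderTable.{u}) (known : Known.{u}) {s : ℕ}
    (hn : Nat.card T = n) (hr : r.Prime) (hs : s.Prime) (hno : ∀ z : T, orderOf z ≠ r * s)
    (hchk : chkPair n l r s = true) (hR : R ≠ ⊤) (hrR : r ∣ Nat.card R) (hsR : s ∣ Nat.card R) : False := by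
  unfold chkPair at hchk
  rw [Bool.and_eq_true, Bool.and_eq_true, Bool.and_eq_true, Bool.and_eq_true] at hchk
  obtain ⟨⟨⟨⟨h1, h2⟩, h3⟩, h4⟩, h5⟩ := hchk
  have hsq : ¬ r ^ 2 ∣ Nat.card R := by
    intro h
    rw [Nat.mod_eq_zero_of_dvd (h.trans (dvd_n hn))] at h3
    exact absurd h3 (by decide)
  obtain ⟨O, hO, N, h⟩ := H257.El.exists_top hr hrR hsq
  unfold okPair at h4
  rw [Bool.and_eq_true, Bool.and_eq_true, Bool.and_eq_true] at h4
  obtain ⟨⟨⟨k1, k2⟩, k3⟩, k4⟩ := h4
  have hrs : r ≠ s := by simpa using k1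
  have k2' : ¬ s ∣ r - 1 := by
    intro hd
    rw [Nat.mod_eq_zero_of_dvd hd] at k2
    exact absurd k2 (by decide)
  have h6 : s ∣ Nat.card N :=
    h.dvd_simple hs hrs (noR hno) (fun _ hb hd => okPow_spec h1 k4 hs hb (hd.trans (dvd_n hn))) k2' hsR
  obtain ⟨g, hg, -, -⟩ := exists_surv tab known hn h1 hR h (SitA.not_comm_of_dvd h hs hrs h6) [s] (by
    intro t ht
    rw [List.mem_singleton] at ht
    rw [ht]
    exact h6)
  rw [List.isEmpty_iff] at h5
  rw [h5] at hg
  simp at hg

/-- the `s`-elements of `R`, if `N` is commutative -/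
theorem orderOf_dvd_sub_one {G : Type*} [Group G] [Finite G] {O : Subgroup G} [O.Normal] {N : Subgroup (G ⧸ O)} {s k : ℕ}
    (h : Top G r O N) (hc : ∀ a b : N, a * b = b * a) (hs : s.Prime) (hrs : r ≠ s)
    (hsO : ¬ s ∣ Nat.card O) {t : G} (ht : orderOf t = s ^ k) : s ^ k ∣ r - 1 := by
  have hN := h.normal
  have hs' : Fact s.Prime := ⟨hs⟩
  have hr' : Fact r.Prime := ⟨h.prime⟩
  have hNr := h.card_of_comm hc
  have hNc : IsCyclic N := isCyclic_of_prime_card hNr
  let ψ : G →* MulAut N := (MulAut.conjNormal (H := N)).comp (QuotientGroup.mk' O)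
  have hcard : Nat.card (MulAut N) = r - 1 := by
    have e := IsCyclic.mulAutMulEquiv N
    rw [hNr] at e
    rw [Nat.card_congr e.toEquiv, Nat.card_eq_fintype_card, ZMod.card_units_eq_totient, Nat.totient_prime h.prime]
  rw [← hcard, ← ht]
  have h0 : orderOf (ψ t) = orderOf t := by
    apply Nat.dvd_antisymm (orderOf_map_dvd ψ t)
    apply orderOf_dvd_of_pow_eq_one
    have h1 : ψ (t ^ orderOf (ψ t)) = 1 := by rw [map_pow, pow_orderOf_eq_one]
    set w := t ^ orderOf (ψ t) with hw
    have h2 : QuotientGroup.mk' O w ∈ centralizer (N : Set (G ⧸ O)) := by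
      rw [mem_centralizer_iff]
      intro m hm
      have h2 : (ψ w) ⟨m, hm⟩ = ⟨m, hm⟩ := by rw [h1]; rfl
      have h3 : QuotientGroup.mk' O w * m * (QuotientGroup.mk' O w)⁻¹ = m := congrArg Subtype.val h2
      calc m * QuotientGroup.mk' O w =
          (QuotientGroup.mk' O w * m * (QuotientGroup.mk' O w)⁻¹) * QuotientGroup.mk' O w := by rw [h3]
        _ = _ := by group
    rw [h.centralizer_eq hc] at h2
    have h3 : orderOf (QuotientGroup.mk' O w) ∣ r := by
      rw [← hNr]
      exact Subgroup.orderOf_dvd_natCard _ h2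
    have h4 : orderOf w ∣ s ^ k := by
      rw [← ht, hw]
      exact orderOf_pow_dvd _
    have h5 : orderOf (QuotientGroup.mk' O w) = 1 := by
      apply Nat.eq_one_of_dvd_coprimes _ h3 ((orderOf_map_dvd _ _).trans h4)
      exact Nat.Coprime.pow_right _ ((Nat.coprime_primes h.prime hs).2 hrs)
    have h6 : w ∈ O := (QuotientGroup.eq_one_iff _).1 (orderOf_eq_one_iff.1 h5)
    have h7 : orderOf w ∣ Nat.card O := Subgroup.orderOf_dvd_natCard _ h6
    obtain ⟨j, hj, hjw⟩ := (Nat.dvd_prime_pow hs).1 h4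
    rw [hjw] at h7
    have hj0 : j = 0 := by
      by_contra hj1
      exact hsO ((dvd_pow_self s hj1).trans h7)
    rw [hj0, pow_zero] at hjw
    exact orderOf_eq_one_iff.1 hjw
  rw [← h0]
  exact orderOf_dvd_natCard _

/-- **two primes not adjacent to 2, and an element of order 4** -/
theorem false_of_na (tab : OrderTable.{u}) (known : Known.{u}) {s : ℕ}
    (hn : Nat.card T = n) (hr : r.Prime) (hs : s.Prime) (hnor : ∀ z : T, orderOf z ≠ r * 2)
    (hnos : ∀ z : T, orderOf z ≠ s * 2) (hchk : chkNA n l r s = true) (h4r : ¬ 4 ∣ r - 1) (hR : R ≠ ⊤)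
    (hrR : r ∣ Nat.card R) (hsR : s ∣ Nat.card R) {t : T} (htR : t ∈ R) (ht : orderOf t = 4) : False := by
  unfold chkNA at hchk
  simp only [Bool.and_eq_true, List.all_eq_true] at hchk
  obtain ⟨⟨⟨⟨⟨⟨⟨⟨h1, h2⟩, h3⟩, h4⟩, h5⟩, h6⟩, h7⟩, h8⟩, h9⟩ := hchk
  have hsq : ¬ r ^ 2 ∣ Nat.card R := by
    intro h
    rw [Nat.mod_eq_zero_of_dvd (h.trans (dvd_n hn))] at h3
    exact absurd h3 (by decide)
  have hsq' : ¬ s ^ 2 ∣ Nat.card R := by
    intro h
    rw [Nat.mod_eq_zero_of_dvd (h.trans (dvd_n hn))] at h5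
    exact absurd h5 (by decide)
  obtain ⟨O, hO, N, h⟩ := H257.El.exists_top hr hrR hsq
  have hr2 : r ≠ 2 := by simpa using h6
  have hs2 : s ≠ 2 := by simpa using h7
  have h2O : ¬ 2 ∣ Nat.card O := h.not_dvd_core Nat.prime_two hr2 (noR hnor)
    fun _ hb hd => okPow_spec h1 h8 Nat.prime_two hb (hd.trans (dvd_n hn))
  have hna : ¬ ∀ a b : N, a * b = b * a := by
    intro hc
    apply h4r
    have h10 : orderOf (⟨t, htR⟩ : R) = 2 ^ 2 := by
      rw [Subgroup.orderOf_mk, ht]
      norm_num
    exact orderOf_dvd_sub_one h hc Nat.prime_two hr2 h2O h10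
  obtain ⟨g, hg, -, hgc⟩ := exists_surv tab known hn h1 hR h hna [] (by simp)
  obtain ⟨h10, h11⟩ := h9 g hg
  rw [List.any_eq_true] at h11
  obtain ⟨a, -, h12⟩ := h11
  simp only [Bool.and_eq_true] at h12
  obtain ⟨⟨⟨h13, h14⟩, h15⟩, h16⟩ := h12
  have h17 : s ∣ Nat.card N := by
    refine h.dvd_of_na hna hs hs2 (noR hnos) hsR hsq' (a := a)
      (Nat.le_of_ble_eq_true h13) ?_ ?_ (by simpa using h16)
    · rw [hgc]
      exact Nat.dvd_of_mod_eq_zero (by simpa using h14)
    · rw [hgc]
      intro h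
      rw [Nat.mod_eq_zero_of_dvd h] at h15
      exact absurd h15 (by decide)
  rw [hgc] at h17
  rw [Nat.mod_eq_zero_of_dvd h17] at h10
  exact absurd h10 (by decide)

/-- the check for a pair `r, s` and a prime `q` not adjacent to 2 -/
def chkPairNA (n : ℕ) (l : List (ℕ × ℕ)) (r s q : ℕ) : Bool :=
  OrdDiv.valid l n && (n % r ^ 2 != 0) && okPair n l r s && (n % q ^ 2 != 0) && (q != 2) &&
    (surv n l r [s]).all fun g => (ordN g % q != 0) && (List.range 60).any fun a =>
      Nat.ble 1 a && (ordN g % 2 ^ a == 0) && (ordN g % 2 ^ (a + 1) != 0) && (2 ^ a % q != 1)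

/-- **a pair of non-adjacent primes `r, s` and a prime `q` not adjacent to 2** -/
theorem false_of_pair_na (tab : OrderTable.{u}) (known : Known.{u}) {s q : ℕ}
    (hn : Nat.card T = n) (hr : r.Prime) (hs : s.Prime) (hq : q.Prime) (hno : ∀ z : T, orderOf z ≠ r * s)
    (hnoq : ∀ z : T, orderOf z ≠ q * 2) (hchk : chkPairNA n l r s q = true) (hR : R ≠ ⊤)
    (hrR : r ∣ Nat.card R) (hsR : s ∣ Nat.card R) (hqR : q ∣ Nat.card R) : False := by
  unfold chkPairNA at hchk
  simp only [Bool.and_eq_true, List.all_eq_true] at hchk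
  obtain ⟨⟨⟨⟨⟨h1, h3⟩, h4⟩, h5⟩, h7⟩, h9⟩ := hchk
  have hsq : ¬ r ^ 2 ∣ Nat.card R := by
    intro h
    rw [Nat.mod_eq_zero_of_dvd (h.trans (dvd_n hn))] at h3
    exact absurd h3 (by decide)
  have hsq' : ¬ q ^ 2 ∣ Nat.card R := by
    intro h
    rw [Nat.mod_eq_zero_of_dvd (h.trans (dvd_n hn))] at h5
    exact absurd h5 (by decide)
  obtain ⟨O, hO, N, h⟩ := H257.El.exists_top hr hrR hsq
  have hq2 : q ≠ 2 := by simpa using h7
  unfold okPair at h4
  rw [Bool.and_eq_true, Bool.and_eq_true, Bool.and_eq_true] at h4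
  obtain ⟨⟨⟨k1, k2⟩, k3⟩, k4⟩ := h4
  have hrs : r ≠ s := by simpa using k1
  have k2' : ¬ s ∣ r - 1 := by
    intro hd
    rw [Nat.mod_eq_zero_of_dvd hd] at k2
    exact absurd k2 (by decide)
  have h6 : s ∣ Nat.card N :=
    h.dvd_simple hs hrs (noR hno) (fun _ hb hd => okPow_spec h1 k4 hs hb (hd.trans (dvd_n hn))) k2' hsR
  have hna := SitA.not_comm_of_dvd h hs hrs h6
  obtain ⟨g, hg, -, hgc⟩ := exists_surv tab known hn h1 hR h hna [s] (by
    intro t ht
    rw [List.mem_singleton] at ht
    rw [ht]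
    exact h6)
  obtain ⟨h10, h11⟩ := h9 g hg
  rw [List.any_eq_true] at h11
  obtain ⟨a, -, h12⟩ := h11
  simp only [Bool.and_eq_true] at h12
  obtain ⟨⟨⟨h13, h14⟩, h15⟩, h16⟩ := h12
  have h17 : q ∣ Nat.card N := by
    refine h.dvd_of_na hna hq hq2 (noR hnoq) hqR hsq' (a := a)
      (Nat.le_of_ble_eq_true h13) ?_ ?_ (by simpa using h16)
    · rw [hgc]
      exact Nat.dvd_of_mod_eq_zero (by simpa using h14)
    · rw [hgc]
      intro h
      rw [Nat.mod_eq_zero_of_dvd h] at h15
      exact absurd h15 (by decide)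
  rw [hgc] at h17
  rw [Nat.mod_eq_zero_of_dvd h17] at h10
  exact absurd h10 (by decide)

/-- the numeric check for `not_SC_num` (`o = 1`) -/
def okSC (n v : ℕ) : Bool := (n % v == 0) && (n % v ^ 2 != 0) && Nat.blt ((n / v) % v) (v - 1)

theorem not_SC_of_okSC (hn : Nat.card T = n) {v : ℕ} (hv : v.Prime) (hO : Nat.card (Cfsg.Out T) = 1)
    (h : okSC n v = true) : ¬ SC T v := by
  unfold okSC at h
  rw [Bool.and_eq_true, Bool.and_eq_true] at h
  obtain ⟨⟨h1, h2⟩, h3⟩ := h
  refine not_SC_num hn hv (Nat.dvd_of_mod_eq_zero (by simpa using h1)) ?_ hO.le ?_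
  · intro h
    rw [Nat.mod_eq_zero_of_dvd h] at h2
    exact absurd h2 (by decide)
  · rw [one_mul]
    exact Nat.blt_eq.mp h3

/-- **the row from two primes not adjacent to 2 and elements of orders `4` and `4 k`** -/
theorem row_of_na (tab : OrderTable.{u}) (known : Known.{u}) {s : ℕ}
    (hn : Nat.card T = n) (hr : r.Prime) (hs : s.Prime) (hnor : ∀ z : T, orderOf z ≠ r * 2)
    (hnos : ∀ z : T, orderOf z ≠ s * 2) (hchk : chkNA n l r s = true) (h4r : ¬ 4 ∣ r - 1)
    (hO : Nat.card (Cfsg.Out T) = 1) (h1 : okSC n r = true) (h2 : okSC n s = true) {k : ℕ} (hk : 1 < k) {t : T}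
    (ht : orderOf t = 4 * k) : Row T := by
  intro M hM
  left
  have hMt : M ≠ ⊤ := hM.1
  by_cases hrM : r ∣ Nat.card M
  swap
  · exact Two.of_not_dvd hrM (not_SC_of_okSC hn hr hO h1)
  by_cases hsM : s ∣ Nat.card M
  swap
  · exact Two.of_not_dvd hsM (not_SC_of_okSC hn hs hO h2)
  by_cases h4 : ∃ u ∈ M, orderOf u = 4
  · obtain ⟨u, huM, hu⟩ := h4
    exact (false_of_na tab known hn hr hs hnor hnos hchk h4r hMt hrM hsM huM hu).elim
  push Not at h4
  have hpow : ∀ u : T, orderOf u = 4 * k → orderOf (u ^ k) = 4 := by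
    intro u hu
    rw [orderOf_pow_of_dvd (by omega) (by rw [hu]; exact dvd_mul_left _ _), hu, Nat.mul_div_cancel _ (by omega)]
  refine Two.of_orders (a := 4) (b := 4 * k) (by omega) (hpow t ht) ht h4 fun m hm hmk => ?_
  exact h4 (m ^ k) (pow_mem hm k) (hpow m hmk)

/-- **the row from a pair of non-adjacent primes** -/
theorem row_of_pair (tab : OrderTable.{u}) (known : Known.{u}) {s : ℕ}
    (hn : Nat.card T = n) (hr : r.Prime) (hs : s.Prime) (hno : ∀ z : T, orderOf z ≠ r * s)
    (hchk : chkPair n l r s = true) (h1 : ¬ SC T r) (h2 : ¬ SC T s) : Row T := by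
  intro M hM
  left
  have hMt : M ≠ ⊤ := hM.1
  by_cases hrM : r ∣ Nat.card M
  swap
  · exact Two.of_not_dvd hrM h1
  by_cases hsM : s ∣ Nat.card M
  swap
  · exact Two.of_not_dvd hsM h2
  exact (false_of_pair tab known hn hr hs hno hchk hMt hrM hsM).elim

end eng

end Cfsg.Agent.H183.Der
end
end
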